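import Cfsg.Agent.H345.RecCo2
import Cfsg.Agent.H345.RecCo3Data
import Cfsg.Agent.H474.RealCo.CoThreeElt
import Cfsg.Agent.H143.RowCo3
import Cfsg.Agent.H555.TwoSp.CoThreeSeven
import Cfsg.Agent.H815.CoSep
import Cfsg.Agent.S2071

/-!
# S3484, row `Co3`: `Co3` is recognizable by the set of element orders (helper345, task 2852)
-/

set_option autoImplicit false

namespace Cfsg.Agent.H345.RecCo

open Subgroup Cfsg Cfsg.Agent.OrdDiv Cfsg.Agent.H436 Cfsg.Agent.H58.Rec
open Cfsg.Agent.H455.Isolated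
open Cfsg.Agent.H537.Cop (CB)

universe u v

theorem card_co3 : Nat.card Spor.Co3 = 495766656000 := NotCT.Orders.co3 ⟨MulEquiv.refl _⟩

instance finite_co3 : Finite Spor.Co3 := Nat.finite_of_card_ne_zero (by rw [card_co3]; norm_num)

theorem centralizer_zpowers {G : Type*} [Group G] (y : G) :
    centralizer ((zpowers y : Subgroup G) : Set G) = centralizer ({y} : Set G) := by
  ext x
  rw [mem_centralizer_singleton_iff, mem_centralizer_iff]
  constructor
  · intro h
    exact (h y (mem_zpowers y)).symm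
  · rintro h _ ⟨k, rfl⟩
    exact ((show Commute y x from h.symm).zpow_left k).eq

theorem co3_cent_seven {y : Spor.Co3} (hy : orderOf y = 7) : Nat.card (centralizer ({y} : Set Spor.Co3)) = 42 := by
  obtain ⟨k, m, hkm, h⟩ := Cfsg.Agent.H555.TwoSp.cn7 (T := Spor.Co3) ⟨MulEquiv.refl _⟩
  have h1 := (h (zpowers y) (by rw [Nat.card_zpowers, hy])).1
  rw [centralizer_zpowers] at h1
  have h2 := Cfsg.Agent.H143.RowCo3.centralizer_dvd_of (L := Spor.Co3) ⟨MulEquiv.refl _⟩ (y := y)
    (by rw [hy]; norm_num) (by rw [hy]; norm_num)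
  rw [h1] at h2 ⊢
  rcases hkm with ⟨rfl, -⟩ | ⟨rfl, -⟩ | ⟨rfl, -⟩ | ⟨rfl, -⟩ <;> revert h2 <;> norm_num

theorem co3_cent_23 {y : Spor.Co3} (hy : orderOf y = 23) : Nat.card (centralizer ({y} : Set Spor.Co3)) = 23 := by
  have h := Cfsg.Agent.H555.TwoSp.c23 (T := Spor.Co3) ⟨MulEquiv.refl _⟩ (zpowers y) (by rw [Nat.card_zpowers, hy])
  rwa [centralizer_zpowers] at h

theorem co3_cent_11 {y : Spor.Co3} (hy : orderOf y = 11) : Nat.card (centralizer ({y} : Set Spor.Co3)) = 22 := by
  have h := Cfsg.Agent.H555.TwoSp.c11 (T := Spor.Co3) ⟨MulEquiv.refl _⟩ (zpowers y) (by rw [Nat.card_zpowers, hy])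
  rwa [centralizer_zpowers] at h

theorem co3_iso : Isolated Spor.Co3 23 := isolated_of_sc (by norm_num) fun _ hx => co3_cent_23 hx

/-- an element of order `11 k` : `11 k ∣ 22` -/
theorem co3_eleven {k : ℕ} (hk : 0 < k) (h : HasOrd Spor.Co3 (11 * k)) : 11 * k ∣ 22 := by
  obtain ⟨g, hg⟩ := h
  have h1 : orderOf (g ^ k) = 11 := by
    rw [orderOf_pow_of_dvd hk.ne' (by rw [hg]; exact dvd_mul_left k 11), hg]
    exact Nat.mul_div_cancel _ hk
  have hm : g ∈ centralizer ({g ^ k} : Set Spor.Co3) := mem_centralizer_singleton_iff.2 (by rw [← pow_succ, ← pow_succ'])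
  have h2 := orderOf_dvd_natCard (⟨g, hm⟩ : centralizer ({g ^ k} : Set Spor.Co3))
  rwa [Subgroup.orderOf_mk, hg, co3_cent_11 h1] at h2

theorem co3_n33 : ¬ HasOrd Spor.Co3 (11 * 3) := fun h => by
  have := co3_eleven (by norm_num) h
  revert this; norm_num

theorem co3_n55 : ¬ HasOrd Spor.Co3 (11 * 5) := fun h => by
  have := co3_eleven (by norm_num) h
  revert this; norm_num

theorem co3_n77 : ¬ HasOrd Spor.Co3 (11 * 7) := fun h => by
  have := co3_eleven (by norm_num) h
  revert this; norm_num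

theorem co3_n121 : ¬ HasOrd Spor.Co3 (11 * 11) := fun h => by
  have := co3_eleven (by norm_num) h
  revert this; norm_num

theorem co3_n44 : ¬ HasOrd Spor.Co3 (22 * 2) := fun h => by
  have := co3_eleven (k := 4) (by norm_num) h
  revert this; norm_num

theorem co3_21 : HasOrd Spor.Co3 21 := by
  have h7 : Fact (Nat.Prime 7) := ⟨by norm_num⟩
  have h3 : Fact (Nat.Prime 3) := ⟨Nat.prime_three⟩
  obtain ⟨x, hx⟩ := exists_prime_orderOf_dvd_card' (G := Spor.Co3) 7 (by rw [card_co3]; norm_num)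
  obtain ⟨y, hy⟩ := exists_prime_orderOf_dvd_card' (G := centralizer ({x} : Set Spor.Co3)) 3
    (by rw [co3_cent_seven hx]; norm_num)
  have hxy : Commute x (y : Spor.Co3) := (mem_centralizer_singleton_iff.1 y.2).symm
  have := hasOrd_mul hxy hx (show orderOf (y : Spor.Co3) = 3 by rw [Subgroup.orderOf_coe, hy]) (by norm_num)
  simpa using this

theorem co3_n42 : ¬ HasOrd Spor.Co3 (2 * 21) := by
  rintro ⟨g, hg⟩
  have h7 : Fact (Nat.Prime 7) := ⟨by norm_num⟩
  obtain ⟨a, y, r, s, ha, hy, hay, hra, hry, -, -⟩ := Cfsg.Agent.H474.RealCo.exists_four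
  have hg6 : orderOf (g ^ 6) = 7 := by
    rw [orderOf_pow_of_dvd (by norm_num) (by rw [hg]; norm_num), hg]
  -- Sylow 7-subgroups
  have hsyl : ∀ x : Spor.Co3, orderOf x = 7 → ∃ P : Sylow 7 Spor.Co3, (P : Subgroup Spor.Co3) = zpowers x := by
    intro x hx
    have hp : IsPGroup 7 (zpowers x) := IsPGroup.of_card (n := 1) (by rw [Nat.card_zpowers, hx, pow_one])
    have hi : ¬ 7 ∣ (zpowers x).index := by
      intro h1
      have h2 : 7 * 7 ∣ Nat.card Spor.Co3 := by
        rw [← Subgroup.card_mul_index (zpowers x), Nat.card_zpowers, hx]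
        exact Nat.mul_dvd_mul_left 7 h1
      rw [card_co3] at h2
      revert h2
      norm_num
    exact ⟨hp.toSylow hi, rfl⟩
  obtain ⟨P, hP⟩ := hsyl _ hg6
  obtain ⟨Q, hQ⟩ := hsyl _ ha
  obtain ⟨h, hh⟩ := MulAction.exists_smul_eq Spor.Co3 P Q
  -- the conjugate of `g`
  set b := h * g * h⁻¹ with hb
  have hbo : orderOf b = 42 := by
    rw [hb, ← MulAut.conj_apply, MulEquiv.orderOf_eq, hg]
  have haz : a ∈ zpowers (b ^ 6) := by
    have h1 : a ∈ (Q : Subgroup Spor.Co3) := by rw [hQ]; exact mem_zpowers a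
    rw [← hh] at h1
    have h2 : ∃ x ∈ (P : Subgroup Spor.Co3), h * x * h⁻¹ = a := by
      rw [Sylow.coe_subgroup_smul] at h1
      obtain ⟨x, hx, hxa⟩ := (Subgroup.mem_smul_pointwise_iff_exists a (MulAut.conj h) _).1 h1
      exact ⟨x, hx, hxa⟩
    obtain ⟨x, hx, rfl⟩ := h2
    rw [hP] at hx
    obtain ⟨i, rfl⟩ := mem_zpowers_iff.1 hx
    refine mem_zpowers_iff.2 ⟨i, ?_⟩
    rw [hb, conj_pow, conj_zpow]
  have hba : Commute b a := by
    obtain ⟨i, rfl⟩ := mem_zpowers_iff.1 haz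
    exact ((Commute.refl b).pow_right 6).zpow_right i
  have hbm : b ∈ centralizer ({a} : Set Spor.Co3) := mem_centralizer_singleton_iff.2 hba.eq
  have hzc : zpowers b = centralizer ({a} : Set Spor.Co3) := by
    refine eq_of_le_of_card_ge ((zpowers_le).2 hbm) ?_
    rw [co3_cent_seven ha, Nat.card_zpowers, hbo]
  have hrm : r ∈ zpowers b := by rw [hzc]; exact mem_centralizer_singleton_iff.2 hra
  have hym : y ∈ zpowers b := by rw [hzc]; exact mem_centralizer_singleton_iff.2 hay.symm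
  have hry' : r * y = y * r := by
    obtain ⟨i, rfl⟩ := mem_zpowers_iff.1 hrm
    obtain ⟨j, rfl⟩ := mem_zpowers_iff.1 hym
    rw [← zpow_add, ← zpow_add, add_comm]
  rw [hry', mul_inv_cancel_right] at hry
  have h10 : y ^ 2 = 1 := by
    rw [pow_two]
    nth_rewrite 2 [hry]
    exact mul_inv_cancel y
  have h11 := orderOf_dvd_of_pow_eq_one h10
  rw [hy] at h11
  revert h11
  norm_num

theorem co3_good : Good Spor.Co3 23 where
  prime := by norm_num
  ne2 := by norm_num
  dvd := by rw [card_co3]; norm_num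
  iso := co3_iso
  ex := ⟨21, by decide, by norm_num, co3_21, co3_n42⟩

/-- `Co3` contains `3 ^ 5 : 22` -/
theorem co3_frob : HasFrob Spor.Co3 3 22 :=
  (RecCo3Data.frob (fun h => co3_n33 (h.congr SporRec.Co3.Model.equivCo3))).congr SporRec.Co3.Model.equivCo3

theorem mem_co3 {r : ℕ} (hr : r.Prime) (h : r ∣ Nat.card Spor.Co3) : r ∈ ps := by
  refine mem_of_dvd (n := 18) ps prime_ps hr (h.trans ?_)
  rw [card_co3]
  norm_num [ps]

/-- **`Co3` is recognizable by the set of element orders.** -/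
theorem rec_co3 (hN : NameHyp.{u}) {G : Type u} [Group G] [Finite G] {M : Type v} [Group M] [Finite M]
    (hM : Spor.IsoCo3 M) (h : Same G M) : Nonempty (G ≃* M) := by
  obtain ⟨e⟩ := hM
  have hs : Same G Spor.Co3 := same_congr h e
  have hG23 : Good G 23 := co3_good.of_same hs
  have hdv : ∀ q, q.Prime → q ∣ 495766656000 → q ∣ Nat.card G := fun q hq hd =>
    (dvd_of_same hs hq).2 (by rw [card_co3]; exact hd)
  have hGps : ∀ q, q.Prime → q ∣ Nat.card G → q ∈ ps := fun q hq hd => mem_co3 hq ((dvd_of_same hs hq).1 hd)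
  have hns : ¬ Group.IsSolvable G := by
    refine not_solvable_of_same hs (r := 23) (s := 11) (t := 5) (by norm_num) (by norm_num) (by norm_num) (by norm_num)
      (by norm_num) (by norm_num) (by rw [card_co3]; norm_num) (by rw [card_co3]; norm_num) (by rw [card_co3]; norm_num)
      ?_ ?_ co3_n55
    · exact (isolated_iff.1 co3_iso) 11 (by norm_num) (by norm_num)
    · exact (isolated_iff.1 co3_iso) 5 (by norm_num) (by norm_num)
  obtain ⟨X, _, _, π, S, hR⟩ := exists_red hns (hdv 2 (by norm_num) (by norm_num)) hG23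
  have h23 : Red π S 23 := hR 23 hG23
  obtain ⟨g, hg, hS⟩ := h23.exists_name hN (ps := ps) (rs := [23]) (B := 23) (N := 13) (by norm_num)
    (by decide) (by norm_num) (by decide) hGps (by
      intro q hq
      rw [List.mem_singleton] at hq
      subst hq
      exact h23.dvd)
  have hF := frob_of_mem h23 hg hS
  have hk : ∀ p : ℕ, p.Prime → p ∣ Nat.card G → p ≠ 2 → ¬ p ∣ Nat.card π.ker := by
    intro p hp hpG hp2
    have h1 := hGps p hp hpG
    have hq : Nat.Prime 23 := by norm_num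
    simp only [ps, List.mem_cons, List.mem_nil_iff, or_false] at h1
    rcases h1 with rfl | rfl | rfl | rfl | rfl | rfl
    · exact absurd rfl hp2
    · exact h23.kill' hp hq (by norm_num) hF fun hn => co3_n33 ((hs _).1 hn)
    · exact h23.kill' hp hq (by norm_num) hF fun hn => co3_n55 ((hs _).1 hn)
    · exact h23.kill' hp hq (by norm_num) hF fun hn => co3_n77 ((hs _).1 hn)
    · exact h23.kill' hp hq (by norm_num) hF fun hn => co3_n121 ((hs _).1 hn)
    · exact h23.not_dvd
  have h9 : HasOrd G 9 := (hs 9).2 Cfsg.Agent.H604.Sax.McLEl.exists_nine_co3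
  have h3k := hk 3 (by norm_num) (hdv 3 (by norm_num) (by norm_num)) (by norm_num)
  rw [lst_eq] at hg
  simp only [List.mem_cons, List.mem_nil_iff, or_false] at hg
  rcases hg with rfl | rfl | rfl | rfl | rfl
  · exact (no_m23 h23 h9 h3k hS).elim
  · exact (no_m24 h23 h9 h3k hS).elim
  · obtain ⟨f⟩ : Spor.IsoCo2 S := hS.real
    have h28 : HasOrd S 28 := HasOrd.congr Cfsg.Agent.H815.CoSep.sep28.1 f.symm
    exact (Cfsg.Agent.H815.CoSep.sep28.2 ((hs 28).1 (h23.hasOrd' h28))).elim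
  · obtain ⟨f⟩ : Spor.IsoCo3 S := hS.real
    have hk2 : ¬ 2 ∣ Nat.card π.ker := h23.kill' Nat.prime_two Nat.prime_three (by norm_num)
      (co3_frob.congr f.symm) fun hn => co3_n44 ((hs _).1 hn)
    obtain ⟨k⟩ := finish h23 (fun p hp hpG => by
      by_cases h2 : p = 2
      · rw [h2]; exact hk2
      · exact hk p hp hpG h2) f (Or.inl Cfsg.Agent.S2071.result)
    exact ⟨k.trans e.symm⟩
  · exact (no_psl h23 (hdv 5 (by norm_num) (by norm_num))
      (hk 5 (by norm_num) (hdv 5 (by norm_num) (by norm_num)) (by norm_num)) hS).elim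

end Cfsg.Agent.H345.RecCo
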