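import Cfsg.Agent.H839.Rad.Base
import Cfsg.Agent.H959.Rad3.Iface
import Cfsg.Agent.BpSpor.Row.Co1
import Cfsg.Agent.LThreeCo1.Ranks
import Cfsg.Agent.LThreeCo1.RelQ

/-!
# The row of `Co1` for elements of order three (helper345, for S3854, S3832, S4336)

Every element `c` of order three of `Co1` has an involution `y` with `(c y)^n = 1`, `n = 5`, `7` or `11`.
-/

set_option autoImplicit false
set_option maxRecDepth 20000

namespace Cfsg.Agent.H345.IRowCo

open Subgroup Cfsg
open Cfsg.Agent.H459.Rad Cfsg.Agent.H959.Rad3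
open Cfsg.Agent.SporadicStructure.Co0Matrix Cfsg.Agent.CoOneType.CoEval
open Cfsg.Agent.LThreeCo1 Cfsg.Agent.LThreeCo1.Ranks Cfsg.Agent.LThreeCo1.Class
open Cfsg.Agent.LThreeCo1.RelQ (M e rep)
open Cfsg.Spor (Co1)

theorem rep_unique {g h : Co0} {R : List (List ℤ)} (hg : Rep g R) (hh : Rep h R) : g = h := by
  have h1 := hg.apply (v := Cfsg.Agent.CoOneType.CoEval.beta) (l := betaL) (by decide) rfl
  have h2 := hh.apply (v := Cfsg.Agent.CoOneType.CoEval.beta) (l := betaL) (by decide) rfl
  exact eq_of_fix (Subtype.ext (h1.trans h2.symm))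

/-- powers of words -/
def wpow (w : List ℕ) : ℕ → List ℕ
  | 0 => []
  | n + 1 => w ++ wpow w n

theorem wpow_prod {G : Type*} [Group G] (f : ℕ → G) (w : List ℕ) (n : ℕ) :
    ((wpow w n).map f).prod = (w.map f).prod ^ n := by
  induction n with
  | zero => rw [wpow, List.map_nil, List.prod_nil, pow_zero]
  | succ n ih => rw [wpow, List.map_append, List.prod_append, ih, pow_succ']

/-- the value of a word in `Co1` -/
noncomputable def vl (w : List ℕ) : Co1 := (w.map fun i => pr (e i)).prod

theorem vl_append (w w' : List ℕ) : vl (w ++ w') = vl w * vl w' := by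
  rw [vl, vl, vl, List.map_append, List.prod_append]

theorem vl_wpow (w : List ℕ) (n : ℕ) : vl (wpow w n) = vl w ^ n := wpow_prod _ w n

theorem vl_one {w : List ℕ} (h : relB M w = true) : vl w = 1 := eq_one_of_relB rep h

theorem kill {K : Type*} [Group K] (hZ : center K = ⊥) {a y : K} {n : ℕ} (ho : orderOf a = 3)
    (hI : Inv (MulAut.conj a)) (hy : y * y = 1) (h : (a * y) ^ n = 1) (hn : Nat.Coprime n 6) : False := by
  refine not_solvable_of_coprime (a := a) (b := y) (k := 1) (n := n) (by rw [← ho, pow_orderOf_eq_one])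
    (by rw [pow_one, pow_two, hy]) h hn ?_ (hI.solvable hZ hy)
  intro h1
  have h2 : a = y⁻¹ := eq_inv_of_mul_eq_one_left h1
  have h3 : a ^ 2 = 1 := by rw [h2, inv_pow, pow_two, hy, inv_one]
  have h4 := orderOf_dvd_of_pow_eq_one h3
  rw [ho] at h4
  norm_num at h4

/-- the involutions -/
def y0 : List ℕ := [33, 30, 33, 32, 33, 30, 30, 30, 30, 30, 33]
def y6 : List ℕ := [29, 34, 34, 10, 34, 29, 29]
def y8 : List ℕ := [5, 33, 10, 33, 5, 5]
def y12 : List ℕ := [29, 31, 33, 10, 33, 31, 29, 29]

theorem k0 : (relB M (y0 ++ y0) && relB M (wpow ([1] ++ y0) 5)) = true := by decide +kernel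
theorem k6 : (relB M (y6 ++ y6) && relB M (wpow ([1, 2, 2, 3, 3, 4, 4] ++ y6) 11)) = true := by decide +kernel
theorem k8 : (relB M (y8 ++ y8) && relB M (wpow ([29] ++ y8) 11)) = true := by decide +kernel
theorem k12 : (relB M (y12 ++ y12) && relB M (wpow ([1, 2] ++ y12) 7)) = true := by decide +kernel

theorem kill_word (hZ : center Co1 = ⊥) {w v : List ℕ} {n : ℕ} (ho : orderOf (vl w) = 3)
    (hI : Inv (MulAut.conj (vl w))) (h : (relB M (v ++ v) && relB M (wpow (w ++ v) n)) = true)
    (hn : Nat.Coprime n 6) : False := by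
  rw [Bool.and_eq_true] at h
  refine kill hZ ho hI (y := vl v) (n := n) ?_ ?_ hn
  · rw [← vl_append]
    exact vl_one h.1
  · rw [← vl_append, ← vl_wpow]
    exact vl_one h.2

theorem e_eq {i : ℕ} (h : M i = Rel.M i) : e i = Rel.e i := by
  have h1 := rep i
  rw [h] at h1
  exact rep_unique h1 (Rel.rep i)

theorem vl_eq {w : List ℕ} (h : ∀ i ∈ w, M i = Rel.M i) : vl w = QuotientGroup.mk (w.map Rel.e).prod := by
  rw [vl, map_prod_pr, List.map_congr_left fun i hi => e_eq (h i hi)]
  rfl

theorem eq1 : M 1 = Rel.M 1 := rfl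
theorem eq2 : M 2 = Rel.M 2 := rfl
theorem eq3 : M 3 = Rel.M 3 := rfl
theorem eq4 : M 4 = Rel.M 4 := rfl
theorem eq29 : M 29 = Rel.M 29 := rfl

theorem vl0 : vl [1] = QuotientGroup.mk c0 := by
  rw [c0_eq, vl_eq]
  · simp only [List.map_cons, List.map_nil, List.prod_cons, List.prod_nil, mul_one]
  · intro i hi
    simp only [List.mem_cons, List.not_mem_nil, or_false] at hi
    rw [hi]
    exact eq1

theorem vl8 : vl [29] = QuotientGroup.mk c8 := by
  rw [vl_eq]
  · simp only [List.map_cons, List.map_nil, List.prod_cons, List.prod_nil, mul_one]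
    rfl
  · intro i hi
    simp only [List.mem_cons, List.not_mem_nil, or_false] at hi
    rw [hi]
    exact eq29

theorem vl6 : vl [1, 2, 2, 3, 3, 4, 4] = QuotientGroup.mk c6 := by
  have h := Rel.wd_prod 79
  have e1 : Rel.wd 79 = [1, 2, 2, 3, 3, 4, 4] := by decide
  rw [e1] at h
  rw [vl_eq]
  · exact congrArg _ h
  · intro i hi
    simp only [List.mem_cons, List.not_mem_nil, or_false] at hi
    rcases hi with rfl | rfl | rfl | rfl | rfl | rfl | rfl
    · exact eq1
    · exact eq2
    · exact eq2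
    · exact eq3
    · exact eq3
    · exact eq4
    · exact eq4

theorem vl12 : vl [1, 2] = QuotientGroup.mk c12 := by
  have h := Rel.wd_prod 4
  have e1 : Rel.wd 4 = [1, 2] := by decide
  rw [e1] at h
  rw [vl_eq]
  · exact congrArg _ h
  · intro i hi
    simp only [List.mem_cons, List.not_mem_nil, or_false] at hi
    rcases hi with rfl | rfl
    · exact eq1
    · exact eq2

theorem center_co1 : center Co1 = ⊥ := by
  have hs : IsSimpleGroup Co1 := Cfsg.Agent.S0399.result.1
  rcases (inferInstance : (center Co1).Normal).eq_bot_or_eq_top with h1 | h1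
  · exact h1
  · exfalso
    have hc : ∀ a b : Co1, a * b = b * a := fun a b => (mem_center_iff.1 (h1 ▸ mem_top b)) a
    let _ : CommGroup Co1 := { mul_comm := hc }
    have h2 : (Nat.card Co1).Prime := IsSimpleGroup.prime_card
    rw [Cfsg.Agent.S0399.result.2] at h2
    norm_num at h2

theorem inn_co1 : IRowInn Co1 := by
  intro s hs _ hI
  obtain ⟨c, hc, g, hg⟩ := Ranks.classes hs
  have hI' := hI.conj g
  have ho : orderOf (g * s * g⁻¹) = 3 := by
    rw [← hs]
    exact orderOf_injective (MulAut.conj g).toMonoidHom (MulAut.conj g).injective s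
  rw [hg] at hI' ho
  rcases hc with rfl | rfl | rfl | rfl
  · rw [← vl0] at hI' ho
    exact kill_word center_co1 ho hI' k0 (by norm_num)
  · rw [← vl6] at hI' ho
    exact kill_word center_co1 ho hI' k6 (by norm_num)
  · rw [← vl8] at hI' ho
    exact kill_word center_co1 ho hI' k8 (by norm_num)
  · rw [← vl12] at hI' ho
    exact kill_word center_co1 ho hI' k12 (by norm_num)

/-- **`Co1`** -/
theorem irow_co1 {K : Type*} [Group K] [Finite K] [IsSimpleGroup K] (h : Cfsg.Spor.IsoCo1 K) :
    Cfsg.Agent.H959.Rad3.IRow K := by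
  have hin := Cfsg.Agent.BpSpor.Inn.co1 (⟨MulEquiv.refl _⟩ : Cfsg.Spor.IsoCo1 Co1)
  obtain ⟨e⟩ := h
  have : Finite Co1 := Finite.of_equiv _ e.toEquiv
  exact IRow.congr e (IRowInn.irow center_co1 (hin 3 Nat.prime_three (by norm_num)) inn_co1)

end Cfsg.Agent.H345.IRowCo
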