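import Cfsg.Agent.H112.Rad3.Emb
import Cfsg.Agent.TypeM.FactsMcL
import Cfsg.Agent.NotCT.Orders
import Cfsg.Agent.KFacts.CoTwo.QuotInst
import Cfsg.Agent.Schreier.CoTwoStab

/-!
# The row of `Co2` for elements of order three (helper345, for S3854, S3832, S4336)

`McL` lies in `Co2` with index `2^11 · 23`.
-/

set_option autoImplicit false

namespace Cfsg.Agent.H345.IRowCo

open Subgroup Cfsg

theorem oddInn_co2 {K : Type*} [Group K] (h : Spor.IsoCo2 K) : Cfsg.Agent.BpSpor.Inn.OddInn K := by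
  obtain ⟨e⟩ := h
  have := Cfsg.Agent.Schreier.CoTwoStab.finite
  exact Cfsg.Agent.BpSpor.Inn.OddInn.congr e
    (Cfsg.Agent.BpSpor.Inn.of_inner fun α => Cfsg.Agent.KFacts.CoTwo.QuotInst.dataT.allInner α)

theorem mcl_le : Spor.McL ≤ Spor.Co2 := le_inf (inf_le_left.trans inf_le_left) inf_le_right

/-- **`Co2`** -/
theorem irow_co2 {K : Type*} [Group K] [Finite K] [IsSimpleGroup K] (h : Cfsg.Spor.IsoCo2 K) :
    Cfsg.Agent.H959.Rad3.IRow K := by
  have hcard := NotCT.Orders.co2 h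
  have hin := oddInn_co2 h
  have hM : Spor.IsoMcL ↥Spor.McL := ⟨MulEquiv.refl _⟩
  have hs : IsSimpleGroup ↥Spor.McL := (Cfsg.Agent.TypeM.FactsMcL.facts hM).2.1
  have hc := NotCT.Orders.mcl hM
  obtain ⟨e⟩ := h
  exact H112.Rad3.irow_of_emb (e.symm.toMonoidHom.comp (Subgroup.inclusion mcl_le))
    (e.symm.injective.comp (Subgroup.inclusion_injective mcl_le)) (m := 47104) hc
    (by rw [hcard]) (by norm_num) (by norm_num) (H112.Rad3.not_solvable hc (by norm_num) (by norm_num)) hin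

end Cfsg.Agent.H345.IRowCo
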