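import Cfsg.Agent.H839.Rad.Base
import Cfsg.Agent.H959.Rad3.Iface
import Cfsg.Agent.BpSpor.Row.Co3
import Cfsg.Agent.H143.Co3Inv
import Cfsg.Agent.CpAutCo3.MTw
import Cfsg.Agent.KFacts.Co3D4.Model
import Cfsg.Agent.Co2Type.Setup
import Cfsg.Agent.SporRec.TwoSp6.Sp
import Cfsg.Agent.CTwoTab.Co3

/-!
# The row of `Co3` for elements of order three (helper345, for S3854, S3832, S4336)

Every element of order three commutes with an involution, whose centralizer is `2.Sp6(2)` or `2 × M12`.
-/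

set_option autoImplicit false

namespace Cfsg.Agent.H345.IRowCo

open Subgroup Cfsg
open Cfsg.Agent.H839.Rad (RadFree false_of_comm rc_conj mem_rad)
open Cfsg.Agent.H459.Rad Cfsg.Agent.H959.Rad3
open Cfsg.Agent.SporRec.Co3.Chain (G3)
open Cfsg.Agent.SporRec.Co3.Ident (Z)
open Cfsg.Agent.CpAutCo3.MTw (ww ee wC ker_cases cls)

theorem not_solvable3 {S : Type*} [Group S] [Finite S] [IsSimpleGroup S] (h : ¬ (Nat.card S).Prime) :
    ¬ Group.IsSolvable S := by
  intro hs
  have hc := IsSimpleGroup.comm_iff_isSolvable.2 hs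
  let _ : CommGroup S := { mul_comm := hc }
  exact h IsSimpleGroup.prime_card

/-- a group with a kernel of order at most two -/
theorem radFree_of {H L : Type*} [Group H] [Finite H] [Group L] [Finite L] [IsSimpleGroup L] (π : H →* L)
    (hs : Function.Surjective π) {z : H} (hz : z * z = 1) (hk : ∀ g, π g = 1 → g = 1 ∨ g = z)
    (hL : ¬ (Nat.card L).Prime) : RadFree 3 H := by
  refine RadFree.of_surj Nat.prime_three π hs ?_ (RadFree.of_simple (by norm_num) (not_solvable3 hL))
  intro x hx ho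
  have h2 : x ^ 2 = 1 := by
    rcases hk x hx with h | h
    · rw [h, one_pow]
    · rw [h, pow_two, hz]
  have h3 := orderOf_dvd_of_pow_eq_one h2
  rw [ho] at h3
  norm_num at h3

/-- centralizers under an isomorphism -/
noncomputable def cent_equiv {G H : Type*} [Group G] [Group H] (e : G ≃* H) (x : G) :
    ↥(centralizer ({x} : Set G)) ≃* ↥(centralizer ({e x} : Set H)) :=
  ((centralizer ({x} : Set G)).equivMapOfInjective e.toMonoidHom e.injective).trans
    (MulEquiv.subgroupCongr (by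
      ext y
      rw [mem_map]
      constructor
      · rintro ⟨w, hw, rfl⟩
        rw [mem_centralizer_singleton_iff] at hw ⊢
        exact ((map_mul e w x).symm.trans (congrArg e hw)).trans (map_mul e x w)
      · intro hy
        rw [mem_centralizer_singleton_iff] at hy
        refine ⟨e.symm y, ?_, e.apply_symm_apply y⟩
        rw [mem_centralizer_singleton_iff]
        apply e.injective
        rw [map_mul, map_mul, e.apply_symm_apply]
        exact hy))

theorem equiv_cent {G : Type*} [Group G] (c g : G) :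
    Nonempty (↥(centralizer ({g} : Set G)) ≃* ↥(centralizer ({c * g * c⁻¹} : Set G))) :=
  ⟨cent_equiv (MulAut.conj c) g⟩

theorem finG3 : Finite G3 :=
  Nat.finite_of_card_ne_zero (by rw [Cfsg.Agent.SporRec.Co3.Chain.isCo3_G3.2]; norm_num)

theorem radFree_Z : RadFree 3 ↥(centralizer ({Z} : Set G3)) := by
  have := finG3
  obtain ⟨π, N⟩ := Cfsg.Agent.KFacts.Co3D4.exists_NS_G3
  have hS := Cfsg.Agent.Co2Type.Setup.isSimpleGroup_sp6
  have hc := Cfsg.Agent.SporRec.TwoSp6.Sp.card_S
  have hf : Finite Cfsg.Agent.SporRec.TwoSp6.Sp.S := Nat.finite_of_card_ne_zero (by rw [hc]; norm_num)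
  exact radFree_of π N.surj N.z_sq N.ker (by rw [hc]; norm_num)

theorem radFree_ww : RadFree 3 ↥(centralizer ({ww} : Set G3)) := by
  have := finG3
  have hM := Cfsg.Agent.CTwoTab.Co3.simple_M12
  have hf : Finite Spor.M12 := Cfsg.Agent.CpAutCo3.MTw.finM
  have hfK : Finite Cfsg.Agent.SigZero.CoThreeB.K := Finite.of_equiv _ ee.symm.toEquiv
  have h1 : RadFree 3 ↥Cfsg.Agent.SigZero.CoThreeB.C :=
    radFree_of Cfsg.Agent.SigZero.CoThreeB.proj Cfsg.Agent.SigZero.CoThreeB.proj_surj
      Cfsg.Agent.CpAutCo3.MTw.wC_sq (fun _ h => ker_cases h) (by rw [Cfsg.Agent.MTwelveType.SylowModel.card_M12]; norm_num)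
  refine h1.congr Nat.prime_three ?_
  exact (cent_equiv ee Cfsg.Agent.SigZero.CoThreeB.wK).symm

theorem center_G3 : center G3 = ⊥ := by
  have := finG3
  have hs : IsSimpleGroup G3 := Cfsg.Agent.SporRec.Co3.Chain.isCo3_G3.1
  rcases (inferInstance : (center G3).Normal).eq_bot_or_eq_top with h1 | h1
  · exact h1
  · refine absurd (Group.isSolvable_of_comm fun a b => ?_) (not_solvable3 (S := G3)
      (by rw [Cfsg.Agent.SporRec.Co3.Chain.isCo3_G3.2]; norm_num))
    exact (mem_center_iff.1 (h1 ▸ mem_top b)) a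

theorem inn_G3 : IRowInn G3 := by
  have := finG3
  intro x hxo hR _
  obtain ⟨t, ht2, ht1, htx⟩ := Cfsg.Agent.H143.Co3Inv.three_inv (x := x)
    (by rw [← hxo, pow_orderOf_eq_one]) (fun h => by rw [h, orderOf_one] at hxo; norm_num at hxo)
  refine false_of_comm hxo hR (t := t) ?_ htx.symm ?_
  · rw [center_G3, mem_bot]
    exact ht1
  · rcases cls ht2 ht1 with ⟨g, rfl⟩ | ⟨g, rfl⟩
    · obtain ⟨e⟩ := equiv_cent g Z
      exact radFree_Z.congr Nat.prime_three e.symm
    · obtain ⟨e⟩ := equiv_cent g ww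
      exact radFree_ww.congr Nat.prime_three e.symm

/-- **`Co3`** -/
theorem irow_co3 {K : Type*} [Group K] [Finite K] [IsSimpleGroup K] (h : Cfsg.Spor.IsoCo3 K) :
    Cfsg.Agent.H959.Rad3.IRow K := by
  have := finG3
  have hs : IsSimpleGroup G3 := Cfsg.Agent.SporRec.Co3.Chain.isCo3_G3.1
  have hI : Cfsg.Spor.IsoCo3 G3 := ⟨Cfsg.Agent.SporRec.Co3.Model.equivCo3⟩
  obtain ⟨e⟩ := h
  exact IRow.congr (e.trans Cfsg.Agent.SporRec.Co3.Model.equivCo3.symm) (IRowInn.irow center_G3
    (Cfsg.Agent.BpSpor.Inn.co3 hI 3 Nat.prime_three (by norm_num)) inn_G3)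

end Cfsg.Agent.H345.IRowCo
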