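import Mathlib
import Cfsg.Prelude.Def_Sz
import Cfsg.Prelude.Def_LieTwisted
import Cfsg.Agent.H630.NH
import Cfsg.Agent.S0331
import Cfsg.Agent.S0332
import Cfsg.Agent.S1069
import Cfsg.Agent.S1158
import Cfsg.Agent.OddCyclic.ClaimC.SzIso

/-!
# Nilpotent Hall subgroups and class sizes: the Suzuki and the Ree groups
-/

set_option autoImplicit false
open Cfsg
open scoped Pointwise

namespace Cfsg.Agent.H345.NHSzRee

open Cfsg.Agent.H630.NH

universe u v

/-- If the centralizers of the elements of odd prime order are nilpotent and the Sylow subgroups for odd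
primes are cyclic, then `Row` holds. -/
theorem row_of_cn {X : Type u} [Group X] [Finite X]
    (hC : ∀ x : X, x ≠ 1 → Group.IsNilpotent (Subgroup.centralizer ({x} : Set X)))
    (hS : ∀ p : ℕ, p.Prime → p ≠ 2 → ∀ P : Sylow p X, IsCyclic P) : Row X := by
  intro π hπ hnt hc
  obtain ⟨p, hp, q, hq, hpq⟩ := hnt
  obtain ⟨hpp, hp2, hpd⟩ := hπ p hp
  obtain ⟨hqp, hq2, hqd⟩ := hπ q hq
  have hpf : Fact p.Prime := ⟨hpp⟩
  have hqf : Fact q.Prime := ⟨hqp⟩
  obtain ⟨x, hx⟩ := exists_prime_orderOf_dvd_card' p hpd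
  set C := Subgroup.centralizer ({x} : Set X) with hCdef
  have hxne : x ≠ 1 := by
    rintro rfl
    rw [orderOf_one] at hx
    exact hpp.one_lt.ne hx
  have hs : ∀ s ∈ π, s ≠ p → ¬ s ∣ C.index := fun s hs hsp =>
    hc p hp s hs hsp.symm x ⟨1, by rw [hx, pow_one]⟩
  -- an element `y` of order `q` of `C`
  have hqC : q ∣ Nat.card C := by
    have h1 : q ∣ C.index * Nat.card C := by rw [Subgroup.index_mul_card]; exact hqd
    exact (hqp.dvd_mul.mp h1).resolve_left (hs q hq hpq.symm)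
  obtain ⟨y, hy⟩ := exists_prime_orderOf_dvd_card' q hqC
  have hyx : x ∈ Subgroup.centralizer ({(y : X)} : Set X) := by
    rw [Subgroup.mem_centralizer_singleton_iff]
    exact ((Subgroup.mem_centralizer_singleton_iff.mp y.2)).symm
  have hyp : ¬ p ∣ (Subgroup.centralizer ({(y : X)} : Set X)).index :=
    hc q hq p hp hpq.symm (y : X) ⟨1, by rw [Subgroup.orderOf_coe, hy, pow_one]⟩
  have hpC : ¬ p ∣ C.index := by
    have hxp : IsPGroup p (Subgroup.zpowers (⟨x, hyx⟩ : Subgroup.centralizer ({(y : X)} : Set X))) := by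
      apply IsPGroup.of_card (n := 1)
      rw [Nat.card_zpowers, Subgroup.orderOf_mk, hx, pow_one]
    obtain ⟨P, hP⟩ := hxp.exists_le_sylow
    -- the image of `P` in `X`
    have hPp : IsPGroup p ((P : Subgroup _).map (Subgroup.centralizer ({(y : X)} : Set X)).subtype) :=
      P.isPGroup'.map _
    have hPi : ¬ p ∣ ((P : Subgroup _).map (Subgroup.centralizer ({(y : X)} : Set X)).subtype).index := by
      rw [Subgroup.index_map_subtype]
      intro hd
      rcases hpp.dvd_mul.mp hd with h | h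
      · exact P.not_dvd_index h
      · exact hyp h
    set P' : Sylow p X := IsPGroup.toSylow hPp hPi with hP'
    have hcyc : IsCyclic P' := hS p hpp hp2 P'
    have hxP : x ∈ (P' : Subgroup X) := by
      have h1 : (⟨x, hyx⟩ : Subgroup.centralizer ({(y : X)} : Set X)) ∈ (P : Subgroup _) :=
        hP (Subgroup.mem_zpowers _)
      exact ⟨_, h1, rfl⟩
    have hle : (P' : Subgroup X) ≤ C := by
      intro z hz
      rw [hCdef, Subgroup.mem_centralizer_singleton_iff]
      have h1 : IsMulCommutative P' := inferInstance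
      have := h1.is_comm.comm (⟨z, hz⟩ : P') ⟨x, hxP⟩
      exact congrArg Subtype.val this
    intro hd
    exact hPi (hd.trans (Subgroup.index_dvd_of_le hle))
  have hsC : ∀ s ∈ π, ¬ s ∣ C.index := by
    intro s hs'
    by_cases h : s = p
    · rw [h]; exact hpC
    · exact hs s hs' h
  -- the Hall `2'`-subgroup of `C`
  have hnil : Group.IsNilpotent C := hC x hxne
  obtain ⟨S⟩ : Nonempty (Sylow 2 C) := inferInstance
  have hSn : (S : Subgroup C).Normal := inferInstance
  have hcop : Nat.Coprime (Nat.card S) (S : Subgroup C).index := S.card_coprime_index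
  obtain ⟨T, hT⟩ := Subgroup.exists_right_complement'_of_coprime hcop
  have hTi : T.index = Nat.card S := hT.index_eq_card
  have hTc : Nat.card T = (S : Subgroup C).index := hT.symm.index_eq_card.symm
  have hTodd : ¬ 2 ∣ Nat.card T := by rw [hTc]; exact S.not_dvd_index
  have hTcyc : IsCyclic T := by
    have : IsZGroup T := by
      constructor
      intro s hsp P
      have hsf : Fact s.Prime := ⟨hsp⟩
      by_cases hs2 : s = 2
      · subst hs2
        have h1 : Nat.card P = 1 := by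
          obtain ⟨k, hk⟩ := P.isPGroup'.exists_card_eq
          rcases Nat.eq_zero_or_pos k with h0 | h0
          · rw [hk, h0, pow_zero]
          · exfalso
            apply hTodd
            exact ((dvd_pow_self 2 h0.ne').trans (by rw [← hk])).trans (Subgroup.card_subgroup_dvd_card (P : Subgroup T))
        have : Subsingleton P := (Nat.card_eq_one_iff_unique.mp h1).1
        exact isCyclic_of_subsingleton
      · -- embed into a Sylow subgroup of `X`
        set f : T →* X := C.subtype.comp T.subtype with hf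
        have hfi : Function.Injective f := Subtype.val_injective.comp Subtype.val_injective
        have hPp : IsPGroup s ((P : Subgroup T).map f) := P.isPGroup'.map _
        obtain ⟨R, hR⟩ := hPp.exists_le_sylow
        have hcyc : IsCyclic R := hS s hsp hs2 R
        have h2 : IsCyclic ((P : Subgroup T).map f) :=
          isCyclic_of_injective (Subgroup.inclusion hR) (Subgroup.inclusion_injective hR)
        exact isCyclic_of_injective ((P : Subgroup T).equivMapOfInjective f hfi).toMonoidHom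
          ((P : Subgroup T).equivMapOfInjective f hfi).injective
    have : Group.IsNilpotent T := inferInstance
    infer_instance
  refine ⟨T.map C.subtype, ?_, ?_⟩
  · have h1 : IsCyclic (T.map C.subtype) := isCyclic_of_surjective
      ((T.equivMapOfInjective C.subtype Subtype.val_injective).toMonoidHom)
      (T.equivMapOfInjective C.subtype Subtype.val_injective).surjective
    infer_instance
  · intro s hs' hd
    rw [Subgroup.index_map_subtype] at hd
    have hsp := (hπ s hs').1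
    rcases hsp.dvd_mul.mp hd with h | h
    · rw [hTi] at h
      obtain ⟨k, hk⟩ := S.isPGroup'.exists_card_eq
      rw [hk] at h
      exact (hπ s hs').2.1 ((Nat.prime_dvd_prime_iff_eq hsp Nat.prime_two).mp (hsp.dvd_of_dvd_pow h))
    · exact hsC s hs' h

theorem row_suzuki {X : Type u} [Group X] (h : Cfsg.Lie.IsoSuzuki X) : Row X := by
  obtain ⟨F, _, _, m, hm, hF, ⟨e⟩⟩ := h
  obtain ⟨i⟩ := Cfsg.Agent.OddCyclic.ClaimC.SzIso.iso hm hF
  refine Row.congr (i.trans e.symm) ?_
  apply row_of_cn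
  · intro x hx
    exact Cfsg.Agent.S0332.result hm hF x hx
  · intro p hp hp2 P
    have : Fact p.Prime := ⟨hp⟩
    exact Cfsg.Agent.S0331.result hm hF hp2 P

/-- The four cyclic Hall subgroups of the Ree groups: abstract version. -/
theorem row_of_ti {X : Type u} [Group X] [Finite X] {ι : Type} (k n : ι → ℕ)
    (hX3 : 9 ∣ Nat.card X)
    (hA : ∀ i : ι, ∃ A : Subgroup X, IsCyclic A ∧ Nat.card A = k i ∧
      Nat.card (Subgroup.normalizer (A : Set X)) = n i ∧
      ∀ A₀ : Subgroup X, A₀ ≤ A → A₀ ≠ ⊥ → Subgroup.normalizer (A₀ : Set X) = Subgroup.normalizer (A : Set X))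
    (hn9 : ∀ i, ¬ 9 ∣ n i)
    (hcov : ∀ p : ℕ, p.Prime → p ≠ 2 → p ≠ 3 → p ∣ Nat.card X → ∃ i, p ∣ k i)
    (hsep : ∀ p : ℕ, p.Prime → p ≠ 2 → p ≠ 3 → ∀ i, p ∣ n i → ∀ M, M * k i = Nat.card X → ¬ p ∣ M) : Row X := by
  intro π hπ hnt hc
  -- a prime of `π` different from `3`
  obtain ⟨p, hp, hp3⟩ : ∃ p ∈ π, p ≠ 3 := by
    obtain ⟨p, hp, q, hq, hpq⟩ := hnt
    by_cases h : p = 3
    · exact ⟨q, hq, fun h' => hpq (h.trans h'.symm)⟩
    · exact ⟨p, hp, h⟩
  obtain ⟨hpp, hp2, hpd⟩ := hπ p hp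
  have hpf : Fact p.Prime := ⟨hpp⟩
  obtain ⟨i, hi⟩ := hcov p hpp hp2 hp3 hpd
  obtain ⟨A, hAc, hAk, hAn, hAt⟩ := hA i
  rw [← hAk] at hi
  obtain ⟨x, hx⟩ := exists_prime_orderOf_dvd_card' p hi
  set C := Subgroup.centralizer ({(x : X)} : Set X) with hCdef
  have hxo : orderOf (x : X) = p := by rw [Subgroup.orderOf_coe, hx]
  have hCA : C ≤ Subgroup.normalizer (A : Set X) := by
    rw [← hAt (Subgroup.zpowers (x : X)) (by rw [Subgroup.zpowers_le]; exact x.2) ?_]
    · intro c hc'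
      rw [Subgroup.mem_centralizer_singleton_iff] at hc'
      have h1 : c ∈ Subgroup.centralizer ((Subgroup.zpowers (x : X) : Subgroup X) : Set X) := by
        rw [Subgroup.mem_centralizer_iff]
        rintro _ ⟨j, rfl⟩
        have hcomm : Commute (x : X) c := hc'.symm
        exact (hcomm.zpow_left j)
      exact Subgroup.centralizer_le_normalizer _ h1
    · rw [Ne, Subgroup.zpowers_eq_bot]
      intro h
      rw [h, orderOf_one] at hxo
      exact hpp.one_lt.ne hxo
  have hCd : Nat.card C ∣ n i := by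
    rw [← hAn]
    exact Subgroup.card_dvd_of_le hCA
  have hs : ∀ s ∈ π, s ≠ p → ¬ s ∣ C.index := fun s hs hsp =>
    hc p hp s hs hsp.symm x ⟨1, by rw [hxo, pow_one]⟩
  have h3 : 3 ∉ π := by
    intro h3
    have h1 := hs 3 h3 (Ne.symm hp3)
    apply hn9 i
    have h2 : 9 ∣ Nat.card C * C.index := by rw [Subgroup.card_mul_index]; exact hX3
    have h4 : Nat.Coprime 9 C.index := by
      have h5 : Nat.Coprime 3 C.index := (Nat.Prime.coprime_iff_not_dvd Nat.prime_three).mpr h1
      exact (h5.pow_left 2)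
    exact (h4.dvd_of_dvd_mul_right h2).trans hCd
  refine ⟨A, inferInstance, ?_⟩
  intro s hs' hd
  obtain ⟨hsp, hs2, hsd⟩ := hπ s hs'
  have hs3 : s ≠ 3 := fun h => h3 (h ▸ hs')
  have hsn : s ∣ n i := by
    by_cases h : s = p
    · rw [h, ← hAn]
      exact hi.trans (Subgroup.card_dvd_of_le Subgroup.le_normalizer)
    · have h1 : s ∣ C.index * Nat.card C := by rw [Subgroup.index_mul_card]; exact hsd
      exact ((hsp.dvd_mul.mp h1).resolve_left (hs s hs' h)).trans hCd
  exact hsep s hsp hs2 hs3 i hsn A.index (by rw [← hAk, Subgroup.index_mul_card]) hd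

/-- The numbers: `Q = 2a + 1 = 4b - 1`, `r² = 3Q`, `c = Q - r + 1`, `d = Q + r + 1`. -/
theorem num {m : ℕ} (hm : 1 ≤ m) : ∃ a b c d : ℕ,
    3 ^ (2 * m + 1) = 2 * a + 1 ∧ 3 ^ (2 * m + 1) + 1 = 4 * b ∧
    3 ^ (2 * m + 1) + 1 = 3 ^ (m + 1) + c ∧ d = 3 ^ (2 * m + 1) + 3 ^ (m + 1) + 1 ∧
    c * d = 2 * a * 3 ^ (2 * m + 1) + 1 := by
  have h8 : 3 ^ (2 * m + 1) % 8 = 3 := by
    rw [pow_succ, pow_mul, Nat.mul_mod, Nat.pow_mod]
    norm_num
  have hle : 3 ^ (m + 1) ≤ 3 ^ (2 * m + 1) := Nat.pow_le_pow_right (by norm_num) (by omega)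
  have hsq : 3 ^ (m + 1) * 3 ^ (m + 1) = 3 * 3 ^ (2 * m + 1) := by
    rw [← pow_add, ← pow_succ']
    congr 1
    omega
  set Q := 3 ^ (2 * m + 1) with hQ
  set r := 3 ^ (m + 1) with hr
  refine ⟨Q / 2, (Q + 1) / 4, Q + 1 - r, Q + r + 1, by omega, by omega, by omega, rfl, ?_⟩
  obtain ⟨t, ht⟩ : ∃ t, Q = r + t := ⟨Q - r, by omega⟩
  have h1 : Q + 1 - r = t + 1 := by omega
  have h2 : 2 * (Q / 2) = Q - 1 := by omega
  rw [h1, h2]
  obtain ⟨w, hw⟩ : ∃ w, Q = w + 1 := ⟨Q - 1, by omega⟩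
  have h3 : Q - 1 = w := by omega
  rw [h3]
  zify at ht hw hsq ⊢
  have hw' : (w : ℤ) = Q - 1 := by linarith
  have ht' : (t : ℤ) = Q - r := by linarith
  rw [hw', ht']
  linear_combination -hsq

theorem row_ree_aux {K : Type} [Field K] [Fintype K] {m : ℕ} (hm : 1 ≤ m)
    (hK : Fintype.card K = 3 ^ (2 * m + 1)) : Row ↥(Cfsg.Lie.twistedG2 K (3 ^ m)) := by
  obtain ⟨a, b, c, d, ha, hb, hc, hd, hcd⟩ := num hm
  have hcard := Cfsg.Agent.S1069.result hK
  have hA := Cfsg.Agent.S1158.result hm hK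
  have h27 : 27 ∣ 3 ^ (2 * m + 1) := by
    have : (27 : ℕ) = 3 ^ 3 := by norm_num
    rw [this]
    exact pow_dvd_pow 3 (by omega)
  have h9r : 9 ∣ 3 ^ (m + 1) := by
    have : (9 : ℕ) = 3 ^ 2 := by norm_num
    rw [this]
    exact pow_dvd_pow 3 (by omega)
  have hprQ : ∀ s : ℕ, s.Prime → s ∣ 3 ^ (2 * m + 1) → s = 3 := fun s hs h =>
    (Nat.prime_dvd_prime_iff_eq hs Nat.prime_three).mp (hs.dvd_of_dvd_pow h)
  have hprr : ∀ s : ℕ, s.Prime → s ∣ 3 ^ (m + 1) → s = 3 := fun s hs h =>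
    (Nat.prime_dvd_prime_iff_eq hs Nat.prime_three).mp (hs.dvd_of_dvd_pow h)
  set Q := 3 ^ (2 * m + 1) with hQ
  set r := 3 ^ (m + 1) with hr
  have hcard2 : Nat.card ↥(Cfsg.Lie.twistedG2 K (3 ^ m)) = Q ^ 3 * (2 * a) * (4 * b * (c * d)) := by
    rw [hcard]
    have h1 : Q - 1 = 2 * a := by omega
    rw [h1, hcd, ← hb, ha]
    ring
  have hQ0 : 0 < Q := by positivity
  have ha0 : 0 < a := by omega
  have hb0 : 0 < b := by omega
  have hcd0 : 0 < c * d := by rw [hcd]; omega
  have hc0 : 0 < c := Nat.pos_of_mul_pos_right hcd0 |> fun _ => by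
    rcases Nat.eq_zero_or_pos c with h | h
    · rw [h, zero_mul] at hcd0; omega
    · exact h
  have hd0 : 0 < d := by rw [hd]; omega
  have hfin : Finite ↥(Cfsg.Lie.twistedG2 K (3 ^ m)) := by
    apply Nat.finite_of_card_ne_zero
    rw [hcard2]
    positivity
  -- the basic separations
  have sab : ∀ s : ℕ, s.Prime → s ≠ 2 → s ∣ a → s ∣ b → False := by
    intro s hs hs2 h1 h2
    have h3 : s ∣ 4 * b := h2.mul_left 4
    have h4 : s ∣ 2 * a := h1.mul_left 2
    have h5 : 4 * b = 2 * a + 2 := by omega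
    rw [h5] at h3
    have h6 : s ∣ 2 := (Nat.dvd_add_right h4).mp h3
    exact hs2 ((Nat.prime_dvd_prime_iff_eq hs Nat.prime_two).mp h6)
  have sacd : ∀ s : ℕ, s.Prime → s ∣ a → s ∣ c * d → False := by
    intro s hs h1 h2
    rw [hcd] at h2
    have h4 : s ∣ 2 * a * Q := (h1.mul_left 2).mul_right Q
    exact hs.one_lt.ne' (Nat.dvd_one.mp ((Nat.dvd_add_right h4).mp h2))
  have sbcd : ∀ s : ℕ, s.Prime → s ≠ 3 → s ∣ b → s ∣ c * d → False := by
    intro s hs hs3 h1 h2
    have h3 : c * d + 2 * (4 * b) = Q * (4 * b) + 3 := by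
      rw [hcd, ← hb, ha]; ring
    have h4 : s ∣ Q * (4 * b) + 3 := by
      rw [← h3]
      exact dvd_add h2 ((h1.mul_left 4).mul_left 2)
    have h5 : s ∣ 3 := (Nat.dvd_add_right ((h1.mul_left 4).mul_left Q)).mp h4
    exact hs3 ((Nat.prime_dvd_prime_iff_eq hs Nat.prime_three).mp h5)
  have scd : ∀ s : ℕ, s.Prime → s ≠ 2 → s ≠ 3 → s ∣ c → s ∣ d → False := by
    intro s hs hs2 hs3 h1 h2
    have h3 : d = c + 2 * r := by omega
    rw [h3] at h2
    have h4 : s ∣ 2 * r := (Nat.dvd_add_right h1).mp h2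
    rcases hs.dvd_mul.mp h4 with h | h
    · exact hs2 ((Nat.prime_dvd_prime_iff_eq hs Nat.prime_two).mp h)
    · exact hs3 (hprr s hs h)
  refine row_of_ti (ι := Fin 4) (k := ![a, b, c, d]) (n := ![2 * (2 * a), 6 * (4 * b), 6 * c, 6 * d]) ?_ ?_ ?_ ?_ ?_
  · rw [hcard2]
    exact (((Dvd.intro_left 3 (by norm_num) : (9 : ℕ) ∣ 27).trans h27).trans (dvd_pow_self Q (by norm_num))).trans
      ((dvd_mul_right _ _).trans (dvd_mul_right _ _))
  · intro i
    have e1 : (Q - 1) / 2 = a := by omega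
    have e2 : (Q + 1) / 4 = b := by omega
    have e3 : Q - r + 1 = c := by omega
    have e4 : Q + r + 1 = d := hd.symm
    have e5 : Q - 1 = 2 * a := by omega
    simp only [e3, e4, e5, hb] at hA
    fin_cases i
    · exact hA (a, 2 * (2 * a)) (by simp)
    · exact hA (b, 6 * (4 * b)) (by simp)
    · exact hA (c, 6 * c) (by simp)
    · exact hA (d, 6 * d) (by simp)
  · intro i
    have hQ9 : 9 ∣ Q := (Dvd.intro_left 3 (by norm_num) : (9 : ℕ) ∣ 27).trans h27
    fin_cases i
    · show ¬ 9 ∣ 2 * (2 * a)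
      omega
    · show ¬ 9 ∣ 6 * (4 * b)
      omega
    · show ¬ 9 ∣ 6 * c
      omega
    · show ¬ 9 ∣ 6 * d
      omega
  · intro p hp hp2 hp3 hpd
    rw [hcard2] at hpd
    rcases hp.dvd_mul.mp hpd with h | h
    · rcases hp.dvd_mul.mp h with h | h
      · exact absurd (hprQ p hp (hp.dvd_of_dvd_pow h)) hp3
      · rcases hp.dvd_mul.mp h with h | h
        · exact absurd ((Nat.prime_dvd_prime_iff_eq hp Nat.prime_two).mp h) hp2
        · exact ⟨0, h⟩
    · rcases hp.dvd_mul.mp h with h | h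
      · rcases hp.dvd_mul.mp h with h | h
        · have : p ∣ 2 ^ 2 := by simpa using h
          exact absurd ((Nat.prime_dvd_prime_iff_eq hp Nat.prime_two).mp (hp.dvd_of_dvd_pow this)) hp2
        · exact ⟨1, h⟩
      · rcases hp.dvd_mul.mp h with h | h
        · exact ⟨2, h⟩
        · exact ⟨3, h⟩
  · intro s hs hs2 hs3 i hi M hM hsM
    rw [hcard2] at hM
    have h2' : ∀ j : ℕ, s ∣ 2 ^ j → False := fun j hj =>
      hs2 ((Nat.prime_dvd_prime_iff_eq hs Nat.prime_two).mp (hs.dvd_of_dvd_pow hj))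
    have hQ' : ∀ j : ℕ, s ∣ Q ^ j → False := fun j hj => hs3 (hprQ s hs (hs.dvd_of_dvd_pow hj))
    have h6 : ∀ y : ℕ, s ∣ 6 * y → s ∣ y := by
      intro y hy
      rcases hs.dvd_mul.mp hy with h | h
      · have h7 : s ∣ 2 * 3 := h
        rcases hs.dvd_mul.mp h7 with h | h
        · exact absurd ((Nat.prime_dvd_prime_iff_eq hs Nat.prime_two).mp h) hs2
        · exact absurd ((Nat.prime_dvd_prime_iff_eq hs Nat.prime_three).mp h) hs3
      · exact h
    have h2 : ∀ y : ℕ, s ∣ 2 * y → s ∣ y := fun y hy =>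
      (hs.dvd_mul.mp hy).resolve_left (fun h => h2' 1 (by simpa using h))
    have h4 : ∀ y : ℕ, s ∣ 4 * y → s ∣ y := fun y hy =>
      (hs.dvd_mul.mp hy).resolve_left (fun h => h2' 2 (by simpa using h))
    fin_cases i
    · have hi' : s ∣ a := h2 _ (h2 _ hi)
      have hM' : M * a = Q ^ 3 * (2 * a) * (4 * b * (c * d)) := hM
      have hMe : M = Q ^ 3 * (2 ^ 3 * (b * (c * d))) :=
        Nat.eq_of_mul_eq_mul_right ha0 (by rw [hM']; ring)
      rw [hMe] at hsM
      rcases hs.dvd_mul.mp hsM with h | h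
      · exact hQ' _ h
      rcases hs.dvd_mul.mp h with h | h
      · exact h2' _ h
      rcases hs.dvd_mul.mp h with h | h
      · exact sab s hs hs2 hi' h
      · exact sacd s hs hi' h
    · have hi' : s ∣ b := h4 _ (h6 _ hi)
      have hM' : M * b = Q ^ 3 * (2 * a) * (4 * b * (c * d)) := hM
      have hMe : M = Q ^ 3 * (2 ^ 3 * (a * (c * d))) :=
        Nat.eq_of_mul_eq_mul_right hb0 (by rw [hM']; ring)
      rw [hMe] at hsM
      rcases hs.dvd_mul.mp hsM with h | h
      · exact hQ' _ h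
      rcases hs.dvd_mul.mp h with h | h
      · exact h2' _ h
      rcases hs.dvd_mul.mp h with h | h
      · exact sab s hs hs2 h hi'
      · exact sbcd s hs hs3 hi' h
    · have hi' : s ∣ c := h6 _ hi
      have hM' : M * c = Q ^ 3 * (2 * a) * (4 * b * (c * d)) := hM
      have hMe : M = Q ^ 3 * (2 ^ 3 * (a * (b * d))) :=
        Nat.eq_of_mul_eq_mul_right hc0 (by rw [hM']; ring)
      rw [hMe] at hsM
      rcases hs.dvd_mul.mp hsM with h | h
      · exact hQ' _ h
      rcases hs.dvd_mul.mp h with h | h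
      · exact h2' _ h
      rcases hs.dvd_mul.mp h with h | h
      · exact sacd s hs h (hi'.mul_right d)
      rcases hs.dvd_mul.mp h with h | h
      · exact sbcd s hs hs3 h (hi'.mul_right d)
      · exact scd s hs hs2 hs3 hi' h
    · have hi' : s ∣ d := h6 _ hi
      have hM' : M * d = Q ^ 3 * (2 * a) * (4 * b * (c * d)) := hM
      have hMe : M = Q ^ 3 * (2 ^ 3 * (a * (b * c))) :=
        Nat.eq_of_mul_eq_mul_right hd0 (by rw [hM']; ring)
      rw [hMe] at hsM
      rcases hs.dvd_mul.mp hsM with h | h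
      · exact hQ' _ h
      rcases hs.dvd_mul.mp h with h | h
      · exact h2' _ h
      rcases hs.dvd_mul.mp h with h | h
      · exact sacd s hs h (hi'.mul_left c)
      rcases hs.dvd_mul.mp h with h | h
      · exact sbcd s hs hs3 h (hi'.mul_left c)
      · exact scd s hs hs2 hs3 h hi'

theorem row_ree {X : Type u} [Group X] (h : Cfsg.Lie.IsoRee X) : Row X := by
  obtain ⟨K, _, _, m, hm, hK, ⟨e⟩⟩ := h
  exact Row.congr e.symm (row_ree_aux hm hK)

end Cfsg.Agent.H345.NHSzRee
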