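import Cfsg.Agent.H345.EOneBase

/-!
# The configuration of order 11664: alternating groups (helper345)
-/

set_option autoImplicit false

namespace Cfsg.Agent.H345.EOne

open Cfsg Subgroup

/-- translations of the second component -/
def shift : (Fin 5 → Multiplicative (ZMod 3)) →* Equiv.Perm (Fin 5 × ZMod 3) where
  toFun a :=
    { toFun := fun x => (x.1, x.2 + (a x.1).toAdd)
      invFun := fun x => (x.1, x.2 - (a x.1).toAdd)
      left_inv := fun x => by simp
      right_inv := fun x => by simp }
  map_one' := by
    ext x <;> simp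
  map_mul' a b := by
    ext x
    · simp
    · simp only [Equiv.coe_fn_mk, Pi.mul_apply, toAdd_mul, Equiv.Perm.coe_mul, Function.comp_apply]
      rw [add_assoc, add_comm (Multiplicative.toAdd (a x.1))]

theorem shift_injective : Function.Injective shift := by
  intro a b h
  funext i
  have h1 := congrArg (fun e : Equiv.Perm (Fin 5 × ZMod 3) => (e (i, 0)).2) h
  change (0 : ZMod 3) + (a i).toAdd = 0 + (b i).toAdd at h1
  rw [zero_add, zero_add] at h1
  exact Multiplicative.toAdd.injective h1

theorem alt_false {n : ℕ} (h : Hy (alternatingGroup (Fin n))) : False := by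
  have hn : 15 ≤ n := by
    by_contra hcon
    have h1 : Nat.card (alternatingGroup (Fin n)) ∣ Nat.factorial 14 := by
      refine (Subgroup.card_subgroup_dvd_card (alternatingGroup (Fin n))).trans ?_
      rw [Nat.card_perm, Nat.card_eq_fintype_card, Fintype.card_fin]
      exact Nat.factorial_dvd_factorial (by omega)
    have h2 : 3 ^ 6 ∣ Nat.factorial 14 := h.h6.trans h1
    revert h2
    rw [Nat.factorial]
    norm_num [Nat.factorial]
  let ι : Fin 5 × ZMod 3 ↪ Fin n :=
    (Fintype.equivFinOfCardEq (show Fintype.card (Fin 5 × ZMod 3) = 15 by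
      rw [Fintype.card_prod, Fintype.card_fin, ZMod.card])).toEmbedding.trans (Fin.castLEEmb hn)
  let f : (Fin 5 → Multiplicative (ZMod 3)) →* Equiv.Perm (Fin n) := (Equiv.Perm.viaEmbeddingHom ι).comp shift
  have hf : Function.Injective f := (Equiv.Perm.viaEmbeddingHom_injective ι).comp shift_injective
  have h3 : ∀ a : Fin 5 → Multiplicative (ZMod 3), a ^ 3 = 1 := by
    intro a
    funext i
    rw [Pi.pow_apply, Pi.one_apply]
    apply Multiplicative.toAdd.injective
    rw [toAdd_pow, toAdd_one, nsmul_eq_mul]
    have : ((3 : ℕ) : ZMod 3) = 0 := by decide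
    rw [this, zero_mul]
  have hmem : ∀ a, f a ∈ alternatingGroup (Fin n) := by
    intro a
    rw [Equiv.Perm.mem_alternatingGroup]
    have h4 : Equiv.Perm.sign (f a) ^ 3 = 1 := by
      rw [← map_pow, ← map_pow, h3, map_one, map_one]
    rcases Int.units_eq_one_or (Equiv.Perm.sign (f a)) with h5 | h5
    · exact h5
    · rw [h5] at h4
      exact absurd h4 (by decide)
  let g : (Fin 5 → Multiplicative (ZMod 3)) →* alternatingGroup (Fin n) := f.codRestrict _ hmem
  have hg : Function.Injective g := by
    intro a b hab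
    exact hf (congrArg Subtype.val hab)
  have h4 := h.hab g.range (by
    rintro ⟨x, a, rfl⟩
    refine ⟨1, Subtype.ext ?_⟩
    change (g a) ^ 3 ^ 1 = 1
    rw [pow_one, ← map_pow, h3, map_one]) (by
    rintro _ ⟨a, rfl⟩ _ ⟨b, rfl⟩
    rw [← map_mul, ← map_mul, mul_comm])
  have h5 : Nat.card g.range = 3 ^ 5 := by
    rw [← Nat.card_congr (MonoidHom.ofInjective hg).toEquiv, Nat.card_eq_fintype_card, Fintype.card_fun, Fintype.card_fin]
    rfl
  rw [h5] at h4
  omega

end Cfsg.Agent.H345.EOne
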