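import Cfsg.Agent.H345.EOneBase
import Cfsg.Agent.H128.Val3

/-!
# The configuration of order 11664: classical groups in characteristic different from 3 (helper345)
-/

set_option autoImplicit false

namespace Cfsg.Agent.H345.EOne

open Cfsg Subgroup
open Cfsg.Agent.H128.AbelianClassical Cfsg.Agent.H128.ClassicalAb Cfsg.Agent.H128.Cross3 Cfsg.Agent.H128.Val3
open Cfsg.Agent.H341.ThreeList

universe u

theorem Hy.le {G : Type*} [Group G] [Finite G] (h : Hy G) {N : ℕ} (hN : HasAb 3 G N) : 6 ≤ N := by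
  have : Fact (Nat.Prime 3) := ⟨Nat.prime_three⟩
  obtain ⟨B, hB, hc, hd⟩ := hN
  have h1 := h.hab B hB hc
  obtain ⟨b, hb⟩ := IsPGroup.iff_card.1 hB
  rw [hb] at h1
  have h2 : b ≤ 4 := (Nat.pow_le_pow_iff_right (by norm_num : 1 < 3)).1 (by simpa using h1)
  obtain ⟨S⟩ : Nonempty (Sylow 3 G) := inferInstance
  have h3 : 3 ^ 6 ∣ Nat.card S := S.pow_dvd_card_of_pow_dvd_card h.h6
  have h4 := h3.trans (hd S)
  rw [hb, show 6 = b + (6 - b) by omega, pow_add] at h4
  have h5 := Nat.dvd_of_mul_dvd_mul_left (by positivity) h4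
  have h6 : 3 ^ 2 ∣ N.factorial := (pow_dvd_pow 3 (by omega)).trans h5
  by_contra hcon
  have h7 : 3 ^ 2 ∣ Nat.factorial 5 := h6.trans (Nat.factorial_dvd_factorial (by omega))
  revert h7
  decide

theorem vf_le {n m : ℕ} (h : n ≤ m) : vf n ≤ vf m := by
  induction h with
  | refl => exact le_rfl
  | step _ ih => rw [vf_succ]; omega

theorem vf_six : 2 ≤ vf 6 := by
  unfold vf
  rw [← Nat.prime_three.pow_dvd_iff_le_factorization (Nat.factorial_ne_zero 6)]
  decide

theorem Hy.not_pow {G : Type*} [Group G] (h : Hy G) {k : ℕ} (hk : 3 ^ k ∣ Nat.card G) : k ≤ 6 := by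
  by_contra hcon
  exact h.h7 ((pow_dvd_pow 3 (by omega)).trans hk)

variable {F : Type} [Field F] [Fintype F]

theorem psl_six {n : ℕ} (hn : 2 ≤ n) (hq : ¬ 3 ∣ Fintype.card F)
    (h : Hy (Matrix.ProjectiveSpecialLinearGroup (Fin n) F)) : n = 6 ∧ Fintype.card F % 3 = 1 := by
  have : Fact (Nat.Prime 3) := ⟨Nat.prime_three⟩
  have hfin : Finite (Matrix.SpecialLinearGroup (Fin n) F) := finite_sl n
  have hq12 : Fintype.card F % 3 = 1 ∨ Fintype.card F % 3 = 2 := by omega
  rcases hq12 with hq12 | hq12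
  · refine ⟨?_, hq12⟩
    have hN := h.le (hasAb_psl (three_ne_zero' hq) n)
    have h1 := h.not_pow (psl_val_one hn hq12)
    have h2 := vf_le hN
    have h3 := vf_six
    omega
  · exfalso
    have hN := h.le (hasAb_psl_half (by norm_num) (three_ne_zero' hq) (by omega) n)
    have h1 := h.not_pow (psl_val_two hn hq12)
    have h2 := vf_le hN
    have h3 := vf_six
    omega

theorem psu_six {n q : ℕ} (hF : Fintype.card F = q ^ 2) (hn : 2 ≤ n) (hq : ¬ 3 ∣ q)
    (h : Hy (PSU n F q)) : n = 6 ∧ q % 3 = 2 := by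
  have : Fact (Nat.Prime 3) := ⟨Nat.prime_three⟩
  have hfin : Finite (Matrix.SpecialLinearGroup (Fin n) F) := finite_sl n
  have hF3 : ¬ 3 ∣ Fintype.card F := by
    rw [hF]
    exact fun h => hq (Nat.prime_three.dvd_of_dvd_pow h)
  have hq12 : q % 3 = 1 ∨ q % 3 = 2 := by omega
  rcases hq12 with hq12 | hq12
  · exfalso
    have hN := h.le (hasAb_psu_half (by norm_num) (three_ne_zero' hF3) hF (by omega) n)
    have h1 := h.not_pow (psu_val_one hF hn hq12)
    have h2 := vf_le hN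
    have h3 := vf_six
    omega
  · refine ⟨?_, hq12⟩
    have hN := h.le (hasAb_psu (three_ne_zero' hF3) n q)
    have h1 := h.not_pow (psu_val_two hF hn hq12)
    have h2 := vf_le hN
    have h3 := vf_six
    omega

theorem psp_false {m : ℕ} (hm : 1 ≤ m) (hq : ¬ 3 ∣ Fintype.card F) (h : Hy (PSp m F)) : False := by
  have : Fact (Nat.Prime 3) := ⟨Nat.prime_three⟩
  have hfin : Finite (Matrix.symplecticGroup (Fin m) F) :=
    Finite.of_injective (fun x => (x : Matrix (Fin m ⊕ Fin m) (Fin m ⊕ Fin m) F)) Subtype.val_injective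
  have hN := h.le (hasAb_psp (by norm_num) (three_ne_zero' hq) m)
  have h1 := h.not_pow (psp_val hm hq)
  have h2 := vf_le hN
  have h3 := vf_six
  omega

theorem oodd_false {m : ℕ} (hm : 3 ≤ m) (ho : Odd (Fintype.card F)) (hq : ¬ 3 ∣ Fintype.card F)
    (h : Hy (POmega F (quadFormOdd m F))) : False := by
  have : Fact (Nat.Prime 3) := ⟨Nat.prime_three⟩
  have hfin := finite_pomega (quadFormOdd m F)
  have hN := h.le (hasAb_oodd (by norm_num) (three_ne_zero' hq) ho m)
  have h1 := h.not_pow (oodd_val hm ho hq)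
  have h2 := vf_le hN
  have h3 := vf_six
  omega

theorem oplus_false {m : ℕ} (hm : 4 ≤ m) (hq : ¬ 3 ∣ Fintype.card F)
    (h : Hy (POmega F (quadFormPlus m F))) : False := by
  have : Fact (Nat.Prime 3) := ⟨Nat.prime_three⟩
  have hfin := finite_pomega (quadFormPlus m F)
  have hN := h.le (hasAb_oplus (by norm_num) (three_ne_zero' hq) m)
  rcases Nat.lt_or_ge m 7 with h7 | h7
  · obtain rfl : m = 6 := by omega
    have h8 : 3 ^ 7 ∣ Nat.card (POmega F (quadFormPlus 6 F)) := by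
      have hc := S0293.result (F := F) rfl 6 hm
      rw [mul_assoc] at hc
      refine of_mul' not_dvd_gcd_four hc (Dvd.dvd.mul_left ?_ _)
      have h1 : 3 ^ (5 + vf 5) ∣ ∏ i ∈ Finset.range 5, (Fintype.card F ^ (2 * (i + 1)) - 1) := prod_b' hq 5
      have h2 : 1 ≤ vf 5 := by
        unfold vf
        rw [← Nat.prime_three.pow_dvd_iff_le_factorization (Nat.factorial_ne_zero 5)]
        decide
      have h3 : 9 ∣ Fintype.card F ^ 6 - 1 := nine_six hq
      calc 3 ^ 7 ∣ 9 * 3 ^ 6 := by norm_num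
        _ ∣ _ := mul_dvd_mul h3 ((pow_dvd_pow 3 (by omega)).trans h1)
    exact h.h7 h8
  · have h1 := h.not_pow (oplus_val hm hq)
    have h2 := vf_le (show 6 ≤ m - 1 by omega)
    have h3 := vf_six
    omega

theorem ominus_six {m : ℕ} (hm : 4 ≤ m) {a b : F}
    (hab : ∀ z₁ z₂ : F, z₁ ^ 2 + a * z₁ * z₂ + b * z₂ ^ 2 = 0 → z₁ = 0 ∧ z₂ = 0) (hq : ¬ 3 ∣ Fintype.card F)
    (h : Hy (POmega F (quadFormMinus (m - 1) F a b))) : m = 6 := by
  have : Fact (Nat.Prime 3) := ⟨Nat.prime_three⟩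
  have hfin := finite_pomega (quadFormMinus (m - 1) F a b)
  have hN := h.le (hasAb_ominus (by norm_num) (three_ne_zero' hq) (m - 1) a b hab)
  by_contra h6
  have h1 := h.not_pow (ominus_val hm hab hq)
  have h2 := vf_le (show 6 ≤ m - 1 by omega)
  have h3 := vf_six
  omega

end Cfsg.Agent.H345.EOne
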