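import Cfsg.Agent.H345.EOneBase
import Cfsg.Agent.CpAutHN.Pairs

/-!
# The configuration of order 11664: the Harada–Norton group (helper345)

An element of order 3 of `HN` commuting with an involution commutes with an element of order 5.
-/

set_option autoImplicit false

namespace Cfsg.Agent.H345.EOne

open Cfsg Subgroup
open Cfsg.Agent.HN.XWords (W0)
open Cfsg.Agent.KFacts.HN (PP ρ φA φB A5 comm_AB φB_inj ρ_surj)
open Cfsg.Agent.CpAutHN.LqFacts Cfsg.Agent.CpAutHN.PPFacts Cfsg.Agent.CpAutHN.Alt Cfsg.Agent.CpAutHN.Pairs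
open Cfsg.Agent.CpAutTh.RankOne (exists_comm)

theorem c5_mem : cy [0, 1, 2, 3, 4] ∈ alternatingGroup (Fin 12) := by
  rw [Equiv.Perm.mem_alternatingGroup]
  decide +kernel

def d5 : A5 := ⟨[0, 1, 2, 3, 4].formPerm, by
  rw [Equiv.Perm.mem_alternatingGroup]
  decide +kernel⟩

theorem order_d5 : orderOf d5 = 5 := by
  have : Fact (Nat.Prime 5) := ⟨Nat.prime_five⟩
  apply orderOf_eq_prime
  · decide +kernel
  · decide +kernel

theorem five_dvd {x u : Spor.HN} (h3 : orderOf x = 3) (h2 : orderOf u = 2) (hxu : x * u = u * x) :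
    5 ∣ Nat.card (centralizer ({x} : Set Spor.HN)) := by
  have : Fact (Nat.Prime 5) := ⟨Nat.prime_five⟩
  have hdvd : ∀ {x y : Spor.HN}, y * x = x * y → 5 ∣ orderOf y → 5 ∣ Nat.card (centralizer ({x} : Set Spor.HN)) := by
    intro x y hyx hy
    have h1 := orderOf_dvd_natCard (⟨y, mem_centralizer_singleton_iff.2 hyx⟩ : centralizer ({x} : Set Spor.HN))
    rw [← Subgroup.orderOf_coe] at h1
    exact hy.trans h1
  obtain ⟨s, hs, hc⟩ := exists_two h3 h2 hxu
  rcases T1_or_T2 h3 hs hc with h | h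
  · obtain ⟨g, hg, -, hρ⟩ := h
    have hy : orderOf (⟨g * x * g⁻¹, hg⟩ : PP) = 3 := order_sub hg (order_conj h3 g)
    obtain ⟨b, hb⟩ := ρ_surj (φB d5)
    obtain ⟨q, hq, h4⟩ := exists_comm Nat.prime_two Nat.prime_three (by norm_num) ρ isPGroup_ker (g := b) hy (by
      rw [hb, hρ, comm_AB])
    have h5 : 5 ∣ orderOf (q * b) := by
      have h6 : orderOf (ρ (q * b)) ∣ orderOf (q * b) := orderOf_map_dvd ρ _
      rw [map_mul, hb, MonoidHom.mem_ker.1 hq, one_mul, orderOf_injective φB φB_inj, order_d5] at h6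
      exact h6
    rw [← Subgroup.orderOf_coe] at h5
    have h6 : 5 ∣ Nat.card (centralizer ({g * x * g⁻¹} : Set Spor.HN)) := by
      refine hdvd (y := ((q * b : PP) : Spor.HN)) ?_ h5
      exact congrArg Subtype.val h4
    rwa [card_cent_conj (isConj_iff.2 ⟨g, rfl⟩ : IsConj x (g * x * g⁻¹))]
  · obtain ⟨c, hcx, -⟩ := t2_x1.conj order_X1 h3 h
    rw [← card_cent_conj (isConj_iff.2 ⟨c, hcx⟩ : IsConj X1 x)]
    refine hdvd (y := Φ ⟨cy [0, 1, 2, 3, 4], c5_mem⟩) (comm_of c5_mem x1_mem (by decide +kernel)) ?_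
    rw [orderOf_injective Φ Φ_inj]
    have h4 : orderOf (⟨cy [0, 1, 2, 3, 4], c5_mem⟩ : alternatingGroup (Fin 12)) = 5 := by
      apply orderOf_eq_prime
      · apply Subtype.ext
        change cy [0, 1, 2, 3, 4] ^ 5 = 1
        decide +kernel
      · intro h
        have h5 : cy [0, 1, 2, 3, 4] = 1 := congrArg Subtype.val h
        exact absurd h5 (by decide +kernel)
    rw [h4]

theorem hn {G : Type*} [Group G] (h : Hy G) (hG : Spor.IsoHN G) : False := by
  obtain ⟨e⟩ := hG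
  have : Fact (Nat.Prime 2) := ⟨Nat.prime_two⟩
  have h' := h.congr e
  obtain ⟨z, hz, hc⟩ := h'.hz
  have hfin : Finite (centralizer ({z} : Set Spor.HN)) := Nat.finite_of_card_ne_zero (by rw [hc]; norm_num)
  obtain ⟨⟨u, hu⟩, hu2⟩ := exists_prime_orderOf_dvd_card' (G := centralizer ({z} : Set Spor.HN)) 2 (by
    rw [hc]
    norm_num)
  rw [← Subgroup.orderOf_coe] at hu2
  have h5 := five_dvd hz hu2 (mem_centralizer_singleton_iff.1 hu).symm
  rw [hc] at h5
  omega

end Cfsg.Agent.H345.EOne
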