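import Cfsg.Agent.H345.EOneCl

/-!
# The configuration of order 11664: the orthogonal groups of minus type in dimension 12 (helper345)

A Sylow 3-subgroup fixes a nonsingular vector, so there is an abelian 3-subgroup of index dividing `5!`.
-/

set_option autoImplicit false

namespace Cfsg.Agent.H345.EOne

open Cfsg Module
open Cfsg.Agent.H128.Weights Cfsg.Agent.H128.AbelianClassical Cfsg.Agent.H128.ClassicalAb
open scoped Matrix

/-! ### weights -/

section Wts

variable {K : Type*} [Field K] {V : Type*} [AddCommGroup V] [Module K V]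
  {P : Type*} [Group P] {ρ : P →* Module.End K V} {A : Subgroup P}

theorem index_dvd_half_fix {p : ℕ} [Fact p.Prime] (hp2 : p ≠ 2) (hPp : IsPGroup p P)
    [Finite P] [IsAlgClosed K] [FiniteDimensional K V] (hpK : (p : K) ≠ 0)
    (hρ : Function.Injective ρ) (hn : A.Normal) (hA : ∀ a ∈ A, ∀ b ∈ A, a * b = b * a)
    (hC : ∀ x : P, (∀ a ∈ A, x * a = a * x) → x ∈ A) {m : ℤ} (hm : (p : ℤ) ∣ m + 1)
    (hcl : ∀ χ ∈ wts ρ A, (fun a => χ a ^ m) ∈ wts ρ A) (h1w : (fun _ => (1 : K)) ∈ wts ρ A) :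
    A.index ∣ ((Module.finrank K V - 1) / 2).factorial := by
  obtain ⟨b, hb⟩ := IsPGroup.iff_card.1 hPp
  have hP : (Nat.card P : K) ≠ 0 := by
    rw [hb]
    push_cast
    exact pow_ne_zero _ hpK
  have hoddP : Odd (Nat.card P) := by
    rw [hb]
    exact ((Fact.out : p.Prime).odd_of_ne_two hp2).pow
  let act := wact ρ A
  have hfin : Finite (wts ρ A) := (wts_finite hP hA).to_subtype
  let X := {χ : wts ρ A // ∃ a, χ.1 a ≠ 1}
  let actX : MulAction P X :=
    { smul := fun g χ => ⟨g • χ.1, by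
        obtain ⟨a, ha⟩ := χ.2
        have hmem : g * a * g⁻¹ ∈ A := hn.conj_mem a.1 a.2 g
        refine ⟨⟨g * a * g⁻¹, hmem⟩, ?_⟩
        change χ.1.1 ⟨g⁻¹ * (g * a * g⁻¹) * g, _⟩ ≠ 1
        have : (⟨g⁻¹ * (g * a * g⁻¹) * g, by
            have := hn.conj_mem _ hmem g⁻¹
            rwa [inv_inv] at this⟩ : A) = a := Subtype.ext (by group)
        rw [this]
        exact ha⟩
      one_smul := fun χ => Subtype.ext (one_smul P χ.1)
      mul_smul := fun g k χ => Subtype.ext (mul_smul g k χ.1) }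
  have hactX : ∀ (g : P) (χ : X), (g • χ : X).1 = g • χ.1 := fun g χ => rfl
  let τ : X → X := fun χ => ⟨⟨fun a => (χ.1.1 a)⁻¹, inv_mem hp2 hPp hm hcl χ.1.2⟩, by
    obtain ⟨a, ha⟩ := χ.2
    exact ⟨a, fun h => ha (inv_eq_one.1 h)⟩⟩
  have hX : Finite X := inferInstance
  have hcard : Nat.card X ≤ Module.finrank K V - 1 := by
    have h1 : Nat.card X < Nat.card (wts ρ A) := by
      have := Fintype.ofFinite X
      have := Fintype.ofFinite (wts ρ A)
      rw [Nat.card_eq_fintype_card, Nat.card_eq_fintype_card]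
      refine Fintype.card_lt_of_injective_of_notMem (fun χ : X => χ.1) Subtype.val_injective
        (b := ⟨fun _ => (1 : K), h1w⟩) ?_
      rintro ⟨χ, hχ⟩
      obtain ⟨a, ha⟩ := χ.2
      apply ha
      have h5 : χ.1 = ⟨fun _ => (1 : K), h1w⟩ := hχ
      rw [h5]
    have h2 := card_wts_le (ρ := ρ) (A := A) hP hA
    omega
  refine (index_dvd_of_tau hoddP (X := X) (N := A) ?_ ?_ τ ?_ ?_ ?_).trans
    (Nat.factorial_dvd_factorial (Nat.div_le_div_right hcard))
  · intro g hg
    refine hC g fun a ha => ?_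
    refine comm_of_fix hP hA hρ (fun χ hχ => ?_) ⟨a, ha⟩
    by_cases h1 : ∃ a, χ a ≠ 1
    · exact congrArg Subtype.val (congrArg Subtype.val (hg ⟨⟨χ, hχ⟩, h1⟩))
    · rw [not_exists] at h1
      simp only [not_not] at h1
      funext b
      simp only [cact, h1]
  · intro g hg χ
    apply Subtype.ext
    rw [hactX]
    apply Subtype.ext
    change cact g χ.1.1 = χ.1.1
    funext a
    refine congrArg χ.1.1 (Subtype.ext ?_)
    change g⁻¹ * a * g = a
    rw [mul_assoc, hA a a.2 g hg, ← mul_assoc, inv_mul_cancel, one_mul]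
  · intro χ
    apply Subtype.ext
    apply Subtype.ext
    funext a
    exact inv_inv _
  · intro χ h
    obtain ⟨a, ha⟩ := χ.2
    have h1 : (χ.1.1 a)⁻¹ = χ.1.1 a := congrFun (congrArg Subtype.val (congrArg Subtype.val h)) a
    have h2 : χ.1.1 a ^ 2 = 1 := by
      rw [pow_two]
      nth_rw 1 [← h1]
      exact inv_mul_cancel₀ (wts_ne_zero χ.1.2 a)
    have h3 := wts_pow_card χ.1.2 a
    apply ha
    obtain ⟨k, hk⟩ := hoddP
    rw [hk, pow_succ, pow_mul, h2, one_pow, one_mul] at h3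
    exact h3
  · intro g χ
    rfl

end Wts

/-! ### counting -/

section Count

variable {F : Type} [Field F] [Fintype F]

/-- the vectors with a given product with a nonzero vector -/
theorem card_dot {n : ℕ} {x : Fin n → F} (hx : x ≠ 0) (c : F) :
    Nat.card {y : Fin n → F // x ⬝ᵥ y = c} * Fintype.card F = Fintype.card F ^ n := by
  classical
  let f : (Fin n → F) →+ F :=
    { toFun := fun y => x ⬝ᵥ y
      map_zero' := dotProduct_zero x
      map_add' := fun y z => dotProduct_add x y z }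
  have hsurj : Function.Surjective f := by
    obtain ⟨i, hi⟩ : ∃ i, x i ≠ 0 := by
      by_contra h
      push Not at h
      exact hx (funext h)
    intro c
    refine ⟨Pi.single i ((x i)⁻¹ * c), ?_⟩
    change x ⬝ᵥ Pi.single i ((x i)⁻¹ * c) = c
    rw [dotProduct_single, mul_inv_cancel_left₀ hi]
  have h1 : ∀ d : F, Nat.card {y : Fin n → F // x ⬝ᵥ y = d} = Nat.card {y : Fin n → F // x ⬝ᵥ y = c} := by
    intro d
    obtain ⟨t, ht⟩ := hsurj (c - d)
    have ht' : x ⬝ᵥ t = c - d := ht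
    refine Nat.card_congr ⟨fun y => ⟨y.1 + t, ?_⟩, fun y => ⟨y.1 - t, ?_⟩, fun y => ?_, fun y => ?_⟩
    · rw [dotProduct_add, y.2, ht']
      ring
    · rw [dotProduct_sub, y.2, ht']
      ring
    · exact Subtype.ext (add_sub_cancel_right _ _)
    · exact Subtype.ext (sub_add_cancel _ _)
  have h2 : Nat.card (Fin n → F) = ∑ d : F, Nat.card {y : Fin n → F // x ⬝ᵥ y = d} := by
    rw [← Nat.card_sigma]
    exact Nat.card_congr (Equiv.sigmaFiberEquiv fun y : Fin n → F => x ⬝ᵥ y).symm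
  rw [Finset.sum_congr rfl fun d _ => h1 d, Finset.sum_const, Finset.card_univ, smul_eq_mul] at h2
  rw [mul_comm, ← h2, Nat.card_eq_fintype_card, Fintype.card_fun, Fintype.card_fin]

/-- the number of singular vectors -/
theorem card_sing {a b : F} (hab : ∀ z₁ z₂ : F, z₁ ^ 2 + a * z₁ * z₂ + b * z₂ ^ 2 = 0 → z₁ = 0 ∧ z₂ = 0) :
    Nat.card {v : (Fin 5 ⊕ Fin 5) ⊕ Fin 2 → F // quadFormMinus 5 F a b v = 0} =
      Fintype.card F ^ 5 + (Fintype.card F ^ 5 - 1) * Fintype.card F ^ 6 := by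
  classical
  set q := Fintype.card F with hq
  have hq0 : 0 < q := Fintype.card_pos
  let N : (Fin 2 → F) → F := fun z => z 0 ^ 2 + a * z 0 * z 1 + b * z 1 ^ 2
  let e : ((Fin 5 → F) × (Fin 2 → F)) × (Fin 5 → F) ≃ ((Fin 5 ⊕ Fin 5) ⊕ Fin 2 → F) :=
    { toFun := fun p => Sum.elim (Sum.elim p.1.1 p.2) p.1.2
      invFun := fun v => ((fun i => v (.inl (.inl i)), fun i => v (.inr i)), fun i => v (.inl (.inr i)))
      left_inv := fun p => rfl
      right_inv := fun v => by
        funext i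
        rcases i with (i | i) | i <;> rfl }
  have he : ∀ p, quadFormMinus 5 F a b (e p) = p.1.1 ⬝ᵥ p.2 + N p.1.2 := fun p => rfl
  have h1 : Nat.card {v : (Fin 5 ⊕ Fin 5) ⊕ Fin 2 → F // quadFormMinus 5 F a b v = 0} =
      ∑ p : (Fin 5 → F) × (Fin 2 → F), Nat.card {y : Fin 5 → F // p.1 ⬝ᵥ y + N p.2 = 0} := by
    rw [← Nat.card_sigma]
    refine Nat.card_congr ((e.subtypeEquiv fun p => ?_).symm.trans
      (Equiv.subtypeProdEquivSigmaSubtype fun (p : (Fin 5 → F) × (Fin 2 → F)) (y : Fin 5 → F) => p.1 ⬝ᵥ y + N p.2 = 0))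
    rw [he]
  rw [h1, Fintype.sum_prod_type]
  have h2 : ∀ x : Fin 5 → F, (∑ z : Fin 2 → F, Nat.card {y : Fin 5 → F // x ⬝ᵥ y + N z = 0}) =
      if x = 0 then q ^ 5 else q ^ 6 := by
    intro x
    by_cases hx : x = 0
    · rw [if_pos hx, Finset.sum_eq_single 0]
      · rw [hx]
        have h3 : N 0 = 0 := by
          change (0 : F) ^ 2 + a * 0 * 0 + b * 0 ^ 2 = 0
          ring
        rw [h3]
        have h4 : Nat.card {y : Fin 5 → F // (0 : Fin 5 → F) ⬝ᵥ y + 0 = 0} = Nat.card (Fin 5 → F) :=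
          Nat.card_congr (Equiv.subtypeUnivEquiv fun y => by rw [zero_dotProduct, add_zero])
        rw [h4, Nat.card_eq_fintype_card, Fintype.card_fun, Fintype.card_fin]
      · intro z _ hz
        rw [hx]
        have h3 : N z ≠ 0 := by
          intro h
          obtain ⟨h4, h5⟩ := hab _ _ h
          apply hz
          funext i
          fin_cases i
          · exact h4
          · exact h5
        have h4 : IsEmpty {y : Fin 5 → F // (0 : Fin 5 → F) ⬝ᵥ y + N z = 0} := ⟨fun y => h3 (by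
          have := y.2
          rwa [zero_dotProduct, zero_add] at this)⟩
        exact Nat.card_of_isEmpty
      · intro h
        exact absurd (Finset.mem_univ _) h
    · rw [if_neg hx]
      have h3 : ∀ z : Fin 2 → F, Nat.card {y : Fin 5 → F // x ⬝ᵥ y + N z = 0} = q ^ 4 := by
        intro z
        have h4 : Nat.card {y : Fin 5 → F // x ⬝ᵥ y + N z = 0} = Nat.card {y : Fin 5 → F // x ⬝ᵥ y = -N z} :=
          Nat.card_congr (Equiv.subtypeEquivRight fun y => by rw [add_eq_zero_iff_eq_neg])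
        rw [h4]
        have h5 := card_dot hx (-N z)
        rw [← hq, pow_succ] at h5
        exact Nat.eq_of_mul_eq_mul_right hq0 h5
      rw [Finset.sum_congr rfl fun z _ => h3 z, Finset.sum_const, Finset.card_univ, Fintype.card_fun,
        Fintype.card_fin, smul_eq_mul, ← hq]
      ring
  rw [Finset.sum_congr rfl fun x _ => h2 x, Finset.sum_ite, Finset.sum_const, Finset.sum_const,
    Finset.filter_eq' Finset.univ (0 : Fin 5 → F), if_pos (Finset.mem_univ _), Finset.card_singleton, one_smul,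
    smul_eq_mul]
  congr 2
  have h3 : (Finset.univ.filter fun x : Fin 5 → F => ¬ x = 0) = Finset.univ.erase 0 := by
    ext x
    simp
  rw [h3, Finset.card_erase_of_mem (Finset.mem_univ _), Finset.card_univ, Fintype.card_fun, Fintype.card_fin]

/-- the number of nonsingular vectors -/
theorem card_nonsing {a b : F} (hab : ∀ z₁ z₂ : F, z₁ ^ 2 + a * z₁ * z₂ + b * z₂ ^ 2 = 0 → z₁ = 0 ∧ z₂ = 0) :
    Nat.card {v : (Fin 5 ⊕ Fin 5) ⊕ Fin 2 → F // quadFormMinus 5 F a b v ≠ 0} =
      (Fintype.card F ^ 5 * (Fintype.card F ^ 6 + 1)) * (Fintype.card F - 1) := by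
  classical
  set q := Fintype.card F with hq
  have hq0 : 0 < q := Fintype.card_pos
  have h1 := Nat.card_congr (Equiv.sumCompl
    (fun v : (Fin 5 ⊕ Fin 5) ⊕ Fin 2 → F => quadFormMinus 5 F a b v = 0))
  rw [Nat.card_sum, card_sing hab] at h1
  have h2 : Nat.card ((Fin 5 ⊕ Fin 5) ⊕ Fin 2 → F) = q ^ 12 := by
    rw [Nat.card_eq_fintype_card, Fintype.card_fun]
    rfl
  rw [h2, ← hq] at h1
  obtain ⟨r, hr⟩ : ∃ r, q = r + 1 := ⟨q - 1, by omega⟩
  have h3 : q ^ 5 - 1 + 1 = q ^ 5 := Nat.sub_add_cancel (Nat.one_le_pow _ _ hq0)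
  have h4 : q - 1 + 1 = q := Nat.sub_add_cancel hq0
  set s := q ^ 5 - 1 with hs
  set t := q - 1 with ht
  have h5 : q ^ 5 + s * q ^ 6 + (q ^ 5 * (q ^ 6 + 1)) * t = q ^ 12 := by
    have h6 : s * q ^ 6 + q ^ 6 = q ^ 11 := by
      calc s * q ^ 6 + q ^ 6 = (s + 1) * q ^ 6 := by ring
        _ = q ^ 11 := by rw [h3]; ring
    have h7 : (q ^ 5 * (q ^ 6 + 1)) * t + q ^ 5 * (q ^ 6 + 1) = q ^ 5 * (q ^ 6 + 1) * q := by
      calc _ = q ^ 5 * (q ^ 6 + 1) * (t + 1) := by ring
        _ = _ := by rw [h4]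
    nlinarith [h6, h7]
  have h8 : Nat.card {v : (Fin 5 ⊕ Fin 5) ⊕ Fin 2 → F // ¬ quadFormMinus 5 F a b v = 0} =
      q ^ 5 * (q ^ 6 + 1) * t := by
    have h9 : ∀ x y z : ℕ, x + y = z → x + (q ^ 5 * (q ^ 6 + 1)) * t = z → y = q ^ 5 * (q ^ 6 + 1) * t := by
      intro x y z h h'
      omega
    exact h9 _ _ _ h1 h5
  exact h8

end Count

/-! ### fixed vectors -/

section Fix

/-- a `p`-group acting on a set together with a free `p`-group commuting with it -/
theorem exists_fix_of_free {p : ℕ} [Fact p.Prime] {P C X : Type*} [Group P] [Group C] [Finite P] [Finite C] [Finite X]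
    (hP : IsPGroup p P) (hC : IsPGroup p C) [MulAction P X] [MulAction C X]
    (hcomm : ∀ (g : P) (c : C) (x : X), g • c • x = c • g • x)
    (hfree : ∀ (c : C) (x : X), c • x = x → c = 1)
    (hX : ¬ p * Nat.card C ∣ Nat.card X) : ∃ x : X, ∀ g : P, ∃ c : C, g • x = c • x := by
  let act : MulAction (P × C) X :=
    { smul := fun g x => g.1 • g.2 • x
      one_smul := fun x => by
        change (1 : P) • (1 : C) • x = x
        rw [one_smul, one_smul]
      mul_smul := fun g h x => by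
        change (g.1 * h.1) • (g.2 * h.2) • x = g.1 • g.2 • h.1 • h.2 • x
        rw [mul_smul, mul_smul, ← hcomm h.1 g.2] }
  have hact : ∀ (g : P × C) (x : X), g • x = g.1 • g.2 • x := fun g x => rfl
  have hpg : IsPGroup p (P × C) := by
    obtain ⟨a, ha⟩ := IsPGroup.iff_card.1 hP
    obtain ⟨b, hb⟩ := IsPGroup.iff_card.1 hC
    refine IsPGroup.of_card (n := a + b) ?_
    rw [Nat.card_prod, ha, hb, pow_add]
  obtain ⟨b, hb⟩ := IsPGroup.iff_card.1 hC
  -- the `C`-orbits have full size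
  have hCo : ∀ x : X, Nat.card (MulAction.orbit C x) = p ^ b := by
    intro x
    rw [← hb, Nat.card_coe_set_eq, ← MulAction.index_stabilizer]
    have : MulAction.stabilizer C x = ⊥ := by
      rw [Subgroup.eq_bot_iff_forall]
      intro c hc
      exact hfree c x hc
    rw [this, Subgroup.index_bot]
  have hsub : ∀ x : X, MulAction.orbit C x ⊆ MulAction.orbit (P × C) x := by
    rintro x _ ⟨c, rfl⟩
    refine ⟨(1, c), ?_⟩
    change (1 : P) • c • x = c • x
    rw [one_smul]
  have hex : ∃ x : X, Nat.card (MulAction.orbit (P × C) x) = p ^ b := by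
    by_contra hcon
    push Not at hcon
    apply hX
    have := Fintype.ofFinite X
    have := Fintype.ofFinite (MulAction.orbitRel.Quotient (P × C) X)
    rw [Nat.card_congr (MulAction.selfEquivSigmaOrbits (P × C) X), Nat.card_sigma]
    refine Finset.dvd_sum fun ω _ => ?_
    obtain ⟨k, hk⟩ := hpg.card_orbit (ω.out)
    have h1 := hcon ω.out
    rw [hk] at h1 ⊢
    have h2 : p ^ b ≤ p ^ k := by
      rw [← hk, ← hCo ω.out]
      exact Nat.card_mono (Set.toFinite _) (hsub _)
    have h3 : b ≤ k := (Nat.pow_le_pow_iff_right (Fact.out : p.Prime).one_lt).1 h2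
    have h4 : b ≠ k := by
      rintro rfl
      exact h1 rfl
    rw [hb, ← pow_succ']
    exact pow_dvd_pow p (by omega)
  obtain ⟨x, hx⟩ := hex
  refine ⟨x, fun g => ?_⟩
  have h1 : MulAction.orbit C x = MulAction.orbit (P × C) x := by
    apply Set.eq_of_subset_of_ncard_le (hsub x) _ (Set.toFinite _)
    rw [← Nat.card_coe_set_eq, ← Nat.card_coe_set_eq, hx, hCo]
  have h2 : g • x ∈ MulAction.orbit (P × C) x := by
    refine ⟨(g, 1), ?_⟩
    change g • (1 : C) • x = g • x
    rw [one_smul]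
  rw [← h1] at h2
  obtain ⟨c, hc⟩ := h2
  exact ⟨c, hc.symm⟩


variable {F : Type} [Field F] [Fintype F] {ι : Type} [Fintype ι] [DecidableEq ι]

/-- the variant of `hasAb_quad` in which a Sylow subgroup fixes a nonzero vector -/
theorem hasAb_quad_fix {p : ℕ} [Fact p.Prime] (hp2 : p ≠ 2) (hp : (p : F) ≠ 0) (Q : (ι → F) → F)
    (B : (ι → F) →ₗ[F] (ι → F) →ₗ[F] F) (hB : ∀ u v, Q (u + v) = Q u + Q v + B u v)
    (hnd : ∀ w, (∀ v, B v w = 0) → w = 0) {N : ℕ} (hN : (Fintype.card ι - 1) / 2 = N)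
    (hfix : ∀ P : Sylow p (Omega F Q), ∃ v : ι → F, v ≠ 0 ∧ ∀ x ∈ P, (x.1.1.1 : Matrix ι ι F) *ᵥ v = v) :
    HasAb p (POmega F Q) N := by
  have hfin : Finite (Matrix.GeneralLinearGroup ι F) := inferInstance
  let μ : Omega F Q →* Matrix ι ι F := ((Units.coeHom (Matrix ι ι F)).comp (isometryGroup F Q).subtype).comp
    (Omega F Q).subtype
  have hμ : Function.Injective μ := by
    intro x y h
    apply Subtype.ext
    apply Subtype.ext
    exact Units.ext h
  let J : Matrix ι ι F := LinearMap.toMatrix₂' F B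
  have hJ : ∀ u v, u ⬝ᵥ (J *ᵥ v) = B u v := by
    intro u v
    rw [← Matrix.toLinearMap₂'_apply', Matrix.toLinearMap₂'_toMatrix']
  have hJu : IsUnit J.det := by
    rw [← Matrix.isUnit_iff_isUnit_det, ← Matrix.mulVec_injective_iff_isUnit]
    intro w w' h
    rw [← sub_eq_zero]
    apply hnd
    intro v
    rw [← hJ, Matrix.mulVec_sub]
    change v ⬝ᵥ (J *ᵥ w - J *ᵥ w') = 0
    have h' : J *ᵥ w = J *ᵥ w' := h
    rw [h', sub_self, dotProduct_zero]
  have hJi : ∀ x, (μ x).transpose * J * μ x = J := by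
    intro x
    have hx : ∀ u, Q (μ x *ᵥ u) = Q u := fun u => x.1.2 u u
    have h1 : ∀ u v, B (μ x *ᵥ u) (μ x *ᵥ v) = B u v := by
      intro u v
      have h2 := hB (μ x *ᵥ u) (μ x *ᵥ v)
      rw [← Matrix.mulVec_add, hx, hx, hx, hB u v] at h2
      exact (add_left_cancel h2).symm
    ext i j
    have h3 := h1 (Pi.single i 1) (Pi.single j 1)
    rw [← hJ, ← hJ, Matrix.mulVec_mulVec, ← Matrix.vecMul_transpose, ← Matrix.dotProduct_mulVec,
      Matrix.mulVec_mulVec, ← mul_assoc] at h3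
    rw [single_dotProduct, single_dotProduct, one_mul, one_mul, Matrix.mulVec_single_one,
      Matrix.mulVec_single_one] at h3
    exact h3
  -- the group
  obtain ⟨P⟩ : Nonempty (Sylow p (Omega F Q)) := inferInstance
  obtain ⟨v₀, hv₀, hPv⟩ := hfix P
  have hPp : IsPGroup p P := P.isPGroup'
  have : Group.IsNilpotent P := hPp.isNilpotent
  obtain ⟨A, hn, hAc, hAC⟩ := Lib.NormalAbelian.exists_normal_abelian_selfCentralizing (G := P)
  have hA : ∀ a ∈ A, ∀ b ∈ A, a * b = b * a := fun a ha b hb => by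
    have := hAc.is_comm.comm ⟨a, ha⟩ ⟨b, hb⟩
    exact congrArg Subtype.val this
  refine HasAb.of_surj (QuotientGroup.mk' (Subgroup.center (Omega F Q))) (QuotientGroup.mk'_surjective _) P A hA ?_
  have h1w : (fun _ => (1 : AlgebraicClosure F)) ∈ wts ((rep μ).comp (P : Subgroup (Omega F Q)).subtype) A := by
    refine (Submodule.ne_bot_iff _).2 ⟨fun i => algebraMap F (AlgebraicClosure F) (v₀ i), ?_, ?_⟩
    · rw [mem_W]
      intro a
      rw [one_smul]
      change rep μ a.1.1 _ = _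
      rw [rep_apply]
      have h1 : (μ a.1.1) *ᵥ v₀ = v₀ := hPv a.1.1 a.1.2
      funext i
      have h2 := congrArg (algebraMap F (AlgebraicClosure F)) (congrFun h1 i)
      rw [← h2, Matrix.mulVec, Matrix.mulVec, dotProduct, dotProduct, map_sum]
      exact Finset.sum_congr rfl fun j _ => by rw [map_mul]; rfl
    · intro h
      apply hv₀
      funext i
      have h2 := congrFun h i
      exact (map_eq_zero _).1 h2
  have hfr : (Module.finrank (AlgebraicClosure F) (ι → AlgebraicClosure F) - 1) / 2 = N := by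
    rw [Module.finrank_fintype_fun_eq_card, hN]
  rw [← hfr]
  refine index_dvd_half_fix (ρ := (rep μ).comp (P : Subgroup (Omega F Q)).subtype) hp2 hPp (cast_ne_zero hp)
    ((rep_injective μ hμ).comp Subtype.val_injective) hn hA ?_ (m := -((1 : ℕ) : ℤ)) (by simp) ?_ h1w
  · intro x hx
    rw [← hAC, Subgroup.mem_centralizer_iff]
    intro a ha
    exact (hx a ha).symm
  · intro χ hχ
    set J' := J.map (algebraMap F (AlgebraicClosure F)) with hJ'
    have hdet : IsUnit J'.det := by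
      have h1 : J'.det = algebraMap F (AlgebraicClosure F) J.det := by
        rw [RingHom.map_det]
        rfl
      rw [h1]
      exact hJu.map _
    let B : (ι → AlgebraicClosure F) → ((ι → AlgebraicClosure F) →ₗ[AlgebraicClosure F] AlgebraicClosure F) := fun w =>
      { toFun := fun v => v ⬝ᵥ (J' *ᵥ w)
        map_add' := fun v v' => add_dotProduct _ _ _
        map_smul' := fun c v => smul_dotProduct _ _ _ }
    refine closed_of_form (card_ne hp P.isPGroup') hA B 1 ?_ ?_ ?_ hχ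
    · intro c w v
      change v ⬝ᵥ (J' *ᵥ (c • w)) = c ^ 1 * (v ⬝ᵥ (J' *ᵥ w))
      rw [Matrix.mulVec_smul, dotProduct_smul, pow_one, smul_eq_mul]
    · intro x w v
      change (rep μ x.1 v) ⬝ᵥ (J' *ᵥ (rep μ x.1 w)) = v ⬝ᵥ (J' *ᵥ w)
      rw [rep_apply, rep_apply]
      set M := (μ x.1).map (algebraMap F (AlgebraicClosure F)) with hM
      have h1 : M.transpose * J' * M = J' := by
        have h2 := congrArg (fun X : Matrix ι ι F => X.map (algebraMap F (AlgebraicClosure F))) (hJi x.1)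
        simp only [Matrix.map_mul] at h2
        rw [hM, hJ', ← Matrix.transpose_map]
        exact h2
      rw [Matrix.mulVec_mulVec, ← Matrix.vecMul_transpose, ← Matrix.dotProduct_mulVec, Matrix.mulVec_mulVec,
        ← mul_assoc, h1]
    · intro w hw h0
      apply hw
      have h1 : J' *ᵥ w = 0 := by
        funext i
        have h2 := LinearMap.congr_fun h0 (Pi.single i 1)
        change (Pi.single i 1 : ι → AlgebraicClosure F) ⬝ᵥ (J' *ᵥ w) = 0 at h2
        rw [single_dotProduct, one_mul] at h2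
        exact h2
      have h3 := Matrix.mulVec_injective_iff_isUnit.2 ((Matrix.isUnit_iff_isUnit_det J').2 hdet)
      apply h3
      rw [h1, Matrix.mulVec_zero]


/-- a Sylow 3-subgroup fixes a nonsingular vector if the number of nonsingular lines is prime to three -/
theorem exists_fix_quad (Q : (ι → F) → F) (hQs : ∀ (c : F) (v : ι → F), Q (c • v) = c ^ 2 * Q v)
    {M : ℕ} (hM : ¬ 3 ∣ M) (hcard : Nat.card {v : ι → F // Q v ≠ 0} = M * (Fintype.card F - 1))
    (P : Sylow 3 (Omega F Q)) :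
    ∃ v : ι → F, v ≠ 0 ∧ ∀ x ∈ P, (x.1.1.1 : Matrix ι ι F) *ᵥ v = v := by
  classical
  have : Fact (Nat.Prime 3) := ⟨Nat.prime_three⟩
  have hfin : Finite (Matrix.GeneralLinearGroup ι F) := inferInstance
  let X := {v : ι → F // Q v ≠ 0}
  obtain ⟨C⟩ : Nonempty (Sylow 3 Fˣ) := inferInstance
  let actP : MulAction P X :=
    { smul := fun g v => ⟨(g.1.1.1.1 : Matrix ι ι F) *ᵥ v.1, by
        have h1 : Q ((g.1.1.1.1 : Matrix ι ι F) *ᵥ v.1) = Q v.1 := g.1.1.2 v.1 v.1
        rw [h1]
        exact v.2⟩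
      one_smul := fun v => Subtype.ext (Matrix.one_mulVec v.1)
      mul_smul := fun g h v => Subtype.ext (Matrix.mulVec_mulVec v.1 _ _).symm }
  let actC : MulAction C X :=
    { smul := fun c v => ⟨(c.1 : F) • v.1, by
        rw [hQs]
        exact mul_ne_zero (pow_ne_zero _ c.1.ne_zero) v.2⟩
      one_smul := fun v => Subtype.ext (one_smul F v.1)
      mul_smul := fun g h v => Subtype.ext (mul_smul (g.1 : F) (h.1 : F) v.1) }
  obtain ⟨v, hv⟩ := exists_fix_of_free (p := 3) (P := P) (C := C) (X := X) P.isPGroup' C.isPGroup'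
    (fun g c x => Subtype.ext (Matrix.mulVec_smul (g.1.1.1.1 : Matrix ι ι F) (c.1 : F) x.1)) (fun c x h => by
      have h1 : (c.1 : F) • x.1 = x.1 := congrArg Subtype.val h
      have hx : x.1 ≠ 0 := by
        intro h0
        apply x.2
        have h2 := hQs 0 x.1
        rw [zero_smul] at h2
        rw [h0, h2]
        ring
      have h2 : ((c.1 : F) - 1) • x.1 = 0 := by rw [sub_smul, h1, one_smul, sub_self]
      have h3 : (c.1 : F) = 1 := by
        rcases smul_eq_zero.1 h2 with h | h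
        · exact sub_eq_zero.1 h
        · exact absurd h hx
      exact Subtype.ext (Units.ext h3)) (by
      intro h
      have h1 : Nat.card X = M * (Fintype.card F - 1) := hcard
      rw [h1, Sylow.card_eq_multiplicity, ← pow_succ'] at h
      have h2 : Nat.card Fˣ = Fintype.card F - 1 := by
        rw [Nat.card_units, Nat.card_eq_fintype_card]
      rw [h2] at h
      have h3 : Nat.Coprime 3 M := (Nat.Prime.coprime_iff_not_dvd Nat.prime_three).2 hM
      have h4 := (Nat.Coprime.pow_left _ h3).dvd_of_dvd_mul_left h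
      have h5 : Fintype.card F - 1 ≠ 0 := by
        have := Fintype.one_lt_card (α := F)
        omega
      have h6 := (Nat.prime_three.pow_dvd_iff_le_factorization h5).1 h4
      omega)
  refine ⟨v.1, ?_, fun x hx => ?_⟩
  · intro h0
    apply v.2
    have h2 := hQs 0 v.1
    rw [zero_smul] at h2
    rw [h0, h2]
    ring
  · obtain ⟨c, hc⟩ := hv ⟨x, hx⟩
    have h1 : (x.1.1.1 : Matrix ι ι F) *ᵥ v.1 = (c.1 : F) • v.1 := congrArg Subtype.val hc
    have h2 : Q ((x.1.1.1 : Matrix ι ι F) *ᵥ v.1) = Q v.1 := x.1.2 v.1 v.1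
    rw [h1, hQs] at h2
    have h3 : (c.1 : F) ^ 2 = 1 := by
      apply mul_right_cancel₀ v.2
      rw [h2, one_mul]
    have h4 : c ^ 2 = 1 := by
      apply Subtype.ext
      apply Units.ext
      simpa using h3
    have h5 : c = 1 := by
      obtain ⟨k, hk⟩ := IsPGroup.iff_card.1 C.isPGroup'
      have h6 : c ^ 3 ^ k = 1 := by
        rw [← hk]
        exact pow_card_eq_one'
      have h7 : orderOf c ∣ Nat.gcd 2 (3 ^ k) := Nat.dvd_gcd (orderOf_dvd_of_pow_eq_one h4) (orderOf_dvd_of_pow_eq_one h6)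
      have h8 : Nat.gcd 2 (3 ^ k) = 1 := Nat.Coprime.pow_right k (by decide)
      rw [h8, Nat.dvd_one, orderOf_eq_one_iff] at h7
      exact h7
    rw [h1, h5]
    exact one_smul F v.1

/-- a Sylow 3-subgroup of `Ω₁₂⁻(q)` fixes a nonsingular vector if `q` is prime to three -/
theorem exists_fix_minus {a b : F} (hq : ¬ 3 ∣ Fintype.card F)
    (hab : ∀ z₁ z₂ : F, z₁ ^ 2 + a * z₁ * z₂ + b * z₂ ^ 2 = 0 → z₁ = 0 ∧ z₂ = 0)
    (P : Sylow 3 (Omega F (quadFormMinus 5 F a b))) :
    ∃ v : (Fin 5 ⊕ Fin 5) ⊕ Fin 2 → F, v ≠ 0 ∧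
      ∀ x ∈ P, (x.1.1.1 : Matrix ((Fin 5 ⊕ Fin 5) ⊕ Fin 2) ((Fin 5 ⊕ Fin 5) ⊕ Fin 2) F) *ᵥ v = v := by
  refine exists_fix_quad (quadFormMinus 5 F a b) ?_ ?_ (card_nonsing hab) P
  · intro c v
    simp only [quadFormMinus, Pi.smul_apply, smul_eq_mul, mul_add, Finset.mul_sum]
    refine congrArg₂ _ (Finset.sum_congr rfl fun i _ => ?_) ?_ <;> ring
  · rw [Nat.prime_three.dvd_mul]
    rintro (h3 | h3)
    · exact hq (Nat.prime_three.dvd_of_dvd_pow h3)
    · have h4 : Fintype.card F % 3 = 1 ∨ Fintype.card F % 3 = 2 := by omega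
      have h5 := Nat.dvd_iff_mod_eq_zero.1 h3
      rw [Nat.add_mod, Nat.pow_mod] at h5
      rcases h4 with h4 | h4 <;> rw [h4] at h5 <;> omega

end Fix

/-! ### conclusion -/

variable {F : Type} [Field F] [Fintype F]

/-- the bilinear form and the conclusion -/
theorem hasAb_minus_five {a b : F} (hq : ¬ 3 ∣ Fintype.card F)
    (han : ∀ z₁ z₂ : F, z₁ ^ 2 + a * z₁ * z₂ + b * z₂ ^ 2 = 0 → z₁ = 0 ∧ z₂ = 0) :
    HasAb 3 (POmega F (quadFormMinus 5 F a b)) 5 := by
  have : Fact (Nat.Prime 3) := ⟨Nat.prime_three⟩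
  let B : ((Fin 5 ⊕ Fin 5) ⊕ Fin 2 → F) →ₗ[F] ((Fin 5 ⊕ Fin 5) ⊕ Fin 2 → F) →ₗ[F] F :=
    LinearMap.mk₂ F (fun u v =>
      (∑ i, (u (.inl (.inl i)) * v (.inl (.inr i)) + v (.inl (.inl i)) * u (.inl (.inr i)))) +
      (2 * u (.inr 0) * v (.inr 0) + a * (u (.inr 0) * v (.inr 1) + v (.inr 0) * u (.inr 1)) +
        2 * b * u (.inr 1) * v (.inr 1)))
      (fun u u' v => by
        rw [add_add_add_comm, ← Finset.sum_add_distrib]
        refine congrArg₂ _ (Finset.sum_congr rfl fun i _ => ?_) ?_ <;> (simp only [Pi.add_apply]; ring))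
      (fun c u v => by
        rw [smul_eq_mul, mul_add c, Finset.mul_sum]
        refine congrArg₂ _ (Finset.sum_congr rfl fun i _ => ?_) ?_ <;> (simp only [Pi.smul_apply, smul_eq_mul]; ring))
      (fun u v v' => by
        rw [add_add_add_comm, ← Finset.sum_add_distrib]
        refine congrArg₂ _ (Finset.sum_congr rfl fun i _ => ?_) ?_ <;> (simp only [Pi.add_apply]; ring))
      (fun c u v => by
        rw [smul_eq_mul, mul_add c, Finset.mul_sum]
        refine congrArg₂ _ (Finset.sum_congr rfl fun i _ => ?_) ?_ <;> (simp only [Pi.smul_apply, smul_eq_mul]; ring))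
  have hBe : ∀ u v, B u v =
      (∑ i, (u (.inl (.inl i)) * v (.inl (.inr i)) + v (.inl (.inl i)) * u (.inl (.inr i)))) +
      (2 * u (.inr 0) * v (.inr 0) + a * (u (.inr 0) * v (.inr 1) + v (.inr 0) * u (.inr 1)) +
        2 * b * u (.inr 1) * v (.inr 1)) := fun u v => rfl
  refine hasAb_quad_fix (by norm_num) (Cfsg.Agent.H128.Cross3.three_ne_zero' hq) (quadFormMinus 5 F a b) B ?_ ?_ ?_
    (exists_fix_minus hq han)
  · intro u v
    rw [hBe]
    simp only [quadFormMinus]
    have h3 : ∀ a b c d e f : F, a + b + (c + d) + (e + f) = (a + c + e) + (b + d + f) := by intros; ring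
    rw [h3, ← Finset.sum_add_distrib, ← Finset.sum_add_distrib]
    refine congrArg₂ _ (Finset.sum_congr rfl fun i _ => ?_) ?_ <;> (simp only [Pi.add_apply]; ring)
  · intro w h
    have h0 := h (Pi.single (.inr 0) 1)
    have h1 := h (Pi.single (.inr 1) 1)
    rw [hBe] at h0 h1
    have h0' : 2 * w (.inr 0) + a * w (.inr 1) = 0 := by simpa [Pi.single_apply] using h0
    have h1' : a * w (.inr 0) + 2 * b * w (.inr 1) = 0 := by simpa [Pi.single_apply] using h1
    have h3 : w (.inr 0) = 0 ∧ w (.inr 1) = 0 := by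
      by_cases h2 : (2 : F) = 0
      · -- characteristic two
        rw [h2, zero_mul, zero_add] at h0'
        rw [h2, zero_mul, zero_mul, add_zero] at h1'
        have ha : a ≠ 0 := by
          intro ha
          -- `z ↦ z ^ 2` is onto
          have hchar : CharP F 2 := CharTwo.of_one_ne_zero_of_two_eq_zero one_ne_zero h2
          obtain ⟨z, hz⟩ : ∃ z : F, z ^ 2 = b := by
            have := (frobenius_inj F 2)
            obtain ⟨z, hz⟩ := (Finite.injective_iff_surjective.1 this) b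
            exact ⟨z, hz⟩
          have h4 := han z 1 (by
            rw [ha, hz, zero_mul, zero_mul, one_pow, mul_one, add_zero, ← two_mul, h2, zero_mul])
          exact one_ne_zero h4.2
        exact ⟨(mul_eq_zero.1 h1').resolve_left ha, (mul_eq_zero.1 h0').resolve_left ha⟩
      · refine han _ _ ?_
        have h4 : 2 * (w (.inr 0) ^ 2 + a * w (.inr 0) * w (.inr 1) + b * w (.inr 1) ^ 2) = 0 := by
          linear_combination w (.inr 0) * h0' + w (.inr 1) * h1'
        exact (mul_eq_zero.1 h4).resolve_left h2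
    funext j
    rcases j with (j | j) | j
    · have h4 := h (Pi.single (.inl (.inr j)) 1)
      rw [hBe] at h4
      simpa [Pi.single_apply] using h4
    · have h4 := h (Pi.single (.inl (.inl j)) 1)
      rw [hBe] at h4
      simpa [Pi.single_apply] using h4
    · fin_cases j
      · exact h3.1
      · exact h3.2
  · rw [Fintype.card_sum, Fintype.card_sum, Fintype.card_fin, Fintype.card_fin]

theorem ominus_false {m : ℕ} (hm : 4 ≤ m) {a b : F}
    (hab : ∀ z₁ z₂ : F, z₁ ^ 2 + a * z₁ * z₂ + b * z₂ ^ 2 = 0 → z₁ = 0 ∧ z₂ = 0) (hq : ¬ 3 ∣ Fintype.card F)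
    (h : Hy (POmega F (quadFormMinus (m - 1) F a b))) : False := by
  obtain rfl : m = 6 := ominus_six hm hab hq h
  have hfin := Cfsg.Agent.H128.Cross3.finite_pomega (quadFormMinus 5 F a b)
  have h1 := Hy.le (G := POmega F (quadFormMinus 5 F a b)) h (hasAb_minus_five hq hab)
  omega

end Cfsg.Agent.H345.EOne
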