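import Cfsg.Agent.H345.EOneCl

/-!
# The configuration of order 11664: linear and unitary groups in dimension 6 (helper345)

In `PSL_6(q)`, `q ≡ 1 mod 3`, and in `PSU_6(q)`, `q ≡ -1 mod 3`, there is a 3-subgroup whose centralizer has only two
elements of order three.
-/

set_option autoImplicit false

namespace Cfsg.Agent.H345.EOne

open Cfsg Subgroup
open scoped Matrix

section Six

variable {F : Type*} [Field F]

/-- permutation matrices -/
def pm (s : Equiv.Perm (Fin 6)) : Matrix (Fin 6) (Fin 6) F := Matrix.of fun i j => if s i = j then 1 else 0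

theorem pm_mul_apply (s : Equiv.Perm (Fin 6)) (M : Matrix (Fin 6) (Fin 6) F) (i j : Fin 6) :
    (pm s * M : Matrix (Fin 6) (Fin 6) F) i j = M (s i) j := by
  rw [Matrix.mul_apply, Finset.sum_eq_single (s i)]
  · simp [pm]
  · intro b _ hb
    simp [pm, hb.symm]
  · intro h
    exact absurd (Finset.mem_univ _) h

theorem pm_mulVec (s : Equiv.Perm (Fin 6)) (v : Fin 6 → F) (i : Fin 6) :
    (pm s *ᵥ v) i = v (s i) := by
  rw [Matrix.mulVec, dotProduct, Finset.sum_eq_single (s i)]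
  · simp [pm]
  · intro b _ hb
    simp [pm, hb.symm]
  · intro h
    exact absurd (Finset.mem_univ _) h

theorem pm_mul (s t : Equiv.Perm (Fin 6)) : (pm s * pm t : Matrix _ _ F) = pm (t * s) := by
  ext i j
  rw [pm_mul_apply]
  rfl

theorem pm_one : (pm 1 : Matrix _ _ F) = 1 := by
  ext i j
  rw [Matrix.one_apply]
  rfl

theorem pm_diag (s : Equiv.Perm (Fin 6)) (a : Fin 6 → F) :
    pm s * Matrix.diagonal a = Matrix.diagonal (fun i => a (s i)) * pm s := by
  ext i j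
  rw [pm_mul_apply, Matrix.diagonal_mul, Matrix.diagonal_apply]
  by_cases h : s i = j
  · simp [pm, h]
  · simp [pm, h]

theorem pm_det (s : Equiv.Perm (Fin 6)) : (pm s : Matrix _ _ F).det = (Equiv.Perm.sign s : ℤ) := by
  have h : (pm s : Matrix (Fin 6) (Fin 6) F) = (Equiv.Perm.permMatrix F s) := by
    ext i j
    simp [pm, Equiv.Perm.permMatrix, PEquiv.toMatrix_apply, Equiv.toPEquiv_apply, eq_comm]
  rw [h, Matrix.det_permutation]

theorem scalar_one {X X' Y : Matrix (Fin 6) (Fin 6) F} {c : F} (h : X * Y = c • (Y * X)) (h1 : X * X' = 1)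
    (h2 : X' * X = 1) (ht : Y.trace ≠ 0) : c = 1 := by
  have h3 : (X * Y * X').trace = Y.trace := by
    rw [Matrix.trace_mul_cycle, h2, one_mul]
  rw [h, Matrix.smul_mul, mul_assoc, h1, mul_one, Matrix.trace_smul, smul_eq_mul] at h3
  exact mul_right_cancel₀ ht (h3.trans (one_mul _).symm)

/-- `ζ` at `i`, `ζ²` at `j` -/
def dv (ζ : F) (i j k : Fin 6) : F := if k = i then ζ else if k = j then ζ ^ 2 else 1

theorem dv_prod {ζ : F} (hζ : ζ ^ 3 = 1) {i j : Fin 6} (hij : i ≠ j) : ∏ k, dv ζ i j k = 1 := by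
  classical
  unfold dv
  rw [Finset.prod_ite, Finset.prod_ite, Finset.filter_eq' _ i, if_pos (Finset.mem_univ _), Finset.prod_singleton,
    Finset.filter_filter]
  have h1 : (Finset.univ.filter fun k : Fin 6 => ¬ k = i ∧ k = j) = {j} := by
    ext k
    simp only [Finset.mem_filter, Finset.mem_univ, true_and, Finset.mem_singleton]
    constructor
    · exact fun h => h.2
    · rintro rfl
      exact ⟨hij.symm, rfl⟩
  rw [h1, Finset.prod_singleton, Finset.prod_const_one, mul_one, ← hζ]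
  ring

theorem dv_sum {ζ : F} (hζ : ζ ^ 2 + ζ + 1 = 0) {i j : Fin 6} (hij : i ≠ j) : ∑ k, dv ζ i j k = 3 := by
  have h4 : ∀ i j : Fin 6, i ≠ j → (Finset.univ.filter fun k : Fin 6 => ¬ k = i ∧ ¬ k = j).card = 4 := by decide
  classical
  unfold dv
  rw [Finset.sum_ite, Finset.sum_ite, Finset.filter_eq' _ i, if_pos (Finset.mem_univ _), Finset.sum_singleton,
    Finset.filter_filter, Finset.filter_filter]
  have h1 : (Finset.univ.filter fun k : Fin 6 => ¬ k = i ∧ k = j) = {j} := by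
    ext k
    simp only [Finset.mem_filter, Finset.mem_univ, true_and, Finset.mem_singleton]
    constructor
    · exact fun h => h.2
    · rintro rfl
      exact ⟨hij.symm, rfl⟩
  rw [h1, Finset.sum_singleton, Finset.sum_const, h4 i j hij, nsmul_eq_mul]
  push_cast
  linear_combination hζ

theorem diag_of_comm {ζ : F} (hζ : ζ ^ 2 + ζ + 1 = 0) (h3 : (3 : F) ≠ 0) {M : Matrix (Fin 6) (Fin 6) F}
    (h : ∀ i j, i ≠ j → M * Matrix.diagonal (dv ζ i j) = Matrix.diagonal (dv ζ i j) * M) :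
    M = Matrix.diagonal fun i => M i i := by
  ext i j
  rw [Matrix.diagonal_apply]
  split_ifs with hij
  · rw [hij]
  · have h1 := congrFun (congrFun (h i j hij) i) j
    rw [Matrix.mul_diagonal, Matrix.diagonal_mul] at h1
    have h2 : dv ζ i j i = ζ := if_pos rfl
    have h4 : dv ζ i j j = ζ ^ 2 := by
      unfold dv
      rw [if_neg (Ne.symm hij), if_pos rfl]
    rw [h2, h4] at h1
    have h5 : (ζ ^ 2 - ζ) * M i j = 0 := by linear_combination h1
    refine (mul_eq_zero.1 h5).resolve_left ?_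
    intro h6
    have h7 : ζ ≠ 0 := by
      rintro rfl
      simp at hζ
    have h8 : ζ = 1 := by
      apply mul_left_cancel₀ h7
      linear_combination h6
    apply h3
    rw [h8] at hζ
    linear_combination hζ

theorem eq_of_comm_pm {a : Fin 6 → F} {s : Equiv.Perm (Fin 6)}
    (h : Matrix.diagonal a * pm s = pm s * Matrix.diagonal a) (i : Fin 6) : a (s i) = a i := by
  have h1 := congrFun (congrFun h i) (s i)
  rw [Matrix.diagonal_mul, pm_mul_apply, Matrix.diagonal_apply_eq] at h1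
  rw [← h1]
  simp [pm]

/-- the three permutations -/
def s1 : Equiv.Perm (Fin 6) := Equiv.swap 0 1 * Equiv.swap 1 2
def s2 : Equiv.Perm (Fin 6) := Equiv.swap 3 4 * Equiv.swap 4 5
def s3 : Equiv.Perm (Fin 6) := Equiv.swap 2 3 * Equiv.swap 3 4


theorem diag_pow (a : Fin 6 → F) (k : ℕ) : (Matrix.diagonal a) ^ k = Matrix.diagonal (fun i => a i ^ k) := by
  rw [Matrix.diagonal_pow]
  rfl

theorem pm_trace : (pm s1 : Matrix _ _ F).trace = 3 ∧ (pm s2 : Matrix _ _ F).trace = 3 := by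
  have h1 : ∀ s : Equiv.Perm (Fin 6), (pm s : Matrix _ _ F).trace = ((Finset.univ.filter fun i => s i = i).card : F) := by
    intro s
    rw [Matrix.trace, Finset.card_filter]
    push_cast
    rfl
  rw [h1, h1]
  have h2 : (Finset.univ.filter fun i => s1 i = i).card = 3 := by decide
  have h3 : (Finset.univ.filter fun i => s2 i = i).card = 3 := by decide
  rw [h2, h3]
  norm_num

variable {Γ : Type*} [Group Γ] {μ : Γ →* Matrix (Fin 6) (Fin 6) F}

theorem mu_inv (x : Γ) : μ x * μ x⁻¹ = 1 ∧ μ x⁻¹ * μ x = 1 := by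
  rw [← map_mul, ← map_mul, mul_inv_cancel, inv_mul_cancel, map_one]
  exact ⟨rfl, rfl⟩

theorem center_scalar {ζ : F} (hζ : ζ ^ 2 + ζ + 1 = 0) (h3 : (3 : F) ≠ 0)
    (hd : ∀ i j, i ≠ j → ∃ x : Γ, μ x = Matrix.diagonal (dv ζ i j))
    (hp : ∀ s : Equiv.Perm (Fin 6), Equiv.Perm.sign s = 1 → ∃ x : Γ, μ x = pm s) {z : Γ} (hz : z ∈ center Γ) :
    ∃ c : F, μ z = c • (1 : Matrix _ _ F) := by
  have hc : ∀ x : Γ, μ z * μ x = μ x * μ z := by
    intro x
    rw [← map_mul, ← map_mul, mem_center_iff.1 hz x]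
  have h1 := diag_of_comm hζ h3 (M := μ z) (fun i j hij => by
    obtain ⟨x, hx⟩ := hd i j hij
    rw [← hx]
    exact hc x)
  have h2 : ∀ s : Equiv.Perm (Fin 6), Equiv.Perm.sign s = 1 → ∀ i, (μ z) (s i) (s i) = (μ z) i i := by
    intro s hs i
    obtain ⟨x, hx⟩ := hp s hs
    have h3 := hc x
    rw [h1, hx] at h3
    exact eq_of_comm_pm h3 i
  refine ⟨(μ z) 0 0, ?_⟩
  rw [h1, Matrix.smul_one_eq_diagonal]
  congr 1
  funext i
  rw [Matrix.diagonal_apply_eq]
  have h4 : ∀ i : Fin 6, ∃ s : Equiv.Perm (Fin 6), Equiv.Perm.sign s = 1 ∧ s 0 = i := by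
    intro i
    fin_cases i
    · exact ⟨1, by decide, rfl⟩
    · exact ⟨s1, by decide, by decide⟩
    · exact ⟨s1 ^ 2, by decide, by decide⟩
    · exact ⟨s3 * s1 ^ 2, by decide, by decide⟩
    · exact ⟨s3 * s3 * s1 ^ 2, by decide, by decide⟩
    · exact ⟨s2 ^ 2 * s3 * s1 ^ 2, by decide, by decide⟩
  obtain ⟨s, hs, rfl⟩ := h4 i
  exact h2 s hs 0

theorem center_of_scalar (hμ : Function.Injective μ) {z : Γ} {c : F} (h : μ z = c • (1 : Matrix _ _ F)) :
    z ∈ center Γ := by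
  rw [mem_center_iff]
  intro x
  apply hμ
  rw [map_mul, map_mul, h, Matrix.smul_mul, Matrix.mul_smul, one_mul, mul_one]

theorem comm_of_quot {ζ : F} (hζ : ζ ^ 2 + ζ + 1 = 0) (h3 : (3 : F) ≠ 0)
    (hd : ∀ i j, i ≠ j → ∃ x : Γ, μ x = Matrix.diagonal (dv ζ i j))
    (hp : ∀ s : Equiv.Perm (Fin 6), Equiv.Perm.sign s = 1 → ∃ x : Γ, μ x = pm s)
    {v x : Γ} (hvx : (QuotientGroup.mk v : Γ ⧸ center Γ) * QuotientGroup.mk x = QuotientGroup.mk x * QuotientGroup.mk v)
    (ht : (μ x).trace ≠ 0) : μ v * μ x = μ x * μ v := by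
  have h1 : (x * v)⁻¹ * (v * x) ∈ center Γ := by
    rw [← QuotientGroup.eq, QuotientGroup.mk_mul, QuotientGroup.mk_mul, hvx]
  obtain ⟨c, hc⟩ := center_scalar hζ h3 hd hp h1
  have h2 : μ v * μ x = c • (μ x * μ v) := by
    have h3 : v * x = (x * v) * ((x * v)⁻¹ * (v * x)) := by group
    rw [← map_mul, h3, map_mul, hc, Matrix.mul_smul, mul_one, map_mul]
  have h4 := scalar_one h2 (mu_inv v).1 (mu_inv v).2 ht
  rw [h2, h4, one_smul]

/-- the diagonal 3-subgroup -/
def dsub (hμ : Function.Injective μ) : Subgroup Γ where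
  carrier := {x | ∃ a : Fin 6 → F, (∀ i, a i ^ 3 = 1) ∧ μ x = Matrix.diagonal a}
  one_mem' := ⟨fun _ => 1, fun _ => one_pow 3, by rw [map_one, Matrix.diagonal_one]⟩
  mul_mem' := by
    rintro x y ⟨a, ha, hx⟩ ⟨b, hb, hy⟩
    refine ⟨fun i => a i * b i, fun i => ?_, ?_⟩
    · rw [mul_pow, ha, hb, one_mul]
    · rw [map_mul, hx, hy, Matrix.diagonal_mul_diagonal]
  inv_mem' := by
    rintro x ⟨a, ha, hx⟩
    refine ⟨fun i => a i ^ 2, fun i => ?_, ?_⟩
    · rw [← pow_mul, mul_comm, pow_mul, ha, one_pow]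
    · have h1 : x ^ 3 = 1 := by
        apply hμ
        rw [map_pow, hx, diag_pow, map_one]
        simp only [ha]
        exact Matrix.diagonal_one
      have h2 : x⁻¹ = x ^ 2 := by
        rw [inv_eq_iff_mul_eq_one, ← pow_succ']
        exact h1
      rw [h2, map_pow, hx, diag_pow]

theorem mem_dsub {hμ : Function.Injective μ} {x : Γ} : x ∈ dsub hμ ↔
    ∃ a : Fin 6 → F, (∀ i, a i ^ 3 = 1) ∧ μ x = Matrix.diagonal a := Iff.rfl

theorem dsub_three (hμ : Function.Injective μ) : IsPGroup 3 (dsub hμ) := by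
  rintro ⟨x, a, ha, hx⟩
  refine ⟨1, Subtype.ext ?_⟩
  apply hμ
  change μ (x ^ 3 ^ 1) = μ 1
  rw [map_pow, hx, diag_pow, map_one]
  simp only [pow_one, ha]
  exact Matrix.diagonal_one

theorem dsub_conj (hμ : Function.Injective μ) {s : Equiv.Perm (Fin 6)} {y : Γ} (hy : μ y = pm s) {x : Γ}
    (hx : x ∈ dsub hμ) : y * x * y⁻¹ ∈ dsub hμ := by
  obtain ⟨a, ha, hx⟩ := hx
  refine ⟨fun i => a (s i), fun i => ha _, ?_⟩
  rw [map_mul, map_mul, hx, hy, pm_diag, ← hy, mul_assoc, (mu_inv y).1, mul_one]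

theorem dsub_le_norm (hμ : Function.Injective μ) {s : Equiv.Perm (Fin 6)} {y : Γ} (hy : μ y = pm s) :
    zpowers y ≤ normalizer (dsub hμ : Set Γ) := by
  rw [zpowers_le, mem_normalizer_iff]
  intro x
  constructor
  · exact dsub_conj hμ hy
  · intro hx
    have hy' : μ y⁻¹ = pm s⁻¹ := by
      have h1 : (pm s⁻¹ : Matrix (Fin 6) (Fin 6) F) = μ y⁻¹ * μ y * pm s⁻¹ := by rw [(mu_inv y).2, one_mul]
      rw [h1, mul_assoc, hy, pm_mul, inv_mul_cancel, pm_one, mul_one]
    have h1 := dsub_conj hμ hy' hx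
    rw [inv_inv] at h1
    have h2 : y⁻¹ * (y * x * y⁻¹) * y = x := by group
    rwa [h2] at h1


/-- the diagonal matrices `(α, α, α, β, β, β)` -/
def two (α β : F) : Fin 6 → F := fun i => if i.val < 3 then α else β

theorem two_form {ζ : F} (hζ : ζ ^ 2 + ζ + 1 = 0) (h3 : (3 : F) ≠ 0)
    (hd : ∀ i j, i ≠ j → ∃ x : Γ, μ x = Matrix.diagonal (dv ζ i j))
    (hp : ∀ s : Equiv.Perm (Fin 6), Equiv.Perm.sign s = 1 → ∃ x : Γ, μ x = pm s)
    {y1 y2 : Γ} (hy1 : μ y1 = pm s1) (hy2 : μ y2 = pm s2) (hμ : Function.Injective μ)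
    {v : Γ} (hv : ∀ x ∈ dsub hμ ⊔ (zpowers y1 ⊔ zpowers y2),
      (QuotientGroup.mk v : Γ ⧸ center Γ) * QuotientGroup.mk x = QuotientGroup.mk x * QuotientGroup.mk v) :
    ∃ α β : F, α ≠ 0 ∧ β ≠ 0 ∧ μ v = Matrix.diagonal (two α β) := by
  have hζ3 : ζ ^ 3 = 1 := by linear_combination (ζ - 1) * hζ
  have h1 := diag_of_comm hζ h3 (M := μ v) (fun i j hij => by
    obtain ⟨x, hx⟩ := hd i j hij
    rw [← hx]
    apply comm_of_quot hζ h3 hd hp
    · apply hv
      apply mem_sup_left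
      refine ⟨dv ζ i j, fun k => ?_, hx⟩
      unfold dv
      split_ifs
      · exact hζ3
      · rw [← pow_mul, mul_comm, pow_mul, hζ3, one_pow]
      · exact one_pow 3
    · rw [hx, Matrix.trace_diagonal, dv_sum hζ hij]
      exact h3)
  have h2 : ∀ i, (μ v) (s1 i) (s1 i) = (μ v) i i := by
    intro i
    have h4 := comm_of_quot hζ h3 hd hp (hv y1 (mem_sup_right (mem_sup_left (mem_zpowers y1))))
      (by rw [hy1, pm_trace.1]; exact h3)
    rw [h1, hy1] at h4
    exact eq_of_comm_pm h4 i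
  have h5 : ∀ i, (μ v) (s2 i) (s2 i) = (μ v) i i := by
    intro i
    have h4 := comm_of_quot hζ h3 hd hp (hv y2 (mem_sup_right (mem_sup_right (mem_zpowers y2))))
      (by rw [hy2, pm_trace.2]; exact h3)
    rw [h1, hy2] at h4
    exact eq_of_comm_pm h4 i
  have h6 : μ v = Matrix.diagonal (two ((μ v) 0 0) ((μ v) 3 3)) := by
    rw [h1]
    congr 1
    funext i
    have e1 : s1 0 = 1 := by decide
    have e2 : s1 1 = 2 := by decide
    have e3 : s2 3 = 4 := by decide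
    have e4 : s2 4 = 5 := by decide
    have g1 := h2 0
    have g2 := h2 1
    have g3 := h5 3
    have g4 := h5 4
    rw [e1] at g1
    rw [e2] at g2
    rw [e3] at g3
    rw [e4] at g4
    simp only [Matrix.diagonal_apply_eq]
    fin_cases i
    · rfl
    · exact g1
    · exact g2.trans g1
    · rfl
    · exact g3
    · exact g4.trans g3
  refine ⟨(μ v) 0 0, (μ v) 3 3, ?_, ?_, h6⟩
  · intro h0
    have h7 := congrFun (congrFun (mu_inv (μ := μ) v).2 0) 0
    rw [h6, Matrix.mul_diagonal, Matrix.one_apply_eq] at h7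
    have h8 : two ((μ v) 0 0) ((μ v) 3 3) 0 = (μ v) 0 0 := rfl
    rw [h8, h0, mul_zero] at h7
    exact zero_ne_one h7
  · intro h0
    have h7 := congrFun (congrFun (mu_inv (μ := μ) v).2 3) 3
    rw [h6, Matrix.mul_diagonal, Matrix.one_apply_eq] at h7
    have h8 : two ((μ v) 0 0) ((μ v) 3 3) 3 = (μ v) 3 3 := rfl
    rw [h8, h0, mul_zero] at h7
    exact zero_ne_one h7

theorem six_false {ζ : F} (hζ : ζ ^ 2 + ζ + 1 = 0) (h3 : (3 : F) ≠ 0)
    (hd : ∀ i j, i ≠ j → ∃ x : Γ, μ x = Matrix.diagonal (dv ζ i j))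
    (hp : ∀ s : Equiv.Perm (Fin 6), Equiv.Perm.sign s = 1 → ∃ x : Γ, μ x = pm s) (hμ : Function.Injective μ)
    (h : Hy (Γ ⧸ center Γ)) : False := by
  obtain ⟨y1, hy1⟩ := hp s1 (by decide)
  obtain ⟨y2, hy2⟩ := hp s2 (by decide)
  have hpow : ∀ {s : Equiv.Perm (Fin 6)} {y : Γ}, s ^ 3 = 1 → μ y = pm s → IsPGroup 3 (zpowers y) := by
    intro s y hs hy
    have h1 : y ^ 3 = 1 := by
      apply hμ
      rw [map_pow, hy, map_one, pow_succ, pow_two, pm_mul, pm_mul, ← pow_two, ← pow_succ', hs, pm_one]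
    rintro ⟨g, hg⟩
    obtain ⟨k, rfl⟩ := mem_zpowers_iff.1 hg
    refine ⟨1, Subtype.ext ?_⟩
    change (y ^ k) ^ 3 ^ 1 = 1
    rw [pow_one, ← zpow_natCast, ← zpow_mul, mul_comm, zpow_mul, zpow_natCast, h1, one_zpow]
  have hcomm : y1 * y2 = y2 * y1 := by
    apply hμ
    rw [map_mul, map_mul, hy1, hy2, pm_mul, pm_mul]
    congr 1
    decide
  have hP : IsPGroup 3 (dsub hμ ⊔ (zpowers y1 ⊔ zpowers y2) : Subgroup Γ) := by
    refine IsPGroup.to_sup_of_normal_left' (dsub_three hμ)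
      (IsPGroup.to_sup_of_normal_left' (hpow (by decide) hy1) (hpow (by decide) hy2) ?_)
      (sup_le (dsub_le_norm hμ hy1) (dsub_le_norm hμ hy2))
    rw [zpowers_le, mem_normalizer_iff]
    intro x
    have h1 : ∀ x : Γ, x ∈ zpowers y1 → y2 * x * y2⁻¹ = x ∧ y2⁻¹ * x * y2 = x := by
      intro x hx
      obtain ⟨k, rfl⟩ := mem_zpowers_iff.1 hx
      have h2 : Commute y2 (y1 ^ k) := (Commute.zpow_right hcomm.symm k)
      exact ⟨by rw [h2.eq, mul_inv_cancel_right], by rw [mul_assoc, ← h2.eq, inv_mul_cancel_left]⟩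
    constructor
    · intro hx
      rw [(h1 x hx).1]
      exact hx
    · intro hx
      have h2 := (h1 _ hx).2
      have h3 : y2⁻¹ * (y2 * x * y2⁻¹) * y2 = x := by group
      rw [h3] at h2
      rw [h2]
      exact hx
  obtain ⟨v', w', hv, hw, hvw, hvc, hwc⟩ := h.hV _ (hP.map (QuotientGroup.mk' (center Γ)))
  obtain ⟨v, rfl⟩ := QuotientGroup.mk_surjective v'
  obtain ⟨w, rfl⟩ := QuotientGroup.mk_surjective w'
  obtain ⟨α, β, hα, hβ, hμv⟩ := two_form hζ h3 hd hp hy1 hy2 hμ (v := v) (fun x hx => hvc _ ⟨x, hx, rfl⟩)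
  obtain ⟨γ, δ, hγ, hδ, hμw⟩ := two_form hζ h3 hd hp hy1 hy2 hμ (v := w) (fun x hx => hwc _ ⟨x, hx, rfl⟩)
  -- the order is three
  have key : ∀ {v : Γ} {α β : F}, orderOf (QuotientGroup.mk v : Γ ⧸ center Γ) = 3 →
      μ v = Matrix.diagonal (two α β) → α ^ 3 = β ^ 3 ∧ α ≠ β := by
    intro v α β ho hμv
    constructor
    · have h1 : v ^ 3 ∈ center Γ := by
        rw [← QuotientGroup.eq_one_iff, QuotientGroup.mk_pow, ← ho, pow_orderOf_eq_one]
      obtain ⟨c, hc⟩ := center_scalar hζ h3 hd hp h1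
      rw [map_pow, hμv, diag_pow, Matrix.smul_one_eq_diagonal] at hc
      have h2 := congrFun (Matrix.diagonal_injective hc) 0
      have h4 := congrFun (Matrix.diagonal_injective hc) 3
      have h5 : α ^ 3 = c := h2
      have h6 : β ^ 3 = c := h4
      rw [h5, h6]
    · rintro rfl
      have h1 : v ∈ center Γ := by
        apply center_of_scalar hμ (c := α)
        rw [hμv, Matrix.smul_one_eq_diagonal]
        congr 1
        funext i
        exact ite_self _
      rw [← QuotientGroup.eq_one_iff] at h1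
      rw [h1, orderOf_one] at ho
      omega
  obtain ⟨h4, h5⟩ := key hv hμv
  obtain ⟨h6, h7⟩ := key hw hμw
  -- the power
  obtain ⟨k, hk⟩ : ∃ k : ℕ, δ * α ^ k = β ^ k * γ := by
    have e1 : β ^ 2 + β * α + α ^ 2 = 0 := by
      have : (β - α) * (β ^ 2 + β * α + α ^ 2) = 0 := by linear_combination -h4
      exact (mul_eq_zero.1 this).resolve_left (sub_ne_zero.2 h5.symm)
    have e2 : δ ^ 2 + δ * γ + γ ^ 2 = 0 := by
      have : (δ - γ) * (δ ^ 2 + δ * γ + γ ^ 2) = 0 := by linear_combination -h6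
      exact (mul_eq_zero.1 this).resolve_left (sub_ne_zero.2 h7.symm)
    have e3 : (δ * α - β * γ) * (δ * α ^ 2 - β ^ 2 * γ) = 0 := by
      linear_combination (α ^ 3) * e2 - (δ * γ * α - γ ^ 2 * (β - α)) * e1
    rcases mul_eq_zero.1 e3 with h | h
    · exact ⟨1, by linear_combination h⟩
    · exact ⟨2, by linear_combination h⟩
  apply hvw
  refine mem_zpowers_iff.2 ⟨k, ?_⟩
  rw [zpow_natCast, ← QuotientGroup.mk_pow, QuotientGroup.eq]
  apply center_of_scalar hμ (c := γ / α ^ k)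
  have h8 : μ w = μ (v ^ k) * ((γ / α ^ k) • (1 : Matrix (Fin 6) (Fin 6) F)) := by
    rw [map_pow, hμv, hμw, diag_pow, Matrix.smul_one_eq_diagonal, Matrix.diagonal_mul_diagonal]
    congr 1
    funext i
    unfold two
    split_ifs
    · field_simp
    · field_simp
      linear_combination hk
  rw [map_mul, h8, ← mul_assoc, (mu_inv _).2, one_mul]

end Six


section Fin

variable {F : Type} [Field F] [Fintype F]

theorem exists_zeta (h : 3 ∣ Fintype.card F - 1) : ∃ ζ : F, ζ ^ 2 + ζ + 1 = 0 := by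
  have : Fact (Nat.Prime 3) := ⟨Nat.prime_three⟩
  have h1 : 3 ∣ Nat.card Fˣ := by
    rw [Nat.card_units, Nat.card_eq_fintype_card]
    exact h
  obtain ⟨u, hu⟩ := exists_prime_orderOf_dvd_card' 3 h1
  have h2 : (u : F) ^ 3 = 1 := by
    rw [← Units.val_pow_eq_pow_val, ← hu, pow_orderOf_eq_one, Units.val_one]
  have h4 : (u : F) ≠ 1 := by
    intro h
    have : u = 1 := Units.ext h
    rw [this, orderOf_one] at hu
    omega
  refine ⟨u, ?_⟩
  have h5 : ((u : F) - 1) * ((u : F) ^ 2 + u + 1) = 0 := by linear_combination h2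
  exact (mul_eq_zero.1 h5).resolve_left (sub_ne_zero.2 h4)

theorem psl_six_false (hq : Fintype.card F % 3 = 1) (h : Hy (Matrix.ProjectiveSpecialLinearGroup (Fin 6) F)) : False := by
  have h3' := Cfsg.Agent.H128.Cross3.three_ne_zero' (F := F) (by omega)
  have h3 : (3 : F) ≠ 0 := by exact_mod_cast h3'
  obtain ⟨ζ, hζ⟩ := exists_zeta (F := F) (by omega)
  have hζ3 : ζ ^ 3 = 1 := by linear_combination (ζ - 1) * hζ
  refine six_false (Γ := Matrix.SpecialLinearGroup (Fin 6) F) (μ := slToMat 6 F) hζ h3 ?_ ?_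
    (Cfsg.Agent.H128.ClassicalAb.slToMat_injective 6) h
  · intro i j hij
    exact ⟨⟨Matrix.diagonal (dv ζ i j), by rw [Matrix.det_diagonal, dv_prod hζ3 hij]⟩, rfl⟩
  · intro s hs
    exact ⟨⟨pm s, by rw [pm_det, hs]; norm_num⟩, rfl⟩

theorem psu_six_false {q : ℕ} (hF : Fintype.card F = q ^ 2) (hq : q % 3 = 2) (h : Hy (PSU 6 F q)) : False := by
  have hF3 : ¬ 3 ∣ Fintype.card F := by
    rw [hF]
    intro h
    have := Nat.prime_three.dvd_of_dvd_pow h
    omega
  have h3' := Cfsg.Agent.H128.Cross3.three_ne_zero' (F := F) hF3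
  have h3 : (3 : F) ≠ 0 := by exact_mod_cast h3'
  obtain ⟨ζ, hζ⟩ := exists_zeta (F := F) (by
    rw [hF, ← Nat.modEq_iff_dvd' (Nat.one_le_pow _ _ (by omega))]
    change 1 % 3 = q ^ 2 % 3
    rw [Nat.pow_mod, hq])
  have hζ3 : ζ ^ 3 = 1 := by linear_combination (ζ - 1) * hζ
  have hq0 : q ≠ 0 := by omega
  have hz : ζ ^ (q + 1) = 1 := by
    obtain ⟨k, hk⟩ : 3 ∣ q + 1 := by omega
    rw [hk, pow_mul, hζ3, one_pow]
  refine six_false (Γ := SU 6 F q) (μ := (slToMat 6 F).comp (SU 6 F q).subtype) hζ h3 ?_ ?_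
    ((Cfsg.Agent.H128.ClassicalAb.slToMat_injective 6).comp Subtype.val_injective) h
  · intro i j hij
    refine ⟨⟨⟨Matrix.diagonal (dv ζ i j), by rw [Matrix.det_diagonal, dv_prod hζ3 hij]⟩, ?_⟩, rfl⟩
    intro u v
    change hermForm 6 F q (Matrix.diagonal (dv ζ i j) *ᵥ u) (Matrix.diagonal (dv ζ i j) *ᵥ v) = hermForm 6 F q u v
    unfold hermForm
    refine Finset.sum_congr rfl fun k _ => ?_
    rw [Matrix.mulVec_diagonal, Matrix.mulVec_diagonal, mul_pow]
    have h1 : dv ζ i j k * dv ζ i j k ^ q = 1 := by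
      rw [← pow_succ']
      unfold dv
      split_ifs
      · exact hz
      · rw [← pow_mul, mul_comm, pow_mul, hz, one_pow]
      · exact one_pow _
    linear_combination (u k * v k ^ q) * h1
  · intro s hs
    refine ⟨⟨⟨pm s, by rw [pm_det, hs]; norm_num⟩, ?_⟩, rfl⟩
    intro u v
    change hermForm 6 F q (pm s *ᵥ u) (pm s *ᵥ v) = hermForm 6 F q u v
    unfold hermForm
    simp only [pm_mulVec]
    exact Equiv.sum_comp s fun k => u k * v k ^ q

theorem psl_false {n : ℕ} (hn : 2 ≤ n) (hq : ¬ 3 ∣ Fintype.card F)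
    (h : Hy (Matrix.ProjectiveSpecialLinearGroup (Fin n) F)) : False := by
  obtain ⟨rfl, h1⟩ := psl_six hn hq h
  exact psl_six_false h1 h

theorem psu_false {n q : ℕ} (hF : Fintype.card F = q ^ 2) (hn : 2 ≤ n) (hq : ¬ 3 ∣ q)
    (h : Hy (PSU n F q)) : False := by
  obtain ⟨rfl, h1⟩ := psu_six hF hn hq h
  exact psu_six_false hF h1 h

end Fin

end Cfsg.Agent.H345.EOne
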