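import Cfsg.Agent.H345.EOneCl
import Cfsg.Agent.H352.Elim.Main

/-!
# The configuration of order 11664: characteristic 3 and the exceptional groups (helper345)

(The enumeration follows helper352, `H352/Elim/Main.lean`.)
-/

set_option autoImplicit false

namespace Cfsg.Agent.H345.EOne

open Cfsg Subgroup Cfsg.Agent.OrdDiv
open Cfsg.Agent.H352.Elim (charP_ne char_pow not_dvd_pow big_three big_three' card_centralizer_congr)

universe u

/-- the condition on the order -/
def PP (c : ℕ) : Bool := (c % 729 == 0) && (c % 2187 != 0) && (c / 729 % 3 == 2)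

theorem Hy.PP {X : Type*} [Group X] (h : Hy X) : PP (Nat.card X) = true := by
  unfold EOne.PP
  have h6 := Nat.mod_eq_zero_of_dvd h.h6
  have h7 := h.h7
  have hm := h.hm
  norm_num at h6 h7
  rw [Nat.dvd_iff_mod_eq_zero] at h7
  simp only [Bool.and_eq_true, beq_iff_eq, bne_iff_ne, ne_eq]
  exact ⟨⟨h6, h7⟩, hm⟩

/-- candidates in characteristic 3 -/
def candP (D : Fam) : List (ℕ × ℕ) :=
  (box [(3, 6)] D.e D.lo).filter fun x => D.ok x.1 x.2 && PP (D.num x.1 x.2 / D.den x.1 x.2)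

theorem mem_candP (D : Fam) {n q c : ℕ} (hq : IsPrimePow q) (hqe : 3 ∣ q)
    (hlo : D.lo ≤ n) (hn : n ≤ D.e n + 1) (he1 : 1 ≤ D.e n) (hok : D.ok n q = true)
    (hc : D.den n q * c = D.num n q) (hpow : q ^ D.e n ∣ D.num n q) (hcop : (D.den n q).Coprime q)
    (h7 : ¬ 3 ^ 7 ∣ c) (hP : PP c = true) : (n, q) ∈ candP D := by
  unfold candP
  rw [List.mem_filter]
  obtain ⟨p, f, hp, hf, rfl⟩ := (isPrimePow_nat_iff q).1 hq
  have hp3 : p = 3 := ((Nat.prime_dvd_prime_iff_eq Nat.prime_three hp).1 (Nat.prime_three.dvd_of_dvd_pow hqe)).symm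
  subst hp3
  constructor
  · have h1 : (3 ^ f) ^ D.e n ∣ c := by
      rw [← hc] at hpow
      exact Nat.Coprime.dvd_of_dvd_mul_left (Nat.Coprime.pow_left _ hcop.symm) hpow
    rw [← pow_mul] at h1
    refine mem_box (List.mem_singleton.2 rfl) hf hlo hn he1 ?_
    by_contra hlt
    push Not at hlt
    apply h7
    exact (pow_dvd_pow 3 (by rw [mul_comm] at hlt; omega)).trans h1
  · rw [Bool.and_eq_true]
    refine ⟨hok, ?_⟩
    rw [← div_eq hq hcop hc]
    exact hP

/-! ### the classical families in characteristic 3 -/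

section

variable {F : Type} [Field F] [Fintype F]

theorem psl_three {n : ℕ} (hn : 2 ≤ n) (hn2 : n = 2 → 4 ≤ Fintype.card F) (ho : 3 ∣ Fintype.card F)
    (h : Hy (Matrix.ProjectiveSpecialLinearGroup (Fin n) F)) : False := by
  have hP := h.PP
  have h38 := h.h7
  have hq : 1 < Fintype.card F := Fintype.one_lt_card
  have hc : fPSL.den n (Fintype.card F) * Nat.card (Matrix.ProjectiveSpecialLinearGroup (Fin n) F) =
      fPSL.num n (Fintype.card F) := by
    have h := S0243.result (F := F) rfl n hn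
    rw [Fin.prod_univ_eq_prod_range (fun i => Fintype.card F ^ n - Fintype.card F ^ i) n, ← prod_list] at h
    change Nat.gcd n (Fintype.card F - 1) * (Fintype.card F - 1) * _ = glN n (Fintype.card F)
    rw [mul_assoc]
    exact h
  have h1 : (n, Fintype.card F) ∈ candP fPSL := by
    refine mem_candP fPSL Fintype.isPrimePow_card_of_field ho hn (le_tri hn).1 (le_tri hn).2 ?_ hc
      (pow_dvd_glN n _) ?_ h38 hP
    · change (!(Nat.beq n 2 && Nat.blt (Fintype.card F) 4)) = true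
      by_cases h2 : n = 2
      · have h4 := hn2 h2
        have : Nat.blt (Fintype.card F) 4 = false := by
          rw [← Bool.not_eq_true, Nat.blt_eq]
          omega
        rw [this, Bool.and_false]
        rfl
      · have : Nat.beq n 2 = false := by
          rw [← Bool.not_eq_true, Nat.beq_eq]
          exact h2
        rw [this, Bool.false_and]
        rfl
    · change (Nat.gcd n (Fintype.card F - 1) * (Fintype.card F - 1)).Coprime (Fintype.card F)
      have h1 := cop_sub (q := Fintype.card F) (k := 1) (by omega) le_rfl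
      rw [pow_one] at h1
      exact Nat.Coprime.mul_left (Nat.Coprime.coprime_dvd_left (Nat.gcd_dvd_right _ _) h1) h1
  have h2 : candP fPSL = [] := by decide +kernel
  rw [h2] at h1
  exact absurd h1 List.not_mem_nil

theorem psp_three {m : ℕ} (hm : 2 ≤ m) (hm2 : m = 2 → 3 ≤ Fintype.card F) (ho : 3 ∣ Fintype.card F)
    (h : Hy (PSp m F)) : False := by
  have hP := h.PP
  have h38 := h.h7
  have hq : 1 < Fintype.card F := Fintype.one_lt_card
  have hc : fPSp.den m (Fintype.card F) * Nat.card (PSp m F) = fPSp.num m (Fintype.card F) := by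
    have h1 := S0245.result (F := F) rfl m
    have h2 := S0246.result (F := F) rfl m (by omega)
    have h3 := Subgroup.card_eq_card_quotient_mul_card_subgroup
      (Subgroup.center (Matrix.symplecticGroup (Fin m) F))
    rw [← prod_list (fun i => Fintype.card F ^ (2 * (i + 1)) - 1)] at h1
    rw [h1, h2] at h3
    change Nat.gcd 2 (Fintype.card F - 1) * Nat.card (PSp m F) = Fintype.card F ^ (m ^ 2) * prB (Fintype.card F) m
    rw [mul_comm]
    exact h3.symm
  have hmm : m ≤ m ^ 2 := by nlinarith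
  have h1 : (m, Fintype.card F) ∈ candP fPSp := by
    refine mem_candP fPSp Fintype.isPrimePow_card_of_field ho hm (hmm.trans (Nat.le_succ _))
      (Nat.one_le_pow _ _ (by omega)) ?_ hc (Dvd.intro _ rfl) ?_ h38 hP
    · change (!(Nat.beq m 2 && Nat.blt (Fintype.card F) 3)) = true
      by_cases h2 : m = 2
      · have h4 := hm2 h2
        have : Nat.blt (Fintype.card F) 3 = false := by
          rw [← Bool.not_eq_true, Nat.blt_eq]
          omega
        rw [this, Bool.and_false]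
        rfl
      · have : Nat.beq m 2 = false := by
          rw [← Bool.not_eq_true, Nat.beq_eq]
          exact h2
        rw [this, Bool.false_and]
        rfl
    · change (Nat.gcd 2 (Fintype.card F - 1)).Coprime (Fintype.card F)
      have h1 := cop_sub (q := Fintype.card F) (k := 1) (by omega) le_rfl
      rw [pow_one] at h1
      exact Nat.Coprime.coprime_dvd_left (Nat.gcd_dvd_right _ _) h1
  have h2 : candP fPSp = [] := by decide +kernel
  rw [h2] at h1
  exact absurd h1 List.not_mem_nil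

theorem psu_three {n q : ℕ} (hF : Fintype.card F = q ^ 2) (hn : 3 ≤ n)
    (hn2 : ¬ (n = 3 ∧ q = 2)) (ho : 3 ∣ q) (h : Hy (PSU n F q)) : n = 3 ∧ q = 9 := by
  have hP := h.PP
  have h38 := h.h7
  have hq2 : IsPrimePow (q ^ 2) := hF ▸ Fintype.isPrimePow_card_of_field
  have hqp : IsPrimePow q := (isPrimePow_pow_iff (by norm_num)).1 hq2
  have hc : fPSU.den n q * Nat.card (PSU n F q) = fPSU.num n q := by
    have h := S0280.result hF n (by omega)
    rw [← prod_list] at h
    change Nat.gcd n (q + 1) * (q + 1) * _ = q ^ (n * (n - 1) / 2) * prU q n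
    have h2 : prU q n = ((List.range n).map fun i => if Even i then q ^ (i + 1) + 1 else q ^ (i + 1) - 1).prod := by
      unfold prU
      congr 1
      apply List.map_congr_left
      intro i _
      by_cases h : Even i
      · rw [if_pos h, if_pos]
        rw [Nat.beq_eq]
        exact Nat.even_iff.1 h
      · rw [if_neg h, if_neg]
        rw [Nat.beq_eq, ← Nat.even_iff]
        exact h
    rw [h2, mul_assoc]
    exact h
  have h1 : (n, q) ∈ candP fPSU := by
    refine mem_candP fPSU hqp ho hn (le_tri (by omega)).1 (le_tri (by omega)).2 ?_ hc (Dvd.intro _ rfl) ?_ h38 hP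
    · change (!(Nat.beq n 3 && Nat.beq q 2)) = true
      by_cases h2 : n = 3
      · have h4 : q ≠ 2 := fun h => hn2 ⟨h2, h⟩
        have : Nat.beq q 2 = false := by
          rw [← Bool.not_eq_true, Nat.beq_eq]
          exact h4
        rw [this, Bool.and_false]
        rfl
      · have : Nat.beq n 3 = false := by
          rw [← Bool.not_eq_true, Nat.beq_eq]
          exact h2
        rw [this, Bool.false_and]
        rfl
    · change (Nat.gcd n (q + 1) * (q + 1)).Coprime q
      have h1 := cop_add (q := q) (k := 1) le_rfl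
      rw [pow_one] at h1
      exact Nat.Coprime.mul_left (Nat.Coprime.coprime_dvd_left (Nat.gcd_dvd_right _ _) h1) h1
  have h2 : ∀ x ∈ candP fPSU, x = (3, 9) := by decide +kernel
  have h3 := h2 _ h1
  rw [Prod.mk.injEq] at h3
  exact h3

theorem oodd_three {m : ℕ} (hm : 3 ≤ m) (ho2 : Odd (Fintype.card F)) (ho : 3 ∣ Fintype.card F)
    (h : Hy (POmega F (quadFormOdd m F))) : False := by
  have hc := S0292.result (F := F) rfl ho2 m hm
  apply h.h7
  have h1 : 3 ^ 7 ∣ 2 * Nat.card (POmega F (quadFormOdd m F)) := by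
    rw [hc]
    refine Dvd.dvd.mul_right ?_ _
    calc 3 ^ 7 ∣ (Fintype.card F) ^ 7 := pow_dvd_pow_of_dvd ho 7
      _ ∣ Fintype.card F ^ (m ^ 2) := pow_dvd_pow _ (by nlinarith)
  exact Nat.Coprime.dvd_of_dvd_mul_left (by norm_num) h1

theorem oplus_three {m : ℕ} (hm : 4 ≤ m) (ho : 3 ∣ Fintype.card F)
    (h : Hy (POmega F (quadFormPlus m F))) : False := by
  have hc := S0293.result (F := F) rfl m hm
  apply h.h7
  have h1 : 3 ^ 7 ∣ Nat.gcd 4 (Fintype.card F ^ m - 1) * Nat.card (POmega F (quadFormPlus m F)) := by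
    rw [hc]
    refine Dvd.dvd.mul_right (Dvd.dvd.mul_right ?_ _) _
    calc 3 ^ 7 ∣ (Fintype.card F) ^ 7 := pow_dvd_pow_of_dvd ho 7
      _ ∣ Fintype.card F ^ (m * (m - 1)) := pow_dvd_pow _ (by
        have : 4 * 3 ≤ m * (m - 1) := Nat.mul_le_mul hm (by omega)
        omega)
  exact Nat.Coprime.dvd_of_dvd_mul_left (Nat.Coprime.coprime_dvd_right (Nat.gcd_dvd_left _ _) (by norm_num)) h1

theorem ominus_three {m : ℕ} (hm : 4 ≤ m) {a b : F}
    (hab : ∀ z₁ z₂ : F, z₁ ^ 2 + a * z₁ * z₂ + b * z₂ ^ 2 = 0 → z₁ = 0 ∧ z₂ = 0) (ho : 3 ∣ Fintype.card F)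
    (h : Hy (POmega F (quadFormMinus (m - 1) F a b))) : False := by
  have hc := S0294.result (F := F) rfl m hm a b hab
  apply h.h7
  have h1 : 3 ^ 7 ∣ Nat.gcd 4 (Fintype.card F ^ m + 1) * Nat.card (POmega F (quadFormMinus (m - 1) F a b)) := by
    rw [hc]
    refine Dvd.dvd.mul_right (Dvd.dvd.mul_right ?_ _) _
    calc 3 ^ 7 ∣ (Fintype.card F) ^ 7 := pow_dvd_pow_of_dvd ho 7
      _ ∣ Fintype.card F ^ (m * (m - 1)) := pow_dvd_pow _ (by
        have : 4 * 3 ≤ m * (m - 1) := Nat.mul_le_mul hm (by omega)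
        omega)
  exact Nat.Coprime.dvd_of_dvd_mul_left (Nat.Coprime.coprime_dvd_right (Nat.gcd_dvd_left _ _) (by norm_num)) h1

end

/-! ### the exceptional families -/

theorem g2_odd {q : ℕ} (hq : ¬ 3 ∣ q) (h : 3 ^ 6 ∣ q ^ 6 * (q ^ 2 - 1) * (q ^ 6 - 1)) :
    3 ^ 7 ∣ q ^ 6 * (q ^ 2 - 1) * (q ^ 6 - 1) := by
  have c0 : Nat.Coprime 3 q := (Nat.Prime.coprime_iff_not_dvd Nat.prime_three).2 hq
  have hs : q ^ 2 % 3 = 1 := by
    have : q % 3 = 1 ∨ q % 3 = 2 := by omega
    rcases this with h | h <;> rw [Nat.pow_mod, h]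
  obtain ⟨k, hk⟩ : ∃ k, q ^ 2 = 3 * k + 1 := ⟨q ^ 2 / 3, by omega⟩
  have e2 : q ^ 2 - 1 = 3 * k := by omega
  have e6 : q ^ 6 - 1 = 3 * k * (3 * (3 * k ^ 2 + 3 * k + 1)) := by
    have : q ^ 6 = 3 * k * (3 * (3 * k ^ 2 + 3 * k + 1)) + 1 := by
      calc q ^ 6 = (q ^ 2) ^ 3 := by ring
        _ = _ := by rw [hk]; ring
    rw [this, Nat.add_sub_cancel]
  rw [e2, e6] at h ⊢
  have c1 : Nat.Coprime 3 (3 * k ^ 2 + 3 * k + 1) := by
    rw [Nat.Prime.coprime_iff_not_dvd Nat.prime_three]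
    omega
  have e3 : q ^ 6 * (3 * k) * (3 * k * (3 * (3 * k ^ 2 + 3 * k + 1))) =
      (k ^ 2 * 27) * (q ^ 6 * (3 * k ^ 2 + 3 * k + 1)) := by ring
  rw [e3] at h ⊢
  have h1 : 3 ^ 6 ∣ k ^ 2 * 27 := by
    refine Nat.Coprime.dvd_of_dvd_mul_right ?_ h
    exact (Nat.Coprime.mul_right (c0.pow_right 6) c1).pow_left 6
  have h2 : 27 ∣ k ^ 2 := by omega
  have h3 : 3 ∣ k := Nat.prime_three.dvd_of_dvd_pow ((by norm_num : 3 ∣ 27).trans h2)
  obtain ⟨j, rfl⟩ := h3
  have h4 : 3 ∣ j ^ 2 := by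
    have : (3 * j) ^ 2 = 9 * j ^ 2 := by ring
    omega
  obtain ⟨i, rfl⟩ := Nat.prime_three.dvd_of_dvd_pow h4
  refine Dvd.dvd.mul_right ?_ _
  exact ⟨i ^ 2, by ring⟩

theorem exc_false (T : OrderTable.{u}) {S : Type u} [Group S] (h : IsExceptionalLieType S) (hS : Hy S) : False := by
  have h7 := hS.h7
  obtain ⟨z, hz3, hzc⟩ := hS.hz
  have hce : ∀ {Y : Type} [Group Y] (e : S ≃* Y), (e z) ^ 3 = 1 ∧
      Nat.card ↥(Subgroup.centralizer ({e z} : Set Y)) = 5832 := by
    intro Y _ e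
    refine ⟨?_, by rw [card_centralizer_congr, hzc]⟩
    rw [← map_pow, ← hz3, pow_orderOf_eq_one, map_one]
  rcases h with h | h | h | h | h | h | h | h | h | h | h
  · -- `G₂`
    obtain ⟨F, _, _, hq, ⟨e⟩⟩ := h
    have hcard := Nat.card_congr e.toEquiv
    by_cases ho : 3 ∣ Fintype.card F
    · rw [hcard] at h7
      have hP := hS.PP
      rw [hcard] at hP
      have h1 := mem_candP fG2 (n := 0) (c := Nat.card ↥(Lie.chevG2.group F)) Fintype.isPrimePow_card_of_field ho
        (Nat.zero_le _) (Nat.zero_le _) (by change 1 ≤ 6 + 1000 * 0; omega) (by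
          change Nat.ble 3 (Fintype.card F) = true
          rw [Nat.ble_eq]; exact hq)
        (by
          change 1 * Nat.card ↥(Lie.chevG2.group F) = Fintype.card F ^ 6 *
            ((Fintype.card F ^ 2 - 1) * (Fintype.card F ^ 6 - 1))
          rw [T.g2 F]; ring)
        (by
          change Fintype.card F ^ (6 + 1000 * 0) ∣ Fintype.card F ^ 6 * _
          rw [mul_zero, add_zero]; exact Dvd.intro _ rfl)
        (Nat.coprime_one_left _) h7 hP
      have h2 : candP fG2 = [] := by decide +kernel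
      rw [h2] at h1
      exact absurd h1 List.not_mem_nil
    · apply h7
      have h6 := hS.h6
      rw [hcard, T.g2 F] at h6 ⊢
      exact g2_odd ho h6
  · -- `F₄`
    obtain ⟨F, _, _, ⟨e⟩⟩ := h
    obtain ⟨hz, hc⟩ := hce e
    have hcard := Nat.card_congr e.toEquiv
    by_cases ho : 3 ∣ Fintype.card F
    · exact h7 (big_three ho (show 7 ≤ 24 by norm_num) (by rw [hcard, T.f4 F _ rfl]; simp only [mul_assoc]; rfl))
    · obtain ⟨r, _, _, hr⟩ := charP_ne ho
      have h1 := H261.pow_dvd_F4 F hr (e z) hz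
      rw [hc, Nat.card_eq_fintype_card] at h1
      exact not_dvd_pow Fintype.one_lt_card ho (by norm_num) h1
  · -- `E₆`
    obtain ⟨F, _, _, ⟨e⟩⟩ := h
    obtain ⟨hz, hc⟩ := hce e
    have hcard := Nat.card_congr e.toEquiv
    by_cases ho : 3 ∣ Fintype.card F
    · have h0 := cop_sub (q := Fintype.card F) (k := 1) Fintype.card_pos le_rfl
      rw [pow_one] at h0
      exact h7 (big_three' ho (show 7 ≤ 36 by norm_num) (Nat.Coprime.coprime_dvd_left (Nat.gcd_dvd_right 3 _) h0)
        (by rw [hcard, T.e6 F _ rfl]; simp only [mul_assoc]; rfl))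
    · obtain ⟨r, _, _, hr⟩ := charP_ne ho
      have h1 := H261.pow_dvd_E6 F hr (e z) hz
      rw [hc, Nat.card_eq_fintype_card] at h1
      exact not_dvd_pow Fintype.one_lt_card ho (by norm_num) h1
  · -- `E₇`
    obtain ⟨F, _, _, ⟨e⟩⟩ := h
    obtain ⟨hz, hc⟩ := hce e
    have hcard := Nat.card_congr e.toEquiv
    by_cases ho : 3 ∣ Fintype.card F
    · have h0 := cop_sub (q := Fintype.card F) (k := 1) Fintype.card_pos le_rfl
      rw [pow_one] at h0
      exact h7 (big_three' ho (show 7 ≤ 63 by norm_num) (Nat.Coprime.coprime_dvd_left (Nat.gcd_dvd_right 2 _) h0)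
        (by rw [hcard, T.e7 F _ rfl]; simp only [mul_assoc]; rfl))
    · obtain ⟨r, _, _, hr⟩ := charP_ne ho
      have h1 := H261.pow_dvd_E7 F hr (e z) hz
      rw [hc, Nat.card_eq_fintype_card] at h1
      exact not_dvd_pow Fintype.one_lt_card ho (by norm_num) h1
  · -- `E₈`
    obtain ⟨F, _, _, ⟨e⟩⟩ := h
    obtain ⟨hz, hc⟩ := hce e
    have hcard := Nat.card_congr e.toEquiv
    by_cases ho : 3 ∣ Fintype.card F
    · exact h7 (big_three ho (show 7 ≤ 120 by norm_num) (by rw [hcard, T.e8 F _ rfl]; simp only [mul_assoc]; rfl))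
    · obtain ⟨r, _, _, hr⟩ := charP_ne ho
      have h1 := H261.pow_dvd_E8 F hr (e z) hz
      rw [hc, Nat.card_eq_fintype_card] at h1
      exact not_dvd_pow Fintype.one_lt_card ho (by norm_num) h1
  · -- `²E₆`
    obtain ⟨F, _, _, q, hq, hF, ⟨e⟩⟩ := h
    obtain ⟨hz, hc⟩ := hce e
    have hcard := Nat.card_congr e.toEquiv
    by_cases ho : 3 ∣ q
    · have h0 := cop_add (q := q) (k := 1) le_rfl
      rw [pow_one] at h0
      exact h7 (big_three' ho (show 7 ≤ 36 by norm_num) (Nat.Coprime.coprime_dvd_left (Nat.gcd_dvd_right 3 _) h0)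
        (by rw [hcard, T.te6 F q hq hF]; simp only [mul_assoc]; rfl))
    · obtain ⟨r, _, _, hr⟩ := charP_ne (F := F) (by rw [hF]; exact fun h1 => ho (Nat.prime_three.dvd_of_dvd_pow h1))
      obtain ⟨n, hn0, hn⟩ := char_pow (F := F) hq (by norm_num) hF (r := r)
      have h1 := H261.Tw.pow_dvd_twE6 F hr hn0 hn hF (e z) hz
      rw [hc] at h1
      exact not_dvd_pow hq.two_le ho (by norm_num) h1
  · -- `³D₄`
    obtain ⟨F, _, _, q, hq, hF, ⟨e⟩⟩ := h
    obtain ⟨hz, hc⟩ := hce e
    have hcard := Nat.card_congr e.toEquiv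
    by_cases ho : 3 ∣ q
    · exact h7 (big_three ho (show 7 ≤ 12 by norm_num) (by rw [hcard, T.td4 F q hq hF]; simp only [mul_assoc]; rfl))
    · obtain ⟨r, _, _, hr⟩ := charP_ne (F := F) (by rw [hF]; exact fun h1 => ho (Nat.prime_three.dvd_of_dvd_pow h1))
      obtain ⟨n, hn0, hn⟩ := char_pow (F := F) hq (by norm_num) hF (r := r)
      have h1 := H261.Tw.pow_dvd_twD4 F hr hn0 hn hF (e z) hz
      rw [hc] at h1
      have h2 : (q ^ 3).Coprime 729 := by
        have : Nat.Coprime q (3 ^ 6) := ((Nat.Prime.coprime_iff_not_dvd Nat.prime_three).2 ho).symm.pow_right 6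
        exact this.pow_left 3
      have h3 : q ^ 3 ∣ 8 := h2.dvd_of_dvd_mul_right (show q ^ 3 ∣ 8 * 729 from h1)
      have h4 := Nat.le_of_dvd (by norm_num) h3
      have h5 : q < 3 := by
        by_contra hlt
        push Not at hlt
        have : 3 ^ 3 ≤ q ^ 3 := Nat.pow_le_pow_left hlt 3
        omega
      have h6 : q = 2 := by have := hq.two_le; omega
      have h8 := hS.PP
      rw [hcard, T.td4 F q hq hF, h6] at h8
      revert h8; decide +kernel
  · -- Suzuki
    obtain ⟨F, _, _, m, hm, hF, ⟨e⟩⟩ := h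
    have hcard := Nat.card_congr e.toEquiv
    have hd : 3 ∣ Nat.card S := Dvd.dvd.trans (by norm_num) hS.h6
    rw [hcard, T.sz F m hm hF] at hd
    obtain ⟨k, rfl⟩ : ∃ k, m = k + 1 := ⟨m - 1, by omega⟩
    obtain ⟨h1, -, h2⟩ := odd_pow_mod k
    rw [show 2 * (k + 1) + 1 = 2 * k + 3 by ring] at hd
    generalize 2 ^ (2 * k + 3) = q at hd h1 h2
    rcases (Nat.Prime.dvd_mul Nat.prime_three).1 hd with hd | hd
    · rcases (Nat.Prime.dvd_mul Nat.prime_three).1 hd with hd | hd
      · have := Nat.prime_three.dvd_of_dvd_pow hd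
        omega
      · omega
    · have : q ^ 2 % 3 = 1 := by rw [Nat.pow_mod, h2]
      omega
  · -- Ree
    obtain ⟨F, _, _, m, hm, hF, ⟨e⟩⟩ := h
    apply h7
    rw [Nat.card_congr e.toEquiv, T.ree F m hm hF, ← pow_mul, mul_assoc]
    exact Dvd.dvd.mul_right (pow_dvd_pow 3 (by omega)) _
  · -- `²F₄`
    obtain ⟨F, _, _, m, hm, hF, ⟨e⟩⟩ := h
    apply h7
    have hd : 3 ^ 6 ∣ Nat.card S := hS.h6
    rw [Nat.card_congr e.toEquiv, T.tf4 F m hm hF] at hd ⊢
    obtain ⟨k, rfl⟩ : ∃ k, m = k + 1 := ⟨m - 1, by omega⟩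
    obtain ⟨h1, -, h2⟩ := odd_pow_mod k
    rw [show 2 * (k + 1) + 1 = 2 * k + 3 by ring] at hd ⊢
    generalize 2 ^ (2 * k + 3) = q at hd h1 h2 ⊢
    have e1 : q ^ 12 * (q - 1) * (q ^ 3 + 1) * (q ^ 4 - 1) * (q ^ 6 + 1) =
      q ^ 12 * (q ^ 6 + 1) * (q ^ 4 - 1) * (q ^ 3 + 1) * (q - 1) := by ring
    rw [e1] at hd ⊢
    exact H352.Three13.tf4 h2 hd
  · have h8 := hS.PP
    rw [T.spor S (.tits, 17971200) (by decide) h] at h8
    revert h8; decide +kernel

/-- the candidates among the sporadic groups -/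
theorem spor_cand (T : OrderTable.{u}) {S : Type u} [Group S] (hS : Hy S) (x : Grp × ℕ) (hx : x ∈ spor)
    (h : Real x.1 S) : x.1 = .mcl ∨ x.1 = .co2 ∨ x.1 = .hn := by
  have h8 := hS.PP
  rw [T.spor S x hx h] at h8
  have h9 : ∀ x ∈ spor, PP x.2 = true → x.1 = .mcl ∨ x.1 = .co2 ∨ x.1 = .hn := by decide +kernel
  exact h9 x hx h8

end Cfsg.Agent.H345.EOne
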