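import Cfsg.Agent.H345.EOneBase
import Cfsg.Agent.S0279

/-!
# The configuration of order 11664: `PSU_3(9)` (helper345)
-/

set_option autoImplicit false

namespace Cfsg.Agent.H345.EOne

open Cfsg Subgroup Module
open scoped Matrix

/-! ### the centralizer of a regular nilpotent endomorphism in dimension three is commutative -/

theorem comm_of_nil {F V : Type*} [Field F] [AddCommGroup V] [Module F V] (hV : finrank F V = 3) {N : Module.End F V}
    (hN3 : N ^ 3 = 0) (hN2 : N ^ 2 ≠ 0) {X Y : Module.End F V} (hX : X * N = N * X) (hY : Y * N = N * Y) :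
    X * Y = Y * X := by
  obtain ⟨u, hu⟩ : ∃ u, (N ^ 2) u ≠ 0 := by
    by_contra h
    push Not at h
    exact hN2 (LinearMap.ext h)
  have hX' : ∀ (k : ℕ) (w : V), X ((N ^ k) w) = (N ^ k) (X w) := by
    intro k w
    have h := ((show Commute X N from hX).pow_right k).eq
    exact LinearMap.congr_fun h w
  have hY' : ∀ (k : ℕ) (w : V), Y ((N ^ k) w) = (N ^ k) (Y w) := by
    intro k w
    have h := ((show Commute Y N from hY).pow_right k).eq
    exact LinearMap.congr_fun h w
  have hzero : ∀ k, 3 ≤ k → (N ^ k) u = 0 := by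
    intro k hk
    obtain ⟨j, rfl⟩ : ∃ j, k = j + 3 := ⟨k - 3, by omega⟩
    rw [pow_add, hN3, mul_zero]
    rfl
  let b : Fin 3 → V := fun i => (N ^ (i : ℕ)) u
  have hb : LinearIndependent F b := by
    rw [Fintype.linearIndependent_iff]
    intro g hg
    rw [Fin.sum_univ_three] at hg
    change g 0 • (N ^ 0) u + g 1 • (N ^ 1) u + g 2 • (N ^ 2) u = 0 at hg
    have e2 := congrArg (fun w : V => (N ^ 2 : Module.End F V) w) hg
    simp only [map_add, map_smul, map_zero] at e2
    have f2 : (N ^ 2) ((N ^ 0) u) = (N ^ 2) u := rfl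
    have f3 : (N ^ 2) ((N ^ 1) u) = 0 := by
      have := hzero 3 le_rfl
      rw [show (3 : ℕ) = 2 + 1 from rfl, pow_add] at this
      exact this
    have f4 : (N ^ 2) ((N ^ 2) u) = 0 := by
      have := hzero 4 (by norm_num)
      rw [show (4 : ℕ) = 2 + 2 from rfl, pow_add] at this
      exact this
    rw [f2, f3, f4, smul_zero, smul_zero, add_zero, add_zero] at e2
    have g0 : g 0 = 0 := (smul_eq_zero.1 e2).resolve_right hu
    have e1 := congrArg (fun w : V => (N ^ 1 : Module.End F V) w) hg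
    simp only [map_add, map_smul, map_zero] at e1
    have f5 : (N ^ 1) ((N ^ 1) u) = (N ^ 2) u := by
      rw [show (2 : ℕ) = 1 + 1 from rfl, pow_add]
      rfl
    have f6 : (N ^ 1) ((N ^ 2) u) = 0 := by
      have := hzero 3 le_rfl
      rw [show (3 : ℕ) = 1 + 2 from rfl, pow_add] at this
      exact this
    rw [g0, zero_smul, zero_add, f5, f6, smul_zero, add_zero] at e1
    have g1 : g 1 = 0 := (smul_eq_zero.1 e1).resolve_right hu
    rw [g0, g1, zero_smul, zero_smul, zero_add, zero_add] at hg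
    have g2 : g 2 = 0 := (smul_eq_zero.1 hg).resolve_right hu
    intro i
    fin_cases i
    · exact g0
    · exact g1
    · exact g2
  let B := basisOfLinearIndependentOfCardEqFinrank hb (by rw [hV, Fintype.card_fin])
  have hB : ∀ i, B i = (N ^ (i : ℕ)) u := fun i => by
    rw [coe_basisOfLinearIndependentOfCardEqFinrank]
  have hXu : X u = ∑ i, B.repr (X u) i • (N ^ (i : ℕ)) u := by
    conv_lhs => rw [← B.sum_repr (X u)]
    exact Finset.sum_congr rfl fun i _ => by rw [hB]
  have hYu : Y u = ∑ i, B.repr (Y u) i • (N ^ (i : ℕ)) u := by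
    conv_lhs => rw [← B.sum_repr (Y u)]
    exact Finset.sum_congr rfl fun i _ => by rw [hB]
  have key : X (Y u) = Y (X u) := by
    have hpp : ∀ (i j : ℕ), (N ^ i) ((N ^ j) u) = (N ^ j) ((N ^ i) u) := by
      intro i j
      have h : N ^ i * N ^ j = N ^ j * N ^ i := by rw [← pow_add, ← pow_add, add_comm]
      exact LinearMap.congr_fun h u
    have e1 : X (Y u) = ∑ i : Fin 3, ∑ j : Fin 3, (B.repr (Y u) i * B.repr (X u) j) • (N ^ (i : ℕ)) ((N ^ (j : ℕ)) u) := by
      conv_lhs => rw [hYu]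
      rw [map_sum]
      refine Finset.sum_congr rfl fun i _ => ?_
      rw [map_smul, hX', hXu, map_sum, Finset.smul_sum]
      refine Finset.sum_congr rfl fun j _ => ?_
      rw [map_smul, smul_smul]
      congr 2
      rw [← hXu]
    have e2 : Y (X u) = ∑ j : Fin 3, ∑ i : Fin 3, (B.repr (X u) j * B.repr (Y u) i) • (N ^ (j : ℕ)) ((N ^ (i : ℕ)) u) := by
      conv_lhs => rw [hXu]
      rw [map_sum]
      refine Finset.sum_congr rfl fun i _ => ?_
      rw [map_smul, hY', hYu, map_sum, Finset.smul_sum]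
      refine Finset.sum_congr rfl fun j _ => ?_
      rw [map_smul, smul_smul]
      congr 2
      rw [← hYu]
    rw [e1, e2, Finset.sum_comm]
    refine Finset.sum_congr rfl fun j _ => Finset.sum_congr rfl fun i _ => ?_
    rw [hpp, mul_comm]
  refine B.ext fun i => ?_
  rw [hB]
  change X (Y ((N ^ (i : ℕ)) u)) = Y (X ((N ^ (i : ℕ)) u))
  rw [hY', hX', hX', hY', key]

/-! ### the form -/

section Form

variable {F : Type} [Field F] [Fintype F]

theorem charThree (hF : Fintype.card F = 9 ^ 2) : CharP F 3 := by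
  obtain ⟨p, hp⟩ := CharP.exists F
  obtain ⟨n, hpp, hn⟩ := FiniteField.card F p
  have h1 : p ∣ 3 := by
    have : p ∣ 9 ^ 2 := by
      rw [← hF, hn]
      exact dvd_pow_self p n.ne_zero
    have h2 := hpp.dvd_of_dvd_pow this
    exact hpp.dvd_of_dvd_pow (show p ∣ 3 ^ 2 from h2)
  have h2 : p = 3 := (Nat.prime_dvd_prime_iff_eq hpp Nat.prime_three).1 h1
  rwa [← h2]

theorem nine_add (hF : Fintype.card F = 9 ^ 2) (x y : F) : (x + y) ^ 9 = x ^ 9 + y ^ 9 := by
  have := charThree hF
  have : Fact (Nat.Prime 3) := ⟨Nat.prime_three⟩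
  exact add_pow_char_pow (p := 3) (n := 2) x y

theorem nine_nine (hF : Fintype.card F = 9 ^ 2) (x : F) : (x ^ 9) ^ 9 = x := by
  rw [← pow_mul, ← pow_two, ← hF, FiniteField.pow_card]

theorem hf (u v : Fin 3 → F) : hermForm 3 F 9 u v = u 0 * v 0 ^ 9 + u 1 * v 1 ^ 9 + u 2 * v 2 ^ 9 := by
  unfold hermForm
  rw [Fin.sum_univ_three]

theorem hf_add_left (u u' v : Fin 3 → F) : hermForm 3 F 9 (u + u') v = hermForm 3 F 9 u v + hermForm 3 F 9 u' v := by
  rw [hf, hf, hf]
  simp only [Pi.add_apply]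
  ring

theorem hf_smul_left (c : F) (u v : Fin 3 → F) : hermForm 3 F 9 (c • u) v = c * hermForm 3 F 9 u v := by
  rw [hf, hf]
  simp only [Pi.smul_apply, smul_eq_mul]
  ring

theorem hf_add_right (hF : Fintype.card F = 9 ^ 2) (u v v' : Fin 3 → F) :
    hermForm 3 F 9 u (v + v') = hermForm 3 F 9 u v + hermForm 3 F 9 u v' := by
  rw [hf, hf, hf]
  simp only [Pi.add_apply, nine_add hF]
  ring

theorem hf_smul_right (c : F) (u v : Fin 3 → F) : hermForm 3 F 9 u (c • v) = c ^ 9 * hermForm 3 F 9 u v := by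
  rw [hf, hf]
  simp only [Pi.smul_apply, smul_eq_mul]
  ring

theorem hf_symm (hF : Fintype.card F = 9 ^ 2) (u v : Fin 3 → F) : hermForm 3 F 9 v u = hermForm 3 F 9 u v ^ 9 := by
  rw [hf, hf, nine_add hF, nine_add hF, mul_pow, mul_pow, mul_pow, nine_nine hF, nine_nine hF, nine_nine hF]
  ring

/-- the reflection -/
def refl (u : Fin 3 → F) (γ : F) : Matrix (Fin 3) (Fin 3) F :=
  1 + Matrix.of fun i j => γ * u i * u j ^ 9

theorem refl_mulVec (u : Fin 3 → F) (γ : F) (x : Fin 3 → F) :
    refl u γ *ᵥ x = x + (γ * hermForm 3 F 9 x u) • u := by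
  unfold refl
  rw [Matrix.add_mulVec, Matrix.one_mulVec, hf]
  congr 1
  funext i
  rw [Matrix.mulVec, dotProduct, Fin.sum_univ_three]
  simp only [Matrix.of_apply, Pi.smul_apply, smul_eq_mul]
  ring

theorem refl_det (u : Fin 3 → F) (γ : F) : (refl u γ).det = 1 + γ * hermForm 3 F 9 u u := by
  rw [hf, Matrix.det_fin_three]
  simp only [refl, Matrix.add_apply, Matrix.of_apply, Matrix.one_apply_eq, ne_eq, Fin.isValue,
    zero_ne_one, one_ne_zero, not_false_eq_true, Matrix.one_apply_ne, Fin.reduceEq]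
  ring

/-- the unitary element -/
theorem exists_elt (hF : Fintype.card F = 9 ^ 2) {u : Fin 3 → F} (hu : hermForm 3 F 9 u u ≠ 0) {α : F}
    (hα : α ^ 5 = 1) : ∃ t : SU 3 F 9, (t.1.1 : Matrix (Fin 3) (Fin 3) F) =
      α • refl u ((α ^ 2 - 1) / hermForm 3 F 9 u u) := by
  set c := hermForm 3 F 9 u u with hc
  set γ := (α ^ 2 - 1) / c with hγ
  have hγc : γ * c = α ^ 2 - 1 := div_mul_cancel₀ _ hu
  have hc9 : c ^ 9 = c := by
    rw [hc, ← hf_symm hF]
  refine ⟨⟨⟨α • refl u γ, ?_⟩, ?_⟩, rfl⟩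
  · rw [Matrix.det_smul, refl_det, ← hc, hγc, Fintype.card_fin]
    linear_combination hα
  · intro x y
    change hermForm 3 F 9 ((α • refl u γ) *ᵥ x) ((α • refl u γ) *ᵥ y) = hermForm 3 F 9 x y
    rw [Matrix.smul_mulVec, Matrix.smul_mulVec, hf_smul_left, hf_smul_right, refl_mulVec, refl_mulVec,
      hf_add_left, hf_add_right hF, hf_add_right hF, hf_smul_left, hf_smul_left, hf_smul_right, hf_smul_right,
      ← hc, mul_pow, ← hf_symm hF y u]
    have h10 : α * α ^ 9 = 1 := by
      calc α * α ^ 9 = (α ^ 5) ^ 2 := by ring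
        _ = 1 := by rw [hα, one_pow]
    have hγ9 : γ ^ 9 * c = α ^ 18 - 1 := by
      have e1 : (γ * c) ^ 9 = (α ^ 2 - 1) ^ 9 := by rw [hγc]
      have e2 : (α ^ 2 - 1) ^ 9 = α ^ 18 - 1 := by
        have e3 := nine_add hF (α ^ 2 - 1) 1
        rw [sub_add_cancel, one_pow] at e3
        linear_combination -e3
      rw [e2, mul_pow, hc9] at e1
      exact e1
    have key : γ ^ 9 + γ + γ * γ ^ 9 * c = 0 := by
      apply mul_right_cancel₀ hu
      rw [zero_mul]
      have e4 : (γ ^ 9 + γ + γ * γ ^ 9 * c) * c = γ ^ 9 * c + γ * c + (γ * c) * (γ ^ 9 * c) := by ring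
      rw [e4, hγ9, hγc]
      have e5 : α ^ 20 = 1 := by
        calc α ^ 20 = (α ^ 5) ^ 4 := by ring
          _ = 1 := by rw [hα, one_pow]
      linear_combination e5
    linear_combination (hermForm 3 F 9 x y) * h10 + (α * α ^ 9 * hermForm 3 F 9 x u * hermForm 3 F 9 u y) * key

/-- a fixed nonisotropic vector of a transvection -/
theorem exists_fixed (hF : Fintype.card F = 9 ^ 2) {M : Matrix (Fin 3) (Fin 3) F}
    (hM : ∀ x y, hermForm 3 F 9 (M *ᵥ x) (M *ᵥ y) = hermForm 3 F 9 x y)
    (hN : (M - 1) * (M - 1) = 0) (hN1 : M ≠ 1) :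
    ∃ u : Fin 3 → F, hermForm 3 F 9 u u ≠ 0 ∧ M *ᵥ u = u := by
  set N := M - 1 with hNd
  have hMN : ∀ x, M *ᵥ x = x + N *ᵥ x := by
    intro x
    rw [hNd, Matrix.sub_mulVec, Matrix.one_mulVec]
    abel
  have hNN : ∀ x, N *ᵥ (N *ᵥ x) = 0 := by
    intro x
    rw [Matrix.mulVec_mulVec, hN, Matrix.zero_mulVec]
  obtain ⟨x0, hx0⟩ : ∃ x, N *ᵥ x ≠ 0 := by
    by_contra h
    push Not at h
    apply hN1
    have h2 : N = 0 := by
      ext i j
      have h3 := congrFun (h (Pi.single j 1)) i
      rw [Matrix.mulVec_single_one] at h3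
      exact h3
    rw [hNd, sub_eq_zero] at h2
    exact h2
  set v := N *ᵥ x0 with hv
  -- rank one
  have hrank : ∀ x, ∃ c : F, N *ᵥ x = c • v := by
    let L : (Fin 3 → F) →ₗ[F] (Fin 3 → F) := N.mulVecLin
    have h1 : LinearMap.range L ≤ LinearMap.ker L := by
      rintro _ ⟨x, rfl⟩
      exact hNN x
    have h2 := Submodule.finrank_mono h1
    have h3 := L.finrank_range_add_finrank_ker
    rw [Module.finrank_fin_fun] at h3
    have h4 : (⟨v, ⟨x0, rfl⟩⟩ : LinearMap.range L) ≠ 0 := by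
      intro h
      exact hx0 (congrArg Subtype.val h)
    have h5 : finrank F (LinearMap.range L) = 1 := by
      have h6 : 0 < finrank F (LinearMap.range L) := by
        have : Nontrivial (LinearMap.range L) := ⟨_, _, h4⟩
        exact Module.finrank_pos
      omega
    intro x
    obtain ⟨c, hc⟩ := (finrank_eq_one_iff_of_nonzero' _ h4).1 h5 ⟨L x, ⟨x, rfl⟩⟩
    exact ⟨c, (congrArg Subtype.val hc).symm⟩
  have hNv : N *ᵥ v = 0 := hNN x0
  have hMv : M *ᵥ v = v := by rw [hMN, hNv, add_zero]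
  have hvv : hermForm 3 F 9 v v = 0 := by
    have h1 := hM x0 v
    rw [hMv, hMN, hf_add_left, ← hv] at h1
    exact add_eq_left.1 h1
  have hfix : ∀ u, hermForm 3 F 9 u v = 0 → M *ᵥ u = u := by
    intro u hu
    obtain ⟨d, hd⟩ := hrank u
    have h1 : ∀ y, d * hermForm 3 F 9 v y = 0 := by
      intro y
      obtain ⟨c, hc⟩ := hrank y
      have h2 := hM u y
      rw [hMN u, hMN y, hd, hc, hf_add_left, hf_add_right hF, hf_add_right hF, hf_smul_left, hf_smul_left, hf_smul_right,
        hf_smul_right, hu, hvv] at h2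
      linear_combination h2
    have h3 : d = 0 := by
      by_contra hd0
      apply hx0
      funext i
      have h4 := h1 (Pi.single i 1)
      rw [mul_eq_zero, or_iff_right hd0] at h4
      unfold hermForm at h4
      rw [Finset.sum_eq_single i] at h4
      · rw [Pi.single_eq_same, one_pow, mul_one] at h4
        exact h4
      · intro b _ hb
        rw [Pi.single_eq_of_ne hb, zero_pow (by norm_num), mul_zero]
      · intro h
        exact absurd (Finset.mem_univ _) h
    rw [hMN, hd, h3, zero_smul, add_zero]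
  rw [hf] at hvv
  obtain ⟨i, hi⟩ : ∃ i, v i ≠ 0 := by
    by_contra h
    push Not at h
    exact hx0 (funext h)
  have n9 := nine_nine hF
  have hneg : ∀ x : F, (-x) ^ 9 = -(x ^ 9) := fun x => by ring
  have hpow : ∀ x : F, x ≠ 0 → x * x ^ 9 ≠ 0 := fun x hx => mul_ne_zero hx (pow_ne_zero _ hx)
  fin_cases i
  · refine ⟨![0, v 2 ^ 9, -(v 1 ^ 9)], ?_, hfix _ ?_⟩
    · rw [hf]
      simp only [Matrix.cons_val_zero, Matrix.cons_val_one, Matrix.cons_val]
      rw [hneg, n9, n9]
      intro h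
      apply hpow _ hi
      change v 0 * v 0 ^ 9 = 0
      linear_combination hvv - h
    · rw [hf]
      simp only [Matrix.cons_val_zero, Matrix.cons_val_one, Matrix.cons_val]
      ring
  · refine ⟨![v 2 ^ 9, 0, -(v 0 ^ 9)], ?_, hfix _ ?_⟩
    · rw [hf]
      simp only [Matrix.cons_val_zero, Matrix.cons_val_one, Matrix.cons_val]
      rw [hneg, n9, n9]
      intro h
      apply hpow _ hi
      change v 1 * v 1 ^ 9 = 0
      linear_combination hvv - h
    · rw [hf]
      simp only [Matrix.cons_val_zero, Matrix.cons_val_one, Matrix.cons_val]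
      ring
  · refine ⟨![v 1 ^ 9, -(v 0 ^ 9), 0], ?_, hfix _ ?_⟩
    · rw [hf]
      simp only [Matrix.cons_val_zero, Matrix.cons_val_one, Matrix.cons_val]
      rw [hneg, n9, n9]
      intro h
      apply hpow _ hi
      change v 2 * v 2 ^ 9 = 0
      linear_combination hvv - h
    · rw [hf]
      simp only [Matrix.cons_val_zero, Matrix.cons_val_one, Matrix.cons_val]
      ring

theorem mat_three (hF : Fintype.card F = 9 ^ 2) {M : Matrix (Fin 3) (Fin 3) F} (hM : M * M * M = 1) :
    (M - 1) ^ 3 = 0 := by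
  have hc := charThree hF
  have h3 : ∀ X : Matrix (Fin 3) (Fin 3) F, X + X + X = 0 := by
    intro X
    ext i j
    have h : (3 : F) = 0 := by exact_mod_cast CharP.cast_eq_zero F 3
    simp only [Matrix.add_apply, Matrix.zero_apply]
    linear_combination (X i j) * h
  have h1 : (M - 1) ^ 3 = M * M * M - 1 - (M * M + M * M + M * M) + (M + M + M) := by noncomm_ring
  rw [h1, hM, h3, h3, sub_self, sub_zero, add_zero]

theorem su3_false (hF : Fintype.card F = 9 ^ 2) (h : Hy (SU 3 F 9)) : False := by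
  have hp3 : Fact (Nat.Prime 3) := ⟨Nat.prime_three⟩
  have hp5 : Fact (Nat.Prime 5) := ⟨Nat.prime_five⟩
  have hfin1 : Finite (Matrix.SpecialLinearGroup (Fin 3) F) :=
    Finite.of_injective (fun x => (x : Matrix (Fin 3) (Fin 3) F)) Subtype.val_injective
  obtain ⟨z, hz3, hzc⟩ := h.hz
  set M : Matrix (Fin 3) (Fin 3) F := z.1.1 with hMd
  have hMM : M * M * M = 1 := by
    have h1 : z * z * z = 1 := by
      have h2 := pow_orderOf_eq_one z
      rw [hz3] at h2
      rw [← pow_two, ← pow_succ]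
      exact h2
    exact congrArg (fun x : SU 3 F 9 => (x.1.1 : Matrix (Fin 3) (Fin 3) F)) h1
  have hM1 : M ≠ 1 := by
    intro h1
    have : z = 1 := Subtype.ext (Subtype.ext h1)
    rw [this, orderOf_one] at hz3
    omega
  have hMh : ∀ x y, hermForm 3 F 9 (M *ᵥ x) (M *ᵥ y) = hermForm 3 F 9 x y := fun x y => z.2 x y
  have hN3 := mat_three hF hMM
  by_cases hN : (M - 1) * (M - 1) = 0
  · obtain ⟨u, hu, hMu⟩ := exists_fixed hF hMh hN hM1
    obtain ⟨a, ha⟩ := exists_prime_orderOf_dvd_card' (G := Fˣ) 5 (by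
      rw [Nat.card_units, Nat.card_eq_fintype_card, hF]
      norm_num)
    have ha5 : (a : F) ^ 5 = 1 := by
      rw [← Units.val_pow_eq_pow_val, ← ha, pow_orderOf_eq_one, Units.val_one]
    obtain ⟨t, ht⟩ := exists_elt hF hu ha5
    set γ := ((a : F) ^ 2 - 1) / hermForm 3 F 9 u u with hγ
    have hγc : γ * hermForm 3 F 9 u u = (a : F) ^ 2 - 1 := div_mul_cancel₀ _ hu
    have htx : ∀ x, (t.1.1 : Matrix (Fin 3) (Fin 3) F) *ᵥ x = (a : F) • (x + (γ * hermForm 3 F 9 x u) • u) := by
      intro x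
      rw [ht, Matrix.smul_mulVec, refl_mulVec]
    have hcomm : t * z = z * t := by
      apply Subtype.ext
      apply Subtype.ext
      change (t.1.1 : Matrix (Fin 3) (Fin 3) F) * M = M * t.1.1
      apply Matrix.mulVec_injective
      funext x
      change (t.1.1 * M) *ᵥ x = (M * t.1.1) *ᵥ x
      rw [← Matrix.mulVec_mulVec, ← Matrix.mulVec_mulVec, htx, htx, Matrix.mulVec_smul, Matrix.mulVec_add,
        Matrix.mulVec_smul, hMu]
      have h1 : hermForm 3 F 9 (M *ᵥ x) u = hermForm 3 F 9 x u := by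
        rw [← hMh x u, hMu]
      rw [h1]
    have htu : (t.1.1 : Matrix (Fin 3) (Fin 3) F) *ᵥ u = (a : F) ^ 3 • u := by
      rw [htx, hγc]
      funext i
      simp only [Pi.smul_apply, Pi.add_apply, smul_eq_mul]
      ring
    have htk : ∀ k : ℕ, ((t ^ k).1.1 : Matrix (Fin 3) (Fin 3) F) *ᵥ u = ((a : F) ^ 3) ^ k • u := by
      intro k
      induction k with
      | zero =>
        rw [pow_zero, pow_zero, one_smul]
        exact Matrix.one_mulVec u
      | succ k ih =>
        have h1 : ((t ^ (k + 1)).1.1 : Matrix (Fin 3) (Fin 3) F) = t.1.1 * (t ^ k).1.1 := by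
          rw [pow_succ']
          rfl
        rw [h1, ← Matrix.mulVec_mulVec, ih, Matrix.mulVec_smul, htu, smul_smul, ← pow_succ]
    have h5 : 5 ∣ orderOf t := by
      have h1 := htk (orderOf t)
      rw [pow_orderOf_eq_one] at h1
      have h2 : (1 : SU 3 F 9).1.1 *ᵥ u = u := Matrix.one_mulVec u
      rw [h2] at h1
      have hu0 : u ≠ 0 := by
        rintro rfl
        apply hu
        rw [hf]
        simp
      have h3 : ((a : F) ^ 3) ^ orderOf t = 1 := by
        have h4 : (((a : F) ^ 3) ^ orderOf t - 1) • u = 0 := by rw [sub_smul, ← h1, one_smul, sub_self]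
        exact sub_eq_zero.1 ((smul_eq_zero.1 h4).resolve_right hu0)
      have h4 : a ^ (3 * orderOf t) = 1 := by
        apply Units.ext
        rw [Units.val_pow_eq_pow_val, pow_mul, h3, Units.val_one]
      have h6 := orderOf_dvd_of_pow_eq_one h4
      rw [ha] at h6
      exact (Nat.Coprime.dvd_of_dvd_mul_left (by norm_num) h6)
    have hmem : t ∈ centralizer ({z} : Set (SU 3 F 9)) := mem_centralizer_singleton_iff.2 hcomm
    have h6 : orderOf t ∣ Nat.card (centralizer ({z} : Set (SU 3 F 9))) := by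
      have h7 := orderOf_dvd_natCard (⟨t, hmem⟩ : centralizer ({z} : Set (SU 3 F 9)))
      rwa [← Subgroup.orderOf_coe] at h7
    rw [hzc] at h6
    have h7 : 5 ∣ 5832 := h5.trans h6
    omega
  · have hcom : ∀ X Y : Matrix (Fin 3) (Fin 3) F, X * M = M * X → Y * M = M * Y → X * Y = Y * X := by
      intro X Y hX hY
      let L := (Matrix.toLinAlgEquiv' : Matrix (Fin 3) (Fin 3) F ≃ₐ[F] _)
      have h1 := comm_of_nil (F := F) (V := Fin 3 → F) (Module.finrank_fin_fun F) (N := L (M - 1)) (X := L X) (Y := L Y)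
        (by rw [← map_pow, hN3, map_zero])
        (by
          intro h0
          rw [← map_pow, pow_two, map_eq_zero_iff L L.injective] at h0
          exact hN h0)
        (by rw [← map_mul, ← map_mul, mul_sub, sub_mul, hX, mul_one, one_mul])
        (by rw [← map_mul, ← map_mul, mul_sub, sub_mul, hY, mul_one, one_mul])
      rw [← map_mul, ← map_mul] at h1
      exact L.injective h1
    obtain ⟨K, hK⟩ := Sylow.exists_subgroup_card_pow_prime (G := centralizer ({z} : Set (SU 3 F 9))) 3 (n := 6) (by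
      rw [hzc]
      norm_num)
    have hKc : Nat.card (K.map (centralizer ({z} : Set (SU 3 F 9))).subtype) = 3 ^ 6 := by
      rw [Subgroup.card_map_of_injective Subtype.val_injective, hK]
    have h1 := h.hab (K.map (centralizer ({z} : Set (SU 3 F 9))).subtype) (IsPGroup.of_card hKc) (by
      rintro _ ⟨⟨x, hx⟩, -, rfl⟩ _ ⟨⟨y, hy⟩, -, rfl⟩
      rw [mem_centralizer_singleton_iff] at hx hy
      apply Subtype.ext
      apply Subtype.ext
      exact hcom x.1.1 y.1.1 (congrArg (fun x : SU 3 F 9 => (x.1.1 : Matrix (Fin 3) (Fin 3) F)) hx)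
        (congrArg (fun x : SU 3 F 9 => (x.1.1 : Matrix (Fin 3) (Fin 3) F)) hy))
    rw [hKc] at h1
    omega

theorem psu3_false (hF : Fintype.card F = 9 ^ 2) (h : Hy (PSU 3 F 9)) : False := by
  have hfin1 : Finite (Matrix.SpecialLinearGroup (Fin 3) F) :=
    Finite.of_injective (fun x => (x : Matrix (Fin 3) (Fin 3) F)) Subtype.val_injective
  have h1 : center (SU 3 F 9) = ⊥ := by
    have h2 := S0279.result hF 3 le_rfl
    exact Subgroup.card_eq_one.1 h2
  exact su3_false hF (h.congr ((QuotientGroup.quotientMulEquivOfEq h1).trans QuotientGroup.quotientBot))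

end Form

end Cfsg.Agent.H345.EOne
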