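import Cfsg.Agent.H345.EOneAlt
import Cfsg.Agent.H345.EOneHN
import Cfsg.Agent.H345.EOneMcL
import Cfsg.Agent.H345.EOneOm
import Cfsg.Agent.H345.EOneSix
import Cfsg.Agent.H345.EOneThree
import Cfsg.Agent.H345.EOneU

/-!
# The configuration of order 11664: no known simple group has it (helper345, for helper399)

`e1` : a known simple group `K` with `Conf11664 A S z g`, `|K| / 729 ≡ 2 mod 3` and abelian 3-subgroups of order at
most 81 does not exist.
-/

set_option autoImplicit false

namespace Cfsg.Agent.H345.EOne

open Cfsg Subgroup Cfsg.Agent.OrdDiv Cfsg.Agent.H399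
open scoped Pointwise

universe u

theorem hy_false (T : OrderTable.{u}) {S : Type u} [Group S] [Finite S] (h : IsKnownSimple' S) (hS : Hy S) : False := by
  have spo : ∀ g : Grp, g ∈ spor.map (fun x => x.1) → g ≠ .mcl → g ≠ .co2 → g ≠ .hn → Real g S → False := by
    intro g hg h1 h2 h3 hr
    obtain ⟨x, hx, rfl⟩ := List.mem_map.1 hg
    rcases spor_cand T hS x hx hr with h4 | h4 | h4
    · exact h1 h4
    · exact h2 h4
    · exact h3 h4
  rcases h with h | h | h | h | h | h | h | h | h | h
  · have h6 := hS.h6
    have h3 : 3 ∣ Nat.card S := Dvd.dvd.trans (by norm_num) h6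
    have e3 := (Nat.prime_dvd_prime_iff_eq Nat.prime_three h).1 h3
    rw [← e3] at h6
    omega
  · obtain ⟨n, -, ⟨e⟩⟩ := h
    exact alt_false (hS.congr e)
  · obtain ⟨F, _, _, n, hn, hn2, ⟨e⟩⟩ := h
    by_cases ho : 3 ∣ Fintype.card F
    · exact psl_three hn hn2 ho (hS.congr e)
    · exact psl_false hn ho (hS.congr e)
  · obtain ⟨F, _, _, n, hn, hn2, ⟨e⟩⟩ := h
    by_cases ho : 3 ∣ Fintype.card F
    · exact psp_three hn hn2 ho (hS.congr e)
    · exact psp_false (by omega) ho (hS.congr e)
  · obtain ⟨F, _, _, n, q, hF, hn, hn2, ⟨e⟩⟩ := h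
    by_cases ho : 3 ∣ q
    · obtain ⟨rfl, rfl⟩ := psu_three hF hn hn2 ho (hS.congr e)
      exact psu3_false hF (hS.congr e)
    · exact psu_false hF (by omega) ho (hS.congr e)
  · obtain ⟨F, _, _, n, hn, ho2, ⟨e⟩⟩ := h
    by_cases ho : 3 ∣ Fintype.card F
    · exact oodd_three hn ho2 ho (hS.congr e)
    · exact oodd_false hn ho2 ho (hS.congr e)
  · obtain ⟨F, _, _, n, hn, ⟨e⟩⟩ := h
    by_cases ho : 3 ∣ Fintype.card F
    · exact oplus_three hn ho (hS.congr e)
    · exact oplus_false hn ho (hS.congr e)
  · obtain ⟨F, _, _, n, a, b, hn, hab, ⟨e⟩⟩ := h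
    by_cases ho : 3 ∣ Fintype.card F
    · exact ominus_three hn hab ho (hS.congr e)
    · exact ominus_false hn hab ho (hS.congr e)
  · exact exc_false T h hS
  · rcases h with h | h | h | h | h | h | h | h | h | h | h | h | h | h | h | h | h | h | h | h | h | h | h | h | h | h
    · exact spo .m11 (by decide) (by decide) (by decide) (by decide) h
    · exact spo .m12 (by decide) (by decide) (by decide) (by decide) h
    · exact spo .m22 (by decide) (by decide) (by decide) (by decide) h
    · exact spo .m23 (by decide) (by decide) (by decide) (by decide) h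
    · exact spo .m24 (by decide) (by decide) (by decide) (by decide) h
    · exact spo .j1 (by decide) (by decide) (by decide) (by decide) h
    · exact spo .j2 (by decide) (by decide) (by decide) (by decide) h
    · exact spo .j3 (by decide) (by decide) (by decide) (by decide) h
    · exact spo .j4 (by decide) (by decide) (by decide) (by decide) h
    · exact spo .co1 (by decide) (by decide) (by decide) (by decide) h
    · exact coTwo hS h
    · exact spo .co3 (by decide) (by decide) (by decide) (by decide) h
    · exact mcl hS h
    · exact spo .hs (by decide) (by decide) (by decide) (by decide) h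
    · exact spo .suz (by decide) (by decide) (by decide) (by decide) h
    · exact spo .he (by decide) (by decide) (by decide) (by decide) h
    · exact spo .ru (by decide) (by decide) (by decide) (by decide) h
    · exact spo .on (by decide) (by decide) (by decide) (by decide) h
    · exact spo .ly (by decide) (by decide) (by decide) (by decide) h
    · exact spo .fi22 (by decide) (by decide) (by decide) (by decide) h
    · exact spo .fi23 (by decide) (by decide) (by decide) (by decide) h
    · exact spo .fi24 (by decide) (by decide) (by decide) (by decide) h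
    · exact hn hS h
    · exact spo .th (by decide) (by decide) (by decide) (by decide) h
    · exact spo .b (by decide) (by decide) (by decide) (by decide) h
    · exact spo .m (by decide) (by decide) (by decide) (by decide) h

/-- **The elimination.** -/
theorem e1 (T : Cfsg.Agent.OrdDiv.OrderTable.{u}) {K : Type u} [Group K] [Finite K] (h : IsKnownSimple' K)
    {A S : Subgroup K} {z g : K} (hc : Conf11664 A S z g) (hm : Nat.card K / 729 % 3 = 2)
    (hab : ∀ B : Subgroup K, IsPGroup 3 B → (∀ x ∈ B, ∀ y ∈ B, x * y = y * x) → Nat.card B ≤ 81) : False :=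
  hy_false T h (Hy.of_conf hc hm hab)

end Cfsg.Agent.H345.EOne
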