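import Cfsg.Agent.H345.ESA
import Cfsg.Agent.StdL2.G23Coset
import Cfsg.Agent.S0215

/-!
# S3344, part B: normal subgroups of `G`
-/

set_option autoImplicit false

namespace Cfsg.Agent.H345.ESB

open Cfsg.Agent.Co2Type.Quad Cfsg.Agent.LargeExtra Cfsg.Agent.StdL2.G23Aut Cfsg.Agent.H345.ESA
open Cfsg.Agent.GH.C2GrowL3Base (mod_three card_mul_relIndex)

/-- an involution which centralizes nothing in a finite group normalized by it inverts it -/
theorem inv_of_fpf {H : Type*} [Group H] [Finite H] (R : Subgroup H) {t : H} (ht : t * t = 1)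
    (hN : t ∈ Subgroup.normalizer (R : Set H))
    (hc : ∀ c ∈ R, t * c = c * t → c = 1) {x : H} (hx : x ∈ R) : t * x * t = x⁻¹ := by
  have htt : t⁻¹ = t := inv_eq_of_mul_eq_one_left ht
  let φ : ↥R →* ↥R := (R.normalizerMonoidHom ⟨t, hN⟩ : MulAut ↥R).toMonoidHom
  have hφ : ∀ y : ↥R, ((φ y : ↥R) : H) = t * y * t := by
    intro y
    change t * (y : H) * t⁻¹ = _
    rw [htt]
  have h1 : MonoidHom.FixedPointFree φ := by
    intro g hg
    apply Subtype.ext
    refine hc _ g.2 ?_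
    have h2 : t * (g : H) * t = g := by rw [← hφ, hg]
    calc t * (g : H) = t * g * (t * t) := by rw [ht, mul_one]
      _ = (t * g * t) * t := by group
      _ = g * t := by rw [h2]
  have h2 : Function.Involutive φ := by
    intro g
    apply Subtype.ext
    rw [hφ, hφ]
    calc t * (t * (g : H) * t) * t = (t * t) * g * (t * t) := by group
      _ = g := by rw [ht, one_mul, mul_one]
  have h3 := congrFun (h1.coe_eq_inv_of_involutive h2) ⟨x, hx⟩
  have h4 := congrArg (Subtype.val) h3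
  rw [hφ] at h4
  exact h4

variable {G : Type*} [Group G] {Q A : Subgroup G} {z x : G}

theorem eq_one_of_odd [Finite G] {K : Subgroup G} (hodd : Odd (Nat.card K)) {w : G} (hw : w ∈ K)
    {n : ℕ} (hn : w ^ 2 ^ n = 1) : w = 1 := by
  have h1 : orderOf w ∣ 2 ^ n := orderOf_dvd_of_pow_eq_one hn
  have h2 : orderOf w ∣ Nat.card K := Subgroup.orderOf_dvd_natCard K hw
  have h3 : Nat.Coprime (2 ^ n) (Nat.card K) := by
    apply Nat.Coprime.pow_left
    exact Nat.coprime_two_left.2 hodd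
  rw [← orderOf_eq_one_iff]
  exact Nat.eq_one_of_dvd_coprimes h3 h1 h2

theorem odd_inf [Finite G] (h : Large Q z) {K : Subgroup G} (hodd : Odd (Nat.card K)) {w : G}
    (hw : w ∈ K) (hwQ : w ∈ Q) : w = 1 := by
  refine eq_one_of_odd hodd hw (n := 2) ?_
  have : w ^ 2 ^ 2 = (w * w) * (w * w) := by
    rw [show (2 : ℕ) ^ 2 = 2 + 2 from rfl, pow_add, pow_two]
  rw [this]
  rcases h.sq w hwQ with e | e
  · rw [e, one_mul]
  · rw [e, h.z_sq]

/-- `t ∈ Q` noncentral: `t z` is conjugate to `t` in `Q` -/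
theorem exists_conj_mul (h : Large Q z) {t : G} (ht : t ∈ Q) (h1 : t ≠ 1) (h2 : t ≠ z) :
    ∃ q ∈ Q, q * t * q⁻¹ = t * z := by
  by_contra hno
  push Not at hno
  rcases h.cent t ht (fun y hy => by
    rcases h.comm y hy t ht with e | e
    · exact e.symm
    · exfalso
      apply hno y hy
      rw [e, mul_assoc, ← h.comm_z y⁻¹ (Q.inv_mem hy), mul_assoc, mul_inv_cancel_left]) with e | e
  · exact h1 e
  · exact h2 e

/-- odd normal subgroups are trivial -/
theorem odd_normal [Finite G] (h : Large Q z) (hnwc : ∃ g : G, g * z * g⁻¹ ∈ Q ∧ g * z * g⁻¹ ≠ z)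
    {K : Subgroup G} (hK : K.Normal) (hodd : Odd (Nat.card K)) : K = ⊥ := by
  have ha : ∀ k ∈ K, z * k = k * z → k = 1 := by
    intro k hk hkz
    have hq : ∀ q ∈ Q, k * q = q * k := by
      intro q hq
      have h1 : k * q * k⁻¹ * q⁻¹ ∈ K := by
        have : k * q * k⁻¹ * q⁻¹ = k * (q * k⁻¹ * q⁻¹) := by group
        rw [this]
        exact K.mul_mem hk (hK.conj_mem _ (K.inv_mem hk) q)
      have h2 : k * q * k⁻¹ * q⁻¹ ∈ Q := Q.mul_mem (h.conj_mem k hkz.symm q hq) (Q.inv_mem hq)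
      have h3 := odd_inf h hodd h1 h2
      rw [mul_inv_eq_one, mul_inv_eq_iff_eq_mul] at h3
      exact h3
    exact odd_inf h hodd hk (h.self k hkz.symm hq)
  have hb : ∀ g : G, ∀ k ∈ K, (g * z * g⁻¹) * k * (g * z * g⁻¹) = k⁻¹ := by
    intro g k hk
    apply inv_of_fpf K
    · calc g * z * g⁻¹ * (g * z * g⁻¹) = g * (z * z) * g⁻¹ := by group
        _ = 1 := by rw [h.z_sq]; group
    · rw [Subgroup.normalizer_eq_top_iff.2 hK]; trivial
    · intro c hc hcz
      have h1 : g⁻¹ * c * g ∈ K := by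
        have := hK.conj_mem c hc g⁻¹
        rwa [inv_inv] at this
      have h2 := ha _ h1 (by
        calc z * (g⁻¹ * c * g) = g⁻¹ * ((g * z * g⁻¹) * c) * g := by group
          _ = g⁻¹ * (c * (g * z * g⁻¹)) * g := by rw [hcz]
          _ = (g⁻¹ * c * g) * z := by group)
      calc c = g * (g⁻¹ * c * g) * g⁻¹ := by group
        _ = 1 := by rw [h2]; group
    · exact hk
  obtain ⟨g, hg, hne⟩ := hnwc
  have h1 : g * z * g⁻¹ ≠ 1 := by
    intro e
    apply h.z_ne
    calc z = g⁻¹ * (g * z * g⁻¹) * g := by group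
      _ = 1 := by rw [e]; group
  obtain ⟨q, hq, hqe⟩ := exists_conj_mul h hg h1 hne
  rw [Subgroup.eq_bot_iff_forall]
  intro k hk
  have e1 := hb g k hk
  have e2 := hb 1 k hk
  have e3 := hb (q * g) k hk
  rw [one_mul, inv_one, mul_one] at e2
  have e4 : (q * g) * z * (q * g)⁻¹ = (g * z * g⁻¹) * z := by rw [← hqe]; group
  rw [e4] at e3
  have hcz := h.comm_z _ hg
  have e5 : g * z * g⁻¹ * z * k * (g * z * g⁻¹ * z) = k := by
    calc g * z * g⁻¹ * z * k * (g * z * g⁻¹ * z) = (g * z * g⁻¹) * (z * k * (g * z * g⁻¹ * z)) := by group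
      _ = (g * z * g⁻¹) * (z * k * (z * (g * z * g⁻¹))) := by rw [hcz]
      _ = (g * z * g⁻¹) * (z * k * z) * (g * z * g⁻¹) := by group
      _ = (g * z * g⁻¹) * k⁻¹ * (g * z * g⁻¹) := by rw [e2]
      _ = k := by rw [hb g k⁻¹ (K.inv_mem hk), inv_inv]
  rw [e5] at e3
  apply eq_one_of_odd hodd hk (n := 1)
  rw [pow_one, pow_two]
  nth_rw 1 [e3]
  exact inv_mul_cancel k

/-- a subgroup of even order normalized by a 2-group `T ≥ Q` meeting it nontrivially contains `z` -/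
theorem z_mem_of_two [Finite G] (h : Large Q z) {T K : Subgroup G} (hT : IsPGroup 2 T) (hQT : Q ≤ T)
    (hn : ∀ t ∈ T, ∀ k ∈ K, t * k * t⁻¹ ∈ K) (hne : T ⊓ K ≠ ⊥) : z ∈ K := by
  have hTC := TwoCentral.le_centralizer_of_two h hT hQT
  have h2 : IsPGroup 2 (T ⊓ K : Subgroup G) := hT.to_le inf_le_left
  obtain ⟨a, ha, ha1, hfix⟩ := Cfsg.Agent.GH.C2GrowL3Base.exists_fix (T := T) (A := T ⊓ K) (B := ⊥) hT h2
    bot_le (Ne.symm hne) (fun t ht a ha => Subgroup.mem_inf.2
      ⟨T.mul_mem (T.mul_mem ht (Subgroup.mem_inf.1 ha).1) (T.inv_mem ht),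
        hn t ht a (Subgroup.mem_inf.1 ha).2⟩)
    (fun t _ b hb => by rw [Subgroup.mem_bot] at hb ⊢; rw [hb]; group)
  rw [Subgroup.mem_bot] at ha1
  obtain ⟨haT, haK⟩ := Subgroup.mem_inf.1 ha
  have haz : a * z = z * a := mem_C.1 (hTC haT)
  have haQ : a ∈ Q := by
    apply h.self a haz
    intro q hq
    have h3 := hfix q (hQT hq)
    rw [Subgroup.mem_bot, inv_mul_eq_one] at h3
    rw [h3, inv_mul_cancel_right]
    rw [← h3]
  rcases h.cent a haQ (fun q hq => by
    have h3 := hfix q (hQT hq)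
    rw [Subgroup.mem_bot, inv_mul_eq_one] at h3
    calc a * q = (q * a * q⁻¹) * q := by rw [← h3]
      _ = q * a := by group) with e | e
  · exact absurd e ha1
  · rw [← e]; exact haK

/-- nontrivial normal subgroups contain `z` if there is no odd normal subgroup -/
theorem z_mem_of_core [Finite G] (h : Large Q z)
    (hO : ∀ K : Subgroup G, K.Normal → Odd (Nat.card K) → K = ⊥)
    {K : Subgroup G} (hK : K.Normal) (hne : K ≠ ⊥) : z ∈ K := by
  have : Fact (Nat.Prime 2) := ⟨Nat.prime_two⟩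
  have hQ2 : IsPGroup 2 Q := by
    intro q
    refine ⟨2, ?_⟩
    apply Subtype.ext
    have : (q : G) ^ 2 ^ 2 = (q * q) * (q * q) := by
      rw [show (2 : ℕ) ^ 2 = 2 + 2 from rfl, pow_add, pow_two]
    rw [Subgroup.coe_pow, this, Subgroup.coe_one]
    rcases h.sq q q.2 with e | e
    · rw [e, one_mul]
    · rw [e, h.z_sq]
  obtain ⟨T, hT⟩ := hQ2.exists_le_sylow
  apply z_mem_of_two h T.2 hT (fun t _ k hk => hK.conj_mem k hk t)
  intro hbot
  apply hne
  apply hO K hK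
  by_contra hev
  rw [Nat.not_odd_iff_even, even_iff_two_dvd] at hev
  obtain ⟨k, hk⟩ := exists_prime_orderOf_dvd_card' 2 hev
  -- a conjugate of `k` lies in `T`
  have hk2 : IsPGroup 2 (Subgroup.zpowers (k : G)) := by
    rw [IsPGroup.iff_card]
    refine ⟨1, ?_⟩
    rw [Nat.card_zpowers, pow_one, Subgroup.orderOf_coe]
    exact hk
  obtain ⟨T', hT'⟩ := hk2.exists_le_sylow
  obtain ⟨g, hg⟩ := MulAction.exists_smul_eq G T' T
  have h1 : g * k * g⁻¹ ∈ (T : Subgroup G) := by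
    rw [← hg]
    rw [Sylow.coe_subgroup_smul]
    exact Subgroup.smul_mem_pointwise_smul _ _ _ (hT' (Subgroup.mem_zpowers _))
  have h2 : g * k * g⁻¹ ∈ ((T : Subgroup G) ⊓ K : Subgroup G) :=
    Subgroup.mem_inf.2 ⟨h1, hK.conj_mem _ k.2 g⟩
  rw [hbot, Subgroup.mem_bot, mul_inv_eq_one] at h2
  have h3 : (k : G) = 1 := mul_eq_left.1 h2
  have h4 : k = 1 := Subtype.ext h3
  rw [h4, orderOf_one] at hk
  norm_num at hk

/-- nontrivial normal subgroups contain `z` -/
theorem z_mem_of_normal [Finite G] (h : Large Q z) (hnwc : ∃ g : G, g * z * g⁻¹ ∈ Q ∧ g * z * g⁻¹ ≠ z)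
    {K : Subgroup G} (hK : K.Normal) (hne : K ≠ ⊥) : z ∈ K :=
  z_mem_of_core h (fun _ h1 h2 => odd_normal h hnwc h1 h2) hK hne

/-- the odd core of a normal subgroup is trivial -/
theorem core_normal [Finite G] (h : Large Q z) (hnwc : ∃ g : G, g * z * g⁻¹ ∈ Q ∧ g * z * g⁻¹ ≠ z)
    {N : Subgroup G} (hN : N.Normal) {K : Subgroup N} (hK : K.Normal) (hodd : Odd (Nat.card K)) : K = ⊥ := by
  have h1 : K ≤ Cfsg.pPrimeCore 2 N :=
    Lib.Cores.le_pPrimeCore hK (Nat.coprime_two_right.2 hodd)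
  have h2 : (Cfsg.pPrimeCore 2 N).map N.subtype = ⊥ := by
    have hchar := Lib.Cores.pPrimeCore_characteristic (G := N) 2
    apply odd_normal h hnwc
    · infer_instance
    · rw [Subgroup.card_map_of_injective N.subtype_injective]
      exact Nat.coprime_two_right.1 (Lib.Cores.pPrimeCore_coprime 2)
  rw [Subgroup.map_eq_bot_iff_of_injective _ N.subtype_injective] at h2
  rw [h2] at h1
  exact le_bot_iff.1 h1

end Cfsg.Agent.H345.ESB
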