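import Cfsg.Agent.H345.ESB

/-!
# S3344, part C: a normal subgroup not containing `Q`
-/

set_option autoImplicit false

namespace Cfsg.Agent.H345.ESC

open Cfsg.Agent.Co2Type.Quad Cfsg.Agent.LargeExtra Cfsg.Agent.StdL2.G23Aut Cfsg.Agent.H345.ESA
open Cfsg.Agent.GH.C2GrowL3Base (mod_three card_mul_relIndex)

variable {G : Type*} [Group G] {Q A N : Subgroup G} {z x : G}

section
variable (h : Hyp Q z x)
include h

theorem inf_le [Finite G] (hN : N.Normal) (hz : z ∈ N) (hQ : ¬ Q ≤ N) :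
    N ⊓ Subgroup.centralizer ({z} : Set G) ≤ Q := by
  by_contra hno
  obtain ⟨q, hq, hqx⟩ := h.norm (N ⊓ Subgroup.centralizer ({z} : Set G)) inf_le_right (by
    intro c hc n hn
    obtain ⟨hn1, hn2⟩ := Subgroup.mem_inf.1 hn
    exact Subgroup.mem_inf.2 ⟨hN.conj_mem n hn1 c,
      Subgroup.mul_mem _ (Subgroup.mul_mem _ hc hn2) (Subgroup.inv_mem _ hc)⟩) hno
  have hqxN := (Subgroup.mem_inf.1 hqx).1
  apply hQ
  intro r hr
  have hrz := h.large.comm_z r hr
  have h1 : r ∈ (N ⊓ Q : Subgroup G) := by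
    refine h.le_of_triv (A := N ⊓ Q) inf_le_right (Subgroup.mem_inf.2 ⟨hz, h.large.z_mem⟩) ?_ hr ?_
    · intro a ha
      obtain ⟨ha1, ha2⟩ := Subgroup.mem_inf.1 ha
      exact Subgroup.mem_inf.2 ⟨hN.conj_mem a ha1 x, h.xQ ha2⟩
    · refine Subgroup.mem_inf.2 ⟨?_, Q.mul_mem (Q.inv_mem hr) (h.xQ hr)⟩
      have e1 : r⁻¹ * (x * r * x⁻¹) = r⁻¹ * (q⁻¹ * ((q * x) * (r * (q * x)⁻¹ * r⁻¹)) * q⁻¹⁻¹) * r⁻¹⁻¹ *
          (r⁻¹ * q⁻¹ * r * q) := by group
      rw [e1]
      refine N.mul_mem (hN.conj_mem _ (hN.conj_mem _ (N.mul_mem hqxN (hN.conj_mem _ (N.inv_mem hqxN) r)) _) _) ?_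
      rcases h.large.comm r hr q hq with e | e
      · rw [show r⁻¹ * q⁻¹ * r * q = r⁻¹ * q⁻¹ * (r * q) by group, e]
        rw [show r⁻¹ * q⁻¹ * (q * r) = 1 by group]
        exact N.one_mem
      · rw [show r⁻¹ * q⁻¹ * r * q = r⁻¹ * q⁻¹ * (r * q) by group, e]
        rw [show r⁻¹ * q⁻¹ * (q * r * z) = z by group]
        exact hz
  exact (Subgroup.mem_inf.1 h1).1

/-- the elements of an `x`-invariant subgroup of order 8 -/
theorem eq_of_card8 [Finite G] (hA : A ≤ Q) (hz : z ∈ A) (hx : ∀ a ∈ A, x * a * x⁻¹ ∈ A)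
    (h8 : Nat.card A = 8) {a : G} (ha : a ∈ A) (h1 : a ≠ 1) (h2 : a ≠ z) {b : G} (hb : b ∈ A) :
    b = 1 ∨ b = z ∨ b = a ∨ b = a * z ∨ b = x * a * x⁻¹ ∨ b = x * a * x⁻¹ * z ∨
      b = x * (x * a * x⁻¹) * x⁻¹ ∨ b = x * (x * a * x⁻¹) * x⁻¹ * z := by
  classical
  have hzz := h.large.z_sq
  have ha1 := hx a ha
  have ha2 := hx _ ha1
  have hne1 : ∀ {w : G}, w ≠ 1 → x * w * x⁻¹ ≠ 1 := by
    intro w hw e
    apply hw
    calc w = x⁻¹ * (x * w * x⁻¹) * x := by group
      _ = 1 := by rw [e]; group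
  have hnez : ∀ {w : G}, w ≠ z → x * w * x⁻¹ ≠ z := by
    intro w hw e
    apply hw
    calc w = x⁻¹ * (x * w * x⁻¹) * x := by group
      _ = x⁻¹ * (x * z * x⁻¹) * x := by rw [e, h.hxz]
      _ = z := by group
  have hf : ∀ {w : G}, w ∈ A → w ≠ 1 → w ≠ z → ¬ (x * w * x⁻¹ = w ∨ x * w * x⁻¹ = w * z) := by
    intro w hw e1 e2 e3
    rcases h.fpf' (hA hw) e3 with e | e
    · exact e1 e
    · exact e2 e
  have f1 := hf ha h1 h2
  have f2 := hf ha1 (hne1 h1) (hnez h2)
  have f3 := hf ha2 (hne1 (hne1 h1)) (hnez (hnez h2))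
  rw [conj3 h.x3] at f3
  have n1 := hne1 h1
  have n2 := hne1 n1
  have m1 := hnez h2
  have m2 := hnez m1
  generalize x * a * x⁻¹ = a1 at *
  generalize x * a1 * x⁻¹ = a2 at *
  have hcard : ∀ f : Fin 4 → G, (∀ i, f i ∈ A) → (∀ i j, i ≠ j → f i ≠ f j ∧ f i ≠ f j * z) →
      ∀ w ∈ A, ∃ i, w = f i ∨ w = f i * z := by
    intro f hf hij w hw
    let g : Fin 4 × Fin 2 → A := fun p => ⟨f p.1 * (if p.2 = 0 then 1 else z), by
      refine A.mul_mem (hf _) ?_
      split_ifs
      · exact A.one_mem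
      · exact hz⟩
    have hg : Function.Injective g := by
      rintro ⟨i, e⟩ ⟨j, e'⟩ hp
      have hp' : f i * (if e = 0 then 1 else z) = f j * (if e' = 0 then 1 else z) := congrArg Subtype.val hp
      have hij' : i = j := by
        by_contra hne
        obtain ⟨k1, k2⟩ := hij i j hne
        have hmul : f i = f j * ((if e' = 0 then 1 else z) * (if e = 0 then 1 else z)) := by
          have : f i = f i * (if e = 0 then 1 else z) * (if e = 0 then 1 else z) := by
            split_ifs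
            · rw [mul_one, mul_one]
            · rw [mul_assoc, hzz, mul_one]
          rw [this, hp', mul_assoc]
        have : (if e' = 0 then (1 : G) else z) * (if e = 0 then 1 else z) = 1 ∨
            (if e' = 0 then (1 : G) else z) * (if e = 0 then 1 else z) = z := by
          split_ifs
          · left; rw [mul_one]
          · right; rw [one_mul]
          · right; rw [mul_one]
          · left; exact hzz
        rcases this with h5 | h5
        · rw [h5, mul_one] at hmul; exact k1 hmul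
        · rw [h5] at hmul; exact k2 hmul
      subst hij'
      have he := mul_left_cancel hp'
      congr 1
      by_contra hne
      fin_cases e <;> fin_cases e' <;> simp at hne he
      · exact h.large.z_ne he.symm
      · exact h.large.z_ne he
    have hbij : Function.Bijective g := hg.bijective_of_nat_card_le (by rw [h8]; simp)
    obtain ⟨⟨i, e⟩, hp⟩ := hbij.2 ⟨w, hw⟩
    refine ⟨i, ?_⟩
    have hp' : f i * (if e = 0 then 1 else z) = w := congrArg Subtype.val hp
    split_ifs at hp'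
    · left; rw [← hp', mul_one]
    · right; exact hp'.symm
  have hsymm : ∀ {u v : G}, u = v * z → v = u * z := by
    intro u v e
    rw [e, mul_assoc, hzz, mul_one]
  obtain ⟨i, hi⟩ := hcard ![1, a, a1, a2] (by intro i; fin_cases i <;> simp [ha, ha1, ha2]) (by
    intro i j hij
    push Not at f1 f2 f3
    fin_cases i <;> fin_cases j <;> simp at hij ⊢
    · exact ⟨h1.symm, fun e => h2 (by have := hsymm e; rwa [one_mul] at this)⟩
    · exact ⟨n1.symm, fun e => m1 (by have := hsymm e; rwa [one_mul] at this)⟩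
    · exact ⟨n2.symm, fun e => m2 (by have := hsymm e; rwa [one_mul] at this)⟩
    · exact ⟨h1, h2⟩
    · exact ⟨f1.1.symm, fun e => f1.2 (hsymm e)⟩
    · exact ⟨f3.1, f3.2⟩
    · exact ⟨n1, m1⟩
    · exact ⟨f1.1, f1.2⟩
    · exact ⟨f2.1.symm, fun e => f2.2 (hsymm e)⟩
    · exact ⟨n2, m2⟩
    · exact ⟨f3.1.symm, fun e => f3.2 (hsymm e)⟩
    · exact ⟨f2.1, f2.2⟩) b hb
  fin_cases i <;> simp at hi
  · rcases hi with e | e
    · exact Or.inl e
    · exact Or.inr (Or.inl e)
  · rcases hi with e | e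
    · exact Or.inr (Or.inr (Or.inl e))
    · exact Or.inr (Or.inr (Or.inr (Or.inl e)))
  · rcases hi with e | e
    · exact Or.inr (Or.inr (Or.inr (Or.inr (Or.inl e))))
    · exact Or.inr (Or.inr (Or.inr (Or.inr (Or.inr (Or.inl e)))))
  · rcases hi with e | e
    · exact Or.inr (Or.inr (Or.inr (Or.inr (Or.inr (Or.inr (Or.inl e))))))
    · exact Or.inr (Or.inr (Or.inr (Or.inr (Or.inr (Or.inr (Or.inr e))))))

theorem oct_of [Finite G] (hA : A ≤ Q) (hz : z ∈ A) (hx : ∀ a ∈ A, x * a * x⁻¹ ∈ A)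
    (h8 : Nat.card A = 8) {a : G} (ha : a ∈ A) (h1 : a ≠ 1) (h2 : a ≠ z) (haa : a * a = 1) : Oct A := by
  refine ⟨h8, fun b hb => ?_⟩
  have hs : ∀ w ∈ A, w * w = 1 → (w * z) * (w * z) = 1 := by
    intro w hw e
    have := h.large.comm_z w (hA hw)
    calc (w * z) * (w * z) = (w * z) * (z * w) := by rw [this]
      _ = w * (z * z) * w := by group
      _ = 1 := by rw [h.large.z_sq, mul_one, e]
  have hc : ∀ w : G, w * w = 1 → (x * w * x⁻¹) * (x * w * x⁻¹) = 1 := by
    intro w e
    calc (x * w * x⁻¹) * (x * w * x⁻¹) = x * (w * w) * x⁻¹ := by group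
      _ = 1 := by rw [e]; group
  rcases eq_of_card8 h hA hz hx h8 ha h1 h2 hb with e | e | e | e | e | e | e | e <;> rw [e]
  · rw [mul_one]
  · exact h.large.z_sq
  · exact haa
  · exact hs _ ha haa
  · exact hc _ haa
  · exact hs _ (hx _ ha) (hc _ haa)
  · exact hc _ (hc _ haa)
  · exact hs _ (hx _ (hx _ ha)) (hc _ (hc _ haa))

end

theorem index_aux [Finite G] (h : Large Q z) (hN : N.Normal) :
    ¬ 2 ∣ (N ⊓ Subgroup.centralizer ({z} : Set G)).relIndex N := by
  intro h2
  have hodd := TwoCentral.odd_index h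
  have h1 := StdL2.G23Coset.card_sup_mul_card_inf (H := Subgroup.centralizer ({z} : Set G)) (N := N)
    (by rw [Subgroup.normalizer_eq_top_iff.2 hN]; exact le_top)
  have h3 := card_mul_relIndex (H := Subgroup.centralizer ({z} : Set G))
    (K := Subgroup.centralizer ({z} : Set G) ⊔ N) le_sup_left
  have h4 := card_mul_relIndex (H := N ⊓ Subgroup.centralizer ({z} : Set G)) (K := N) inf_le_left
  rw [inf_comm, ← h3] at h1
  have hpos : 0 < Nat.card (Subgroup.centralizer ({z} : Set G)) := Nat.card_pos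
  have hpos2 : 0 < Nat.card (N ⊓ Subgroup.centralizer ({z} : Set G) : Subgroup G) := Nat.card_pos
  have h5 : (Subgroup.centralizer ({z} : Set G)).relIndex (Subgroup.centralizer ({z} : Set G) ⊔ N) =
      (N ⊓ Subgroup.centralizer ({z} : Set G)).relIndex N := by
    have e : Nat.card (Subgroup.centralizer ({z} : Set G)) *
        (Nat.card (N ⊓ Subgroup.centralizer ({z} : Set G) : Subgroup G) *
        (Subgroup.centralizer ({z} : Set G)).relIndex (Subgroup.centralizer ({z} : Set G) ⊔ N)) =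
        Nat.card (Subgroup.centralizer ({z} : Set G)) *
        (Nat.card (N ⊓ Subgroup.centralizer ({z} : Set G) : Subgroup G) *
        (N ⊓ Subgroup.centralizer ({z} : Set G)).relIndex N) := by
      rw [h4, ← h1]; ring
    exact Nat.eq_of_mul_eq_mul_left hpos2 (Nat.eq_of_mul_eq_mul_left hpos e)
  have h6 : (Subgroup.centralizer ({z} : Set G)).relIndex (Subgroup.centralizer ({z} : Set G) ⊔ N) ∣
      (Subgroup.centralizer ({z} : Set G)).index :=
    Dvd.intro _ (Subgroup.relIndex_mul_index le_sup_left)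
  rw [h5] at h6
  exact (Nat.not_even_iff_odd.2 hodd) (even_iff_two_dvd.2 (h2.trans h6))

/-- a normal subgroup with `z ∈ N` not containing `Q` is contained in `Q` -/
theorem le_Q [Finite G] (h : Hyp Q z x) (hN : N.Normal) (hz : z ∈ N) (hQ : ¬ Q ≤ N) : N ≤ Q := by
  have : Fact (Nat.Prime 2) := ⟨Nat.prime_two⟩
  have hinf := inf_le h hN hz hQ
  have hlarge := h.large
  set A := N ⊓ Subgroup.centralizer ({z} : Set G) with hAdef
  have hAN : A ≤ N := inf_le_left
  have hAC : A ≤ Subgroup.centralizer ({z} : Set G) := inf_le_right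
  have hzA : z ∈ A := Subgroup.mem_inf.2 ⟨hz, mem_C.2 rfl⟩
  have hnA : ∀ c ∈ Subgroup.centralizer ({z} : Set G), ∀ a ∈ A, c * a * c⁻¹ ∈ A := by
    intro c hc n hn
    obtain ⟨hn1, hn2⟩ := Subgroup.mem_inf.1 hn
    exact Subgroup.mem_inf.2 ⟨hN.conj_mem n hn1 c,
      Subgroup.mul_mem _ (Subgroup.mul_mem _ hc hn2) (Subgroup.inv_mem _ hc)⟩
  have hxA : ∀ a ∈ A, x * a * x⁻¹ ∈ A := hnA x h.xC
  have hA2 : IsPGroup 2 A := by
    rcases h.card_cases hinf hzA hxA with e | e | e
    · exact IsPGroup.of_card (n := 1) (by rw [e]; norm_num)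
    · exact IsPGroup.of_card (n := 3) (by rw [e]; norm_num)
    · exact IsPGroup.of_card (n := 5) (by rw [e]; norm_num)
  have hAs : IsPGroup 2 (A.subgroupOf N) := hA2.of_equiv (Subgroup.subgroupOfEquivOfLe hAN).symm
  have hidx : ¬ 2 ∣ (A.subgroupOf N).index := index_aux h.large hN
  let P : Sylow 2 N := hAs.toSylow hidx
  have hPmem : ∀ n : N, n ∈ P ↔ (n : G) ∈ A := fun n => Iff.rfl
  have hzz := h.large.z_sq
  have hu : orderOf (⟨z, hz⟩ : N) = 2 := by
    apply orderOf_eq_prime
    · rw [pow_two]; exact Subtype.ext hzz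
    · intro e; exact h.large.z_ne (congrArg Subtype.val e)
  have hiso : ∀ n : N, n * ⟨z, hz⟩ * n⁻¹ ∈ P → n * ⟨z, hz⟩ * n⁻¹ = ⟨z, hz⟩ := by
    intro n hn
    by_contra hne
    have hn' : (n : G) * z * (n : G)⁻¹ ∈ A := (hPmem _).1 hn
    have hne2 : (n : G) * z * (n : G)⁻¹ ≠ z := fun e => hne (Subtype.ext e)
    have hne1 : (n : G) * z * (n : G)⁻¹ ≠ 1 := by
      intro e
      apply h.large.z_ne
      calc z = (n : G)⁻¹ * ((n : G) * z * (n : G)⁻¹) * n := by group
        _ = 1 := by rw [e]; group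
    have haa : ((n : G) * z * (n : G)⁻¹) * ((n : G) * z * (n : G)⁻¹) = 1 := by
      calc _ = (n : G) * (z * z) * (n : G)⁻¹ := by group
        _ = 1 := by rw [hzz]; group
    rcases h.card_cases hinf hzA hxA with e | e | e
    · have h1 : A = Subgroup.zpowers z :=
        (Subgroup.eq_of_le_of_card_ge (by rw [Subgroup.zpowers_le]; exact hzA)
          (by rw [e, card_Z h.large])).symm
      rw [h1] at hn'
      rcases (mem_Z h.large).1 hn' with e' | e'
      · exact hne1 e'
      · exact hne2 e'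
    · have hO := oct_of h hinf hzA hxA e hn' hne1 hne2 haa
      -- a conjugating element in the normalizer of `A`
      have hcomm : IsMulCommutative P := ⟨⟨fun a b => by
        apply Subtype.ext; apply Subtype.ext
        exact hO.comm ((hPmem _).1 a.2) ((hPmem _).1 b.2)⟩⟩
      have hzP : (⟨z, hz⟩ : N) ∈ P := (hPmem _).2 hzA
      obtain ⟨m, hm, hmn⟩ := P.conj_eq_normalizer_conj_of_mem (⟨z, hz⟩ : N) n⁻¹ hzP
        (by rw [inv_inv]; exact hn)
      rw [inv_inv] at hmn
      -- `m⁻¹` normalizes `A` and moves `z`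
      have hm' : ((m⁻¹ : N) : G) ∈ Subgroup.normalizer (A : Set G) := by
        have hmi : m⁻¹ ∈ Subgroup.normalizer (P : Set N) := inv_mem hm
        rw [Subgroup.mem_normalizer_iff]
        intro a
        constructor
        · intro ha
          have := (Subgroup.mem_normalizer_iff.1 hmi ⟨a, hAN ha⟩).1 ((hPmem _).2 ha)
          exact (hPmem _).1 this
        · intro ha
          have haN : a ∈ N := by
            have h5 := hN.conj_mem _ (hAN ha) ((m⁻¹ : N) : G)⁻¹
            rwa [show ((m⁻¹ : N) : G)⁻¹ * (((m⁻¹ : N) : G) * a * ((m⁻¹ : N) : G)⁻¹) * ((m⁻¹ : N) : G)⁻¹⁻¹ = a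
              by group] at h5
          have := (Subgroup.mem_normalizer_iff.1 hmi ⟨a, haN⟩).2 ((hPmem _).2 ha)
          exact (hPmem _).1 this
      have hmz : ((m⁻¹ : N) : G) * z * ((m⁻¹ : N) : G)⁻¹ ≠ z := by
        intro e1
        apply hne
        rw [hmn]
        apply Subtype.ext
        have : (((m⁻¹ : N) * ⟨z, hz⟩ * m : N) : G) = ((m⁻¹ : N) : G) * z * ((m⁻¹ : N) : G)⁻¹ := by
          simp
        rw [this, e1]
      have htop := h.img_top hinf hzA hnA hO hm' hmz
      -- the image of `N ∩ N_G(A)` is normal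
      have hM : Subgroup.normalizer (A : Set G) ⊓ N ≤ Subgroup.normalizer (A : Set G) := inf_le_left
      have hnorm : (img (Subgroup.normalizer (A : Set G) ⊓ N) A).Normal := by
        constructor
        intro φ hφ ψ
        obtain ⟨k, hk, hk', hkφ⟩ := mem_img.1 hφ
        have hψ : ψ ∈ img (Subgroup.normalizer (A : Set G)) A := by rw [htop]; trivial
        obtain ⟨c, hc, hc', hcψ⟩ := mem_img.1 hψ
        rw [mem_img]
        refine ⟨c * k * c⁻¹, ?_, ?_, ?_⟩
        · refine Subgroup.mem_inf.2 ⟨?_, hN.conj_mem k (Subgroup.mem_inf.1 hk).2 c⟩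
          exact Subgroup.mul_mem _ (Subgroup.mul_mem _ hc hk') (Subgroup.inv_mem _ hc)
        · exact Subgroup.mul_mem _ (Subgroup.mul_mem _ hc hk') (Subgroup.inv_mem _ hc)
        · intro v
          have hψi : ∀ w : A, c⁻¹ * (w : G) * c = ((ψ⁻¹ w : A) : G) := by
            intro w
            have := hcψ (ψ⁻¹ w)
            rw [MulAut.apply_inv_self] at this
            rw [← this]; group
          show c * k * c⁻¹ * (v : G) * (c * k * c⁻¹)⁻¹ = ((ψ (φ (ψ⁻¹ v)) : A) : G)
          rw [← hcψ, ← hkφ, ← hψi]; group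
      have hcG := h.cent_G hinf hzA hnA hO.card (fun a ha b hb => hO.comm ha hb)
      have hmN : ((m⁻¹ : N) : G) ∈ Subgroup.normalizer (A : Set G) ⊓ N :=
        Subgroup.mem_inf.2 ⟨hm', (m⁻¹).2⟩
      rcases hO.normal _ hnorm with e1 | e1
      · -- the image is not trivial
        apply hmz
        have h5 : (Subgroup.normalizerMonoidHom A ⟨((m⁻¹ : N) : G), hm'⟩ : MulAut A) ∈
            img (Subgroup.normalizer (A : Set G) ⊓ N) A :=
          mem_img.2 ⟨_, hmN, hm', fun v => rfl⟩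
        rw [e1, Subgroup.mem_bot] at h5
        have h6 := congrArg (fun φ : MulAut A => ((φ ⟨z, hzA⟩ : A) : G)) h5
        exact h6
      · -- the image is everything
        have c1 := card_img_mul (K := Subgroup.normalizer (A : Set G) ⊓ N) (V := A) inf_le_left
        have c2 := card_img_mul (K := Subgroup.normalizer (A : Set G)) (V := A) le_rfl
        rw [hcG] at c1 c2
        have hAM : A ≤ Subgroup.normalizer (A : Set G) := Subgroup.le_normalizer
        rw [e1, inf_eq_right.2 (le_inf hAM hAN)] at c1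
        rw [htop, inf_eq_right.2 hAM] at c2
        have h7 : Subgroup.normalizer (A : Set G) ⊓ N = Subgroup.normalizer (A : Set G) :=
          Subgroup.eq_of_le_of_card_ge inf_le_left (by rw [← c1, ← c2])
        have h8 : Subgroup.centralizer ({z} : Set G) ≤ N := by
          intro c hc
          have h9 : c ∈ Subgroup.normalizer (A : Set G) := by
            rw [Subgroup.mem_normalizer_iff]
            intro a
            refine ⟨fun ha => hnA c hc a ha, fun ha => ?_⟩
            have := hnA c⁻¹ (inv_mem hc) _ ha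
            rwa [show c⁻¹ * (c * a * c⁻¹) * c⁻¹⁻¹ = a by group] at this
          rw [← h7] at h9
          exact (Subgroup.mem_inf.1 h9).2
        exact hQ (h.le_C.trans h8)
    · apply hQ
      have : A = Q := Subgroup.eq_of_le_of_card_ge hinf (by rw [e, h.card])
      rw [← this]; exact hAN
  obtain ⟨K, hK, hKodd, hKc⟩ := S0215.result P ⟨z, hz⟩ hu ((hPmem _).2 hzA) hiso
  have hK1 := ESB.core_normal h.large h.nwc hN hK hKodd
  refine le_trans (le_inf le_rfl ?_) hinf
  intro n hn
  have h1 := hKc ⟨n, hn⟩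
  rw [hK1, Subgroup.mem_bot] at h1
  have h2 : z * n * z⁻¹ * n⁻¹ = 1 := congrArg Subtype.val h1
  rw [mul_inv_eq_one, mul_inv_eq_iff_eq_mul] at h2
  exact mem_C.2 h2.symm

end Cfsg.Agent.H345.ESC
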