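import Cfsg.Agent.H345.ESD
import Cfsg.Agent.LargeExtra.W2.OddDead

/-!
# S3344, part E: `Q ≤ N` for all normal subgroups `N ≠ 1`: `G` is simple
-/

set_option autoImplicit false

namespace Cfsg.Agent.H345.ESE

open Cfsg.Agent.Co2Type.Quad Cfsg.Agent.LargeExtra Cfsg.Agent.H345.ESA
open Cfsg.Agent.GH.C2GrowL3Base (card_mul_relIndex)

variable {G : Type*} [Group G] {Q A N : Subgroup G} {z x : G}

/-- `Large` in a subgroup containing `Q` -/
theorem large_sub (h : Large Q z) (hQ : Q ≤ N) :
    Large (Q.subgroupOf N) (⟨z, hQ h.z_mem⟩ : N) where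
  z_mem := h.z_mem
  z_ne := fun e => h.z_ne (congrArg Subtype.val e)
  z_sq := Subtype.ext h.z_sq
  comm_z := fun a ha => Subtype.ext (h.comm_z a ha)
  conj_mem := fun g hg a ha => h.conj_mem g (congrArg Subtype.val hg) a ha
  sq := fun a ha => by
    rcases h.sq a ha with e | e
    · exact Or.inl (Subtype.ext e)
    · exact Or.inr (Subtype.ext e)
  comm := fun a ha b hb => by
    rcases h.comm a ha b hb with e | e
    · exact Or.inl (Subtype.ext e)
    · exact Or.inr (Subtype.ext e)
  cent := fun a ha hc => by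
    rcases h.cent a ha (fun y hy => congrArg Subtype.val (hc ⟨y, hQ hy⟩ hy)) with e | e
    · exact Or.inl (Subtype.ext e)
    · exact Or.inr (Subtype.ext e)
  self := fun g hg hc => h.self g (congrArg Subtype.val hg)
    (fun y hy => congrArg Subtype.val (hc ⟨y, hQ hy⟩ hy))

theorem card_sub (h : Hyp Q z x) (hQ : Q ≤ N) : Nat.card (Q.subgroupOf N) = 32 := by
  rw [Nat.card_congr (Subgroup.subgroupOfEquivOfLe hQ).toEquiv, h.card]

/-- the intersection of all normal subgroups `≠ 1` -/
def mon (G : Type*) [Group G] : Subgroup G := sInf {K : Subgroup G | K.Normal ∧ K ≠ ⊥}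

theorem mon_le {K : Subgroup G} (hK : K.Normal) (hne : K ≠ ⊥) : mon G ≤ K := sInf_le ⟨hK, hne⟩

theorem mon_char : (mon G).Characteristic := by
  rw [Subgroup.characteristic_iff_le_comap]
  intro φ a ha
  show φ a ∈ mon G
  rw [mon, Subgroup.mem_sInf] at ha ⊢
  rintro K ⟨hK, hne⟩
  have h1 : (K.comap φ.toMonoidHom).Normal := hK.comap _
  have h2 : K.comap φ.toMonoidHom ≠ ⊥ := by
    intro e
    apply hne
    have h3 := Subgroup.map_comap_eq_self_of_surjective (f := φ.toMonoidHom) φ.surjective K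
    rw [e, Subgroup.map_bot] at h3
    exact h3.symm
  exact ha _ ⟨h1, h2⟩

theorem mon_normal : (mon G).Normal := by
  have := mon_char (G := G)
  infer_instance

section
variable [Finite G] (h : Hyp Q z x) (hN : (mon G).Normal)
include h

theorem z_mem_mon : z ∈ mon G := by
  rw [mon, Subgroup.mem_sInf]
  rintro K ⟨hK, hne⟩
  exact ESB.z_mem_of_normal h.large h.nwc hK hne

theorem mon_ne : mon G ≠ ⊥ := by
  intro e
  have := z_mem_mon h
  rw [e, Subgroup.mem_bot] at this
  exact h.large.z_ne this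

include hN

theorem simple (hQ : Q ≤ mon G) : IsSimpleGroup (mon G) := by
  have hL := large_sub h.large hQ
  have hcore : ∀ K : Subgroup (mon G), K.Normal → Odd (Nat.card K) → K = ⊥ := fun K h1 h2 =>
    ESB.core_normal h.large h.nwc hN h1 h2
  have hz : ∀ K : Subgroup (mon G), K.Normal → K ≠ ⊥ → (⟨z, hQ h.large.z_mem⟩ : mon G) ∈ K := fun K h1 h2 =>
    ESB.z_mem_of_core hL hcore h1 h2
  have hzm : (⟨z, hQ h.large.z_mem⟩ : mon G) ∈ mon (mon G) := by
    refine Subgroup.mem_sInf.2 ?_
    rintro K ⟨hK, hne⟩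
    exact hz K hK hne
  have hchar := mon_char (G := mon G)
  have h1 : ((mon (mon G)).map (mon G).subtype).Normal := inferInstance
  have h2 : (mon (mon G)).map (mon G).subtype ≠ ⊥ := by
    intro e
    have : z ∈ (mon (mon G)).map (mon G).subtype := ⟨_, hzm, rfl⟩
    rw [e, Subgroup.mem_bot] at this
    exact h.large.z_ne this
  have h3 : mon (mon G) = ⊤ := by
    have h4 := mon_le h1 h2
    rw [Subgroup.eq_top_iff']
    intro a
    obtain ⟨b, hb, hb'⟩ := h4 a.2
    have : b = a := Subtype.ext hb'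
    rw [← this]; exact hb
  have hnt : Nontrivial (mon G) := ⟨⟨⟨z, hQ h.large.z_mem⟩, 1, fun e => h.large.z_ne (congrArg Subtype.val e)⟩⟩
  refine ⟨fun K hK => ?_⟩
  by_cases hne : K = ⊥
  · exact Or.inl hne
  · right
    have := mon_le hK hne
    rw [h3] at this
    exact top_le_iff.1 this

omit hN [Finite G] in
theorem not_comm (hQ : Q ≤ N) : ¬ IsMulCommutative N := by
  intro hc
  have h1 : Q ≤ Subgroup.zpowers z := by
    intro q hq
    apply (mem_Z h.large).2
    apply h.large.cent q hq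
    intro y hy
    have := hc.1.1 ⟨q, hQ hq⟩ ⟨y, hQ hy⟩
    exact congrArg Subtype.val this
  have h2 := Subgroup.card_dvd_of_le h1
  rw [h.card, card_Z h.large] at h2
  norm_num at h2

theorem C_le (hQ : Q ≤ mon G) : Subgroup.centralizer ({z} : Set G) ≤ mon G := by
  have hsimp := simple h hN hQ
  obtain ⟨c, hc, hcQ, hccQ⟩ := W2.OddDead.exists_outer (not_comm h hQ) (large_sub h.large hQ) (card_sub h hQ)
  have hcC : (c : G) ∈ Subgroup.centralizer ({z} : Set G) := by
    rw [mem_C]
    exact congrArg Subtype.val (Subgroup.mem_centralizer_singleton_iff.1 hc)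
  set D := mon G ⊓ Subgroup.centralizer ({z} : Set G) with hD
  have hQD : Q ≤ D := le_inf hQ h.le_C
  have hcD : (c : G) ∈ D := Subgroup.mem_inf.2 ⟨c.2, hcC⟩
  have hnD : ∀ c ∈ Subgroup.centralizer ({z} : Set G), ∀ n ∈ D, c * n * c⁻¹ ∈ D := by
    intro c hc n hn
    obtain ⟨h1, h2⟩ := Subgroup.mem_inf.1 hn
    exact Subgroup.mem_inf.2 ⟨hN.conj_mem n h1 c,
      Subgroup.mul_mem _ (Subgroup.mul_mem _ hc h2) (Subgroup.inv_mem _ hc)⟩
  have hnQ : ¬ D ≤ Q := fun e => hcQ (e hcD)
  have hcard1 := card_mul_relIndex hQD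
  have hcard2 := card_mul_relIndex (inf_le_right : D ≤ Subgroup.centralizer ({z} : Set G))
  rw [h.card] at hcard1
  rw [h.cc, ← hcard1] at hcard2
  -- `3` divides
  have h3 : 3 ∣ Q.relIndex D := by
    by_contra hno
    apply hnQ
    apply h.two D inf_le_right hnD
    have h4 : Q.relIndex D * D.relIndex (Subgroup.centralizer ({z} : Set G)) = 6 := by
      have : 32 * (Q.relIndex D * D.relIndex (Subgroup.centralizer ({z} : Set G))) = 32 * 6 := by
        rw [← mul_assoc, hcard2]
      exact Nat.eq_of_mul_eq_mul_left (by norm_num) this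
    have h5 : Q.relIndex D ∣ 6 := Dvd.intro _ h4
    have h6 : Q.relIndex D = 1 ∨ Q.relIndex D = 2 := by
      have h7 : Q.relIndex D ≤ 6 := Nat.le_of_dvd (by norm_num) h5
      generalize Q.relIndex D = k at *
      interval_cases k <;> first | omega | (exfalso; revert h5; decide)
    rcases h6 with e | e
    · rw [e] at hcard1
      exact IsPGroup.of_card (n := 5) (by rw [← hcard1]; norm_num)
    · rw [e] at hcard1
      exact IsPGroup.of_card (n := 6) (by rw [← hcard1]; norm_num)
  have h4 : Q.relIndex D * D.relIndex (Subgroup.centralizer ({z} : Set G)) = 6 := by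
    have : 32 * (Q.relIndex D * D.relIndex (Subgroup.centralizer ({z} : Set G))) = 32 * 6 := by
      rw [← mul_assoc, hcard2]
    exact Nat.eq_of_mul_eq_mul_left (by norm_num) this
  have h5 : Q.relIndex D ≠ 3 := by
    intro e
    apply hcQ
    have hnorm : (Q.subgroupOf D).Normal := by
      constructor
      intro n hn g
      exact h.large.conj_mem g (mem_C.1 (Subgroup.mem_inf.1 g.2).2) n hn
    have h6 : (⟨c, hcD⟩ : D) ^ (Q.subgroupOf D).index ∈ Q.subgroupOf D := Subgroup.pow_index_mem _ _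
    have h7 : (c : G) ^ 3 ∈ Q := by
      have h8 : ((Q.subgroupOf D).index) = 3 := e
      rw [h8] at h6
      exact h6
    have hcc' : (c : G) * c ∈ Q := hccQ
    have h9 : (c : G) = (c : G) ^ 3 * ((c : G) * c)⁻¹ := by
      generalize (c : G) = w
      group
    show (c : G) ∈ Q
    rw [h9]
    exact Q.mul_mem h7 (Q.inv_mem hcc')
  have h6 : D.relIndex (Subgroup.centralizer ({z} : Set G)) = 1 := by
    obtain ⟨k, hk⟩ := h3
    rw [hk] at h4 h5
    generalize D.relIndex (Subgroup.centralizer ({z} : Set G)) = m at *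
    have : k * m = 2 := by
      have : 3 * (k * m) = 3 * 2 := by rw [← mul_assoc, h4]
      exact Nat.eq_of_mul_eq_mul_left (by norm_num) this
    have hk1 : k ≠ 1 := by rintro rfl; exact h5 rfl
    have hk2 : k ∣ 2 := Dvd.intro _ this
    rcases (Nat.dvd_prime Nat.prime_two).1 hk2 with e | e
    · exact absurd e hk1
    · rw [e] at this; omega
  rw [Subgroup.relIndex_eq_one] at h6
  exact h6.trans inf_le_left

theorem top (hQ : Q ≤ mon G) : mon G = ⊤ := by
  have : Fact (Nat.Prime 2) := ⟨Nat.prime_two⟩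
  have hC := C_le h hN hQ
  have hQ2 : IsPGroup 2 Q := IsPGroup.of_card (n := 5) (by rw [h.card]; norm_num)
  obtain ⟨T, hT⟩ := hQ2.exists_le_sylow
  have hTC := TwoCentral.le_centralizer_of_two h.large T.2 hT
  have h1 := Sylow.normalizer_sup_eq_top' (N := mon G) T (hTC.trans hC)
  have h2 : Subgroup.normalizer (T : Set G) ≤ Subgroup.centralizer ({z} : Set G) := by
    intro g hg
    rw [mem_C]
    have hzT : z ∈ (T : Subgroup G) := hT h.large.z_mem
    have h3 : g * z * g⁻¹ ∈ (T : Subgroup G) := (Subgroup.mem_normalizer_iff.1 hg z).1 hzT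
    have h4 : ∀ t ∈ (T : Subgroup G), t * (g * z * g⁻¹) = (g * z * g⁻¹) * t := by
      intro t ht
      have h5 : g⁻¹ * t * g ∈ (T : Subgroup G) := by
        have := (Subgroup.mem_normalizer_iff.1 (inv_mem hg) t).1 ht
        rwa [inv_inv] at this
      have h6 := mem_C.1 (hTC h5)
      calc t * (g * z * g⁻¹) = g * ((g⁻¹ * t * g) * z) * g⁻¹ := by group
        _ = g * (z * (g⁻¹ * t * g)) * g⁻¹ := by rw [h6]
        _ = (g * z * g⁻¹) * t := by group
    have h7 : g * z * g⁻¹ ∈ Q := h.large.self _ (mem_C.1 (hTC h3)) (fun y hy => (h4 y (hT hy)).symm)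
    rcases h.large.cent _ h7 (fun y hy => (h4 y (hT hy)).symm) with e | e
    · exfalso
      apply h.large.z_ne
      calc z = g⁻¹ * (g * z * g⁻¹) * g := by group
        _ = 1 := by rw [e]; group
    · rw [mul_inv_eq_iff_eq_mul] at e
      exact e
  rw [sup_eq_right.2 (h2.trans hC)] at h1
  exact h1

end

theorem main [Finite G] (h : Hyp Q z x) :
    (∃ (N : Subgroup G) (_ : N.Normal), IsMulCommutative N ∧ (∀ n ∈ N, n ^ 2 = 1) ∧ Nat.card N = 8 ∧
        Nonempty (G ⧸ N ≃* Matrix.ProjectiveSpecialLinearGroup (Fin 3) (ZMod 2))) ∨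
    (IsSimpleGroup G ∧ ¬ IsMulCommutative G) := by
  by_cases hQ : Q ≤ mon G
  · right
    have hN := mon_normal (G := G)
    have h1 := top h hN hQ
    have h2 := simple h hN hQ
    have h3 := not_comm h hQ
    rw [h1] at h2 h3
    have e : G ≃* (⊤ : Subgroup G) := Subgroup.topEquiv.symm
    refine ⟨e.isSimpleGroup, ?_⟩
    intro hc
    apply h3
    exact ⟨⟨fun a b => Subtype.ext (hc.1.1 a b)⟩⟩
  · left
    exact ESD.first h mon_normal (z_mem_mon h) hQ

end Cfsg.Agent.H345.ESE
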