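import Mathlib

/-!
# S3345, part A: modules of `S₃ × S₃ × S₃` in characteristic two on which every factor `3` acts fixed point freely
-/

set_option autoImplicit false

namespace Cfsg.Agent.H345.OPA

variable {V : Type*} [AddCommGroup V] [Module (ZMod 2) V]

/-- `⟨r i, s i⟩ ≅ S₃`, `i = 0, 1, 2`, commuting -/
structure Tri3 (r s : Fin 3 → (V ≃ₗ[ZMod 2] V)) : Prop where
  r3 : ∀ i, r i * r i * r i = 1
  rr : ∀ i j, r i * r j = r j * r i
  s2 : ∀ i, s i * s i = 1
  sr : ∀ i j, i ≠ j → s i * r j = r j * s i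
  srs : ∀ i, r i * s i = s i * (r i * r i)

theorem add_self' (v : V) : v + v = 0 := by
  have : (2 : ZMod 2) • v = v + v := two_smul _ v
  rw [← this, show (2 : ZMod 2) = 0 from rfl, zero_smul]

theorem eq_of_add {v w : V} (h : v + w = 0) : v = w := by
  have h1 : v = -w := eq_neg_of_add_eq_zero_left h
  have h2 : -w = w := (eq_neg_of_add_eq_zero_left (add_self' w)).symm
  rw [h1, h2]

variable {r s : Fin 3 → (V ≃ₗ[ZMod 2] V)}

namespace Tri3

variable (T : Tri3 r s)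
include T

theorem r3' (i : Fin 3) (v : V) : r i (r i (r i v)) = v := by
  have := congrArg (fun f : V ≃ₗ[ZMod 2] V => f v) (T.r3 i)
  exact this

theorem rr' (i j : Fin 3) (v : V) : r i (r j v) = r j (r i v) :=
  congrArg (fun f : V ≃ₗ[ZMod 2] V => f v) (T.rr i j)

theorem s2' (i : Fin 3) (v : V) : s i (s i v) = v :=
  congrArg (fun f : V ≃ₗ[ZMod 2] V => f v) (T.s2 i)

theorem sr' {i j : Fin 3} (h : i ≠ j) (v : V) : s i (r j v) = r j (s i v) :=
  congrArg (fun f : V ≃ₗ[ZMod 2] V => f v) (T.sr i j h)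

theorem srs' (i : Fin 3) (v : V) : r i (s i v) = s i (r i (r i v)) :=
  congrArg (fun f : V ≃ₗ[ZMod 2] V => f v) (T.srs i)

/-- the common eigenspace -/
def S (_T : Tri3 r s) (R : Submodule (ZMod 2) V) : Submodule (ZMod 2) V where
  carrier := {v | v ∈ R ∧ r 1 v = r 0 v ∧ r 2 v = r 0 v}
  zero_mem' := ⟨R.zero_mem, by simp, by simp⟩
  add_mem' := by
    rintro v w ⟨h1, h2, h3⟩ ⟨h4, h5, h6⟩
    exact ⟨R.add_mem h1 h4, by rw [map_add, map_add, h2, h5], by rw [map_add, map_add, h3, h6]⟩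
  smul_mem' := by
    rintro c v ⟨h1, h2, h3⟩
    exact ⟨R.smul_mem c h1, by rw [map_smul, map_smul, h2], by rw [map_smul, map_smul, h3]⟩

theorem card_ge [Finite V] {R : Submodule (ZMod 2) V} (hr : ∀ i, ∀ v ∈ R, r i v ∈ R)
    (hs : ∀ i, ∀ v ∈ R, s i v ∈ R) (hfix : ∀ i, ∀ v ∈ R, r i v = v → v = 0) (hne : R ≠ ⊥) :
    256 ≤ Nat.card R := by
  have hsum : ∀ i, ∀ v ∈ R, v + r i v + r i (r i v) = 0 := by
    intro i v hv
    apply hfix i _ (R.add_mem (R.add_mem hv (hr i v hv)) (hr i _ (hr i v hv)))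
    rw [map_add, map_add, T.r3']
    abel
  -- `r i v = r j (r j v)` and `r i v = r j v` imply `v = 0`
  have hz : ∀ i, ∀ v ∈ R, r i v = r i (r i v) → v = 0 := by
    intro i v hv e
    apply hfix i v hv
    have h1 := congrArg (r i) e
    rw [T.r3'] at h1
    -- `r (r v) = v`
    have h2 := congrArg (r i) h1
    rw [T.r3'] at h2
    exact h2.symm
  -- a nonzero vector of `S`
  obtain ⟨v, hv, hv0⟩ := (Submodule.ne_bot_iff _).1 hne
  have h1 : ∃ w ∈ R, w ≠ 0 ∧ r 1 w = r 0 w := by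
    by_cases h : r 1 v + r 0 (r 0 v) = 0
    · refine ⟨s 1 v, hs 1 v hv, fun e => hv0 ?_, ?_⟩
      · have := congrArg (s 1) e
        rwa [T.s2', map_zero] at this
      · have h2 : r 1 v = r 0 (r 0 v) := eq_of_add h
        rw [T.srs', h2, T.rr' 1 0, T.rr' 1 0, h2, T.r3', T.sr' (by decide)]
    · refine ⟨_, R.add_mem (hr 1 v hv) (hr 0 _ (hr 0 v hv)), h, ?_⟩
      have e1 := hsum 1 v hv
      have e0 := hsum 0 v hv
      rw [map_add, map_add, T.rr' 1 0, T.rr' 1 0 v, T.r3']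
      apply eq_of_add
      have e3 : r 1 (r 1 v) = v + r 1 v := by
        apply Eq.symm
        exact eq_of_add e1
      have e4 : r 0 (r 0 v) = v + r 0 v := (eq_of_add e0).symm
      rw [e3, T.rr' 0 1, T.rr' 0 1, e4, map_add, T.rr' 1 0]
      have a1 := add_self' v
      have a2 := add_self' (r 1 v)
      have a3 := add_self' (r 0 (r 1 v))
      calc v + r 1 v + (r 1 v + r 0 (r 1 v)) + (r 0 (r 1 v) + v) =
          (v + v) + (r 1 v + r 1 v) + (r 0 (r 1 v) + r 0 (r 1 v)) := by abel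
        _ = 0 := by rw [a1, a2, a3]; simp
  obtain ⟨w, hw, hw0, hw1⟩ := h1
  have h2 : ∃ u ∈ R, u ≠ 0 ∧ r 1 u = r 0 u ∧ r 2 u = r 0 u := by
    by_cases h : r 2 w + r 0 (r 0 w) = 0
    · refine ⟨s 2 w, hs 2 w hw, fun e => hw0 ?_, ?_, ?_⟩
      · have := congrArg (s 2) e
        rwa [T.s2', map_zero] at this
      · rw [← T.sr' (by decide), ← T.sr' (by decide), hw1]
      · have h2 : r 2 w = r 0 (r 0 w) := eq_of_add h
        rw [T.srs', h2, T.rr' 2 0, T.rr' 2 0, h2, T.r3', T.sr' (by decide)]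
    · refine ⟨_, R.add_mem (hr 2 w hw) (hr 0 _ (hr 0 w hw)), h, ?_, ?_⟩
      · rw [map_add, map_add, T.rr' 1 2, T.rr' 1 0, T.rr' 1 0 w, hw1, T.rr' 2 0]
      · have e1 := hsum 2 w hw
        have e0 := hsum 0 w hw
        rw [map_add, map_add, T.rr' 2 0, T.rr' 2 0 w, T.r3']
        apply eq_of_add
        have e3 : r 2 (r 2 w) = w + r 2 w := (eq_of_add e1).symm
        have e4 : r 0 (r 0 w) = w + r 0 w := (eq_of_add e0).symm
        rw [e3, T.rr' 0 2, T.rr' 0 2, e4, map_add, T.rr' 2 0]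
        have a1 := add_self' w
        have a2 := add_self' (r 2 w)
        have a3 := add_self' (r 0 (r 2 w))
        calc w + r 2 w + (r 2 w + r 0 (r 2 w)) + (r 0 (r 2 w) + w) =
            (w + w) + (r 2 w + r 2 w) + (r 0 (r 2 w) + r 0 (r 2 w)) := by abel
          _ = 0 := by rw [a1, a2, a3]; simp
  obtain ⟨u, hu, hu0, hu1, hu2⟩ := h2
  -- four elements of `S`
  have hS4 : 4 ≤ Nat.card (T.S R) := by
    have hu3 : r 0 u ≠ 0 := fun e => hu0 ((r 0).map_eq_zero_iff.1 e)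
    have hu4 : r 0 (r 0 u) ≠ 0 := fun e => hu3 ((r 0).map_eq_zero_iff.1 e)
    have hu5 : r 0 u ≠ u := fun e => hu0 (hfix 0 u hu e)
    have hu6 : r 0 (r 0 u) ≠ r 0 u := fun e => hu3 (hfix 0 _ (hr 0 u hu) e)
    have hu7 : r 0 (r 0 u) ≠ u := by
      intro e
      apply hu5
      have := congrArg (r 0) e
      rw [T.r3'] at this
      exact this.symm
    have m1 : r 0 u ∈ T.S R := ⟨hr 0 u hu, by rw [T.rr' 1 0, hu1], by rw [T.rr' 2 0, hu2]⟩
    have m2 : r 0 (r 0 u) ∈ T.S R := ⟨hr 0 _ (hr 0 u hu), by rw [T.rr' 1 0, T.rr' 1 0, hu1],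
      by rw [T.rr' 2 0, T.rr' 2 0, hu2]⟩
    let g : Fin 4 → T.S R := ![0, ⟨u, hu, hu1, hu2⟩, ⟨r 0 u, m1⟩, ⟨r 0 (r 0 u), m2⟩]
    have hg : Function.Injective g := by
      intro i j hij
      have hij' : ((g i : T.S R) : V) = g j := congrArg Subtype.val hij
      fin_cases i <;> fin_cases j <;> simp [g] at hij' ⊢
      all_goals first
        | exact hu0 hij'
        | exact hu0 hij'.symm
        | exact hu3 hij'
        | exact hu3 hij'.symm
        | exact hu4 hij'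
        | exact hu4 hij'.symm
        | exact hu5 hij'
        | exact hu5 hij'.symm
        | exact hu6 hij'
        | exact hu6 hij'.symm
        | exact hu7 hij'
        | exact hu7 hij'.symm
    simpa using Nat.card_le_card_of_injective g hg
  -- the injection `S⁴ → R`
  let f : (T.S R × T.S R) × (T.S R × T.S R) → R := fun p =>
    ⟨p.1.1 + s 1 p.1.2 + (s 2 p.2.1 + s 1 (s 2 p.2.2)), by
      refine R.add_mem (R.add_mem p.1.1.2.1 (hs 1 _ p.1.2.2.1)) (R.add_mem (hs 2 _ p.2.1.2.1)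
        (hs 1 _ (hs 2 _ p.2.2.2.1)))⟩
  have hf : Function.Injective f := by
    -- additivity
    have key : ∀ a b c d : V, a ∈ T.S R → b ∈ T.S R → c ∈ T.S R → d ∈ T.S R →
        a + s 1 b + (s 2 c + s 1 (s 2 d)) = 0 → a = 0 ∧ b = 0 ∧ c = 0 ∧ d = 0 := by
      rintro a b c d ⟨a0, a1, a2⟩ ⟨b0, b1, b2⟩ ⟨c0, c1, c2⟩ ⟨d0, d1, d2⟩ h
      have hR1 : a + s 2 c ∈ R := R.add_mem a0 (hs 2 c c0)
      have hR2 : b + s 2 d ∈ R := R.add_mem b0 (hs 2 d d0)
      have k1 : r 1 (a + s 2 c) = r 0 (a + s 2 c) := by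
        rw [map_add, map_add, a1, ← T.sr' (by decide), ← T.sr' (by decide), c1]
      have k2 : r 1 (b + s 2 d) = r 0 (b + s 2 d) := by
        rw [map_add, map_add, b1, ← T.sr' (by decide), ← T.sr' (by decide), d1]
      have k3 : r 1 (s 1 (b + s 2 d)) = r 0 (r 0 (s 1 (b + s 2 d))) := by
        rw [T.srs', k2, T.rr' 1 0, k2, T.sr' (by decide), T.sr' (by decide)]
      have k4 : a + s 2 c = s 1 (b + s 2 d) := by
        apply eq_of_add
        rw [map_add, ← h]
        abel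
      have k5 : a + s 2 c = 0 := by
        apply hz 0 _ hR1
        rw [← k4, k1] at k3
        exact k3
      have k6 : b + s 2 d = 0 := by
        rw [k5] at k4
        have := congrArg (s 1) k4
        rw [T.s2', map_zero] at this
        exact this.symm
      have k7 : ∀ a c : V, a ∈ R → c ∈ R → r 2 a = r 0 a → r 2 c = r 0 c → a + s 2 c = 0 → a = 0 ∧ c = 0 := by
        intro a c a0 c0 a2 c2 e
        have e1 : a = s 2 c := eq_of_add e
        have e2 : r 2 (s 2 c) = r 0 (r 0 (s 2 c)) := by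
          rw [T.srs', c2, T.rr' 2 0, c2, T.sr' (by decide), T.sr' (by decide)]
        have e3 : a = 0 := by
          apply hz 0 _ a0
          rw [← e1, a2] at e2
          exact e2
        refine ⟨e3, ?_⟩
        rw [e3] at e1
        have := congrArg (s 2) e1
        rw [T.s2', map_zero] at this
        exact this.symm
      obtain ⟨h5, h6⟩ := k7 a c a0 c0 a2 c2 k5
      obtain ⟨h7, h8⟩ := k7 b d b0 d0 b2 d2 k6
      exact ⟨h5, h7, h6, h8⟩
    rintro ⟨⟨a, b⟩, ⟨c, d⟩⟩ ⟨⟨a', b'⟩, ⟨c', d'⟩⟩ h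
    have h' : (a : V) + s 1 b + (s 2 c + s 1 (s 2 d)) = a' + s 1 b' + (s 2 c' + s 1 (s 2 d')) :=
      congrArg Subtype.val h
    have h'' := key (a - a') (b - b') (c - c') (d - d') ((T.S R).sub_mem a.2 a'.2)
      ((T.S R).sub_mem b.2 b'.2) ((T.S R).sub_mem c.2 c'.2) ((T.S R).sub_mem d.2 d'.2) (by
        rw [map_sub, map_sub, map_sub, map_sub]
        have : (a : V) - a' + (s 1 b - s 1 b') + (s 2 c - s 2 c' + (s 1 (s 2 d) - s 1 (s 2 d'))) =
          (a + s 1 b + (s 2 c + s 1 (s 2 d))) - (a' + s 1 b' + (s 2 c' + s 1 (s 2 d'))) := by abel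
        rw [this, h', sub_self])
    obtain ⟨h1, h2, h3, h4⟩ := h''
    rw [sub_eq_zero] at h1 h2 h3 h4
    rw [Subtype.ext h1, Subtype.ext h2, Subtype.ext h3, Subtype.ext h4]
  have h5 := Nat.card_le_card_of_injective f hf
  rw [Nat.card_prod, Nat.card_prod] at h5
  have h6 : 4 * 4 ≤ Nat.card (T.S R) * Nat.card (T.S R) := Nat.mul_le_mul hS4 hS4
  have h7 : (4 * 4) * (4 * 4) ≤ (Nat.card (T.S R) * Nat.card (T.S R)) * (Nat.card (T.S R) * Nat.card (T.S R)) :=
    Nat.mul_le_mul h6 h6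
  omega

end Tri3

end Cfsg.Agent.H345.OPA
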