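import Cfsg.Agent.H345.OPA
import Cfsg.Agent.LargeExtra.Tri.CaseTwo

/-!
# S3345, part B: `C / Q ≅ S₃ × S₃ × S₃` acts irreducibly on `Q / ⟨z⟩`
-/

set_option autoImplicit false

namespace Cfsg.Agent.H345.OPB

open Cfsg.Agent.Co2Type.Quad Cfsg.Agent.LargeExtra Cfsg.Agent.LargeExtra.Base
open Cfsg.Agent.LargeExtra.SiegFam.Inst Cfsg.Agent.H345.OPA

variable {G : Type*} [Group G] {Q A : Subgroup G} {z a : G}

theorem b_H (p : Pair Q z A a) {f : p.lz.V ≃ₗ[ZMod 2] p.lz.V} (hf : f ∈ p.H) (v w : p.lz.V) :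
    p.lz.b (f v) (f w) = p.lz.b v w := by
  obtain ⟨c, rfl⟩ := hf
  exact p.lz.b_act c v w

theorem zmod2 (c : ZMod 2) : c = 0 ∨ c = 1 := by
  revert c; decide

/-- the projection onto the fixed points of `r` -/
def P {V : Type*} [AddCommGroup V] [Module (ZMod 2) V] (r : V ≃ₗ[ZMod 2] V) : V →ₗ[ZMod 2] V :=
  LinearMap.id + r.toLinearMap + (r * r).toLinearMap

theorem P_apply {V : Type*} [AddCommGroup V] [Module (ZMod 2) V] (r : V ≃ₗ[ZMod 2] V) (v : V) :
    P r v = v + r v + r (r v) := rfl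

/-- separating functional -/
theorem exists_phi (h : Large Q z) {u d : h.V} (h0 : d ≠ 0) (h1 : d ≠ u) :
    ∃ φ : h.V →ₗ[ZMod 2] ZMod 2, φ u = 0 ∧ φ d = 1 := by
  by_contra hno
  push Not at hno
  rcases TwoCentral.eq_of_perp h (a := u) (d := d) (fun v hv => by
    have h2 := hno (h.b v) (by rw [h.b_comm]; exact hv)
    rw [h.b_comm]
    rcases zmod2 (h.b v d) with e | e
    · exact e
    · exact absurd e h2) with e | e
  · exact h0 e
  · exact h1 e

section
variable [Finite G] (p : Pair Q z A a) (hV : Nat.card p.lz.V = 256) (hD : Nat.card p.D = 16)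
include hV hD

theorem D_perp {v : p.lz.V} (hv : ∀ d ∈ p.D, p.lz.b d v = 0) : v ∈ p.D := by
  have h1 := Perp.card_perp p.lz p.D
  rw [hV, hD] at h1
  have h2 : Nat.card (p.lz.b.orthogonal p.D) = 16 := by omega
  have h3 : p.D ≤ p.lz.b.orthogonal p.D := by
    intro d hd
    rw [Perp.mem_perp]
    intro w hw
    exact p.b_D hw hd
  have h4 : v ∈ p.lz.b.orthogonal p.D := (Perp.mem_perp p.lz p.D).2 hv
  have h5 : (p.D : Set p.lz.V) = (p.lz.b.orthogonal p.D : Set p.lz.V) := by
    apply Set.eq_of_subset_of_ncard_le h3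
    · rw [← Nat.card_coe_set_eq, ← Nat.card_coe_set_eq]
      exact le_of_eq (h2.trans hD.symm)
  have h6 : v ∈ (p.lz.b.orthogonal p.D : Set p.lz.V) := h4
  rw [← h5] at h6
  exact h6

end

section
variable [Finite G] (p : Pair Q z A a)

/-- an `X`-invariant subspace meeting `D` contains `va` -/
theorem va_mem_of {U : Submodule (ZMod 2) p.lz.V} (hU : ∀ f ∈ p.X, ∀ v ∈ U, f v ∈ U) {d : p.lz.V}
    (hd : d ∈ p.D) (hdU : d ∈ U) (h0 : d ≠ 0) : p.va ∈ U := by
  by_cases h1 : d = p.va
  · rw [← h1]; exact hdU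
  obtain ⟨φ, e1, e2⟩ := exists_phi p.lz h0 h1
  obtain ⟨f, hf, hfd⟩ := p.exists_X φ e1
  have h2 := hfd d hd
  rw [e2, one_smul] at h2
  have h3 := U.sub_mem (hU f hf d hdU) hdU
  rwa [h2, add_sub_cancel_left] at h3

variable (hV : Nat.card p.lz.V = 256) (hD : Nat.card p.D = 16)

include hV hD in
/-- the main step: `V = W ⊥ W'`, `W = ker P`, `W' = range P` -/
theorem dich {r : p.lz.V ≃ₗ[ZMod 2] p.lz.V} (hr : r ∈ p.H) (r3 : r * r * r = 1)
    (hn : ∀ f ∈ p.X, f * r * f⁻¹ = r ∨ f * r * f⁻¹ = r * r) :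
    (P r p.va = 0 ∧ ∀ f ∈ p.X, ∀ w, r w = w → f w = w) ∨
    (r p.va = p.va ∧ ∀ f ∈ p.X, ∀ w, P r w = 0 → f w = w) := by
  have r3' : ∀ v, r (r (r v)) = v := fun v =>
    congrArg (fun f : p.lz.V ≃ₗ[ZMod 2] p.lz.V => f v) r3
  have hPr : ∀ v, r (P r v) = P r v := by
    intro v
    rw [P_apply, map_add, map_add, r3']
    abel
  have hPfix : ∀ v, r v = v → P r v = v := by
    intro v hv
    rw [P_apply, hv, hv, add_self', zero_add]
  have hPP : ∀ v, P r (P r v) = P r v := fun v => hPfix _ (hPr v)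
  -- orthogonality
  have hperp : ∀ w w', P r w = 0 → r w' = w' → p.lz.b w w' = 0 := by
    intro w w' hw hw'
    have h1 : p.lz.b (r w) w' = p.lz.b w w' := by
      conv_lhs => rw [← hw']
      exact b_H p hr w w'
    have h2 : p.lz.b (r (r w)) w' = p.lz.b w w' := by
      conv_lhs => rw [← hw']
      rw [b_H p hr]
      exact h1
    have h3 : p.lz.b (P r w) w' = 0 := by rw [hw, map_zero, LinearMap.zero_apply]
    rw [P_apply, map_add, map_add, LinearMap.add_apply, LinearMap.add_apply, h1, h2] at h3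
    rcases zmod2 (p.lz.b w w') with e | e
    · exact e
    · rw [e] at h3; exact absurd h3 (by decide)
  -- `X` commutes with `P`
  have hfP : ∀ f ∈ p.X, ∀ v, f (P r v) = P r (f v) := by
    intro f hf v
    have h1 : ∀ w, f (r w) = r (f w) ∨ f (r w) = r (r (f w)) := by
      intro w
      rcases hn f hf with e | e
      · left
        have := congrArg (fun g : p.lz.V ≃ₗ[ZMod 2] p.lz.V => g (f w)) e
        have h2 : f (r (f⁻¹ (f w))) = r (f w) := this
        rwa [show f⁻¹ (f w) = w from f.symm_apply_apply w] at h2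
      · right
        have := congrArg (fun g : p.lz.V ≃ₗ[ZMod 2] p.lz.V => g (f w)) e
        have h2 : f (r (f⁻¹ (f w))) = r (r (f w)) := this
        rwa [show f⁻¹ (f w) = w from f.symm_apply_apply w] at h2
    have h2 : (∀ w, f (r w) = r (f w)) ∨ (∀ w, f (r w) = r (r (f w))) := by
      rcases hn f hf with e | e
      · left
        intro w
        have := congrArg (fun g : p.lz.V ≃ₗ[ZMod 2] p.lz.V => g (f w)) e
        have h2 : f (r (f⁻¹ (f w))) = r (f w) := this
        rwa [show f⁻¹ (f w) = w from f.symm_apply_apply w] at h2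
      · right
        intro w
        have := congrArg (fun g : p.lz.V ≃ₗ[ZMod 2] p.lz.V => g (f w)) e
        have h2 : f (r (f⁻¹ (f w))) = r (r (f w)) := this
        rwa [show f⁻¹ (f w) = w from f.symm_apply_apply w] at h2
    rw [P_apply, P_apply, map_add, map_add]
    rcases h2 with h2 | h2
    · rw [h2, h2, h2]
    · rw [h2, h2, h2, r3']
      abel
  -- the subspaces
  let W : Submodule (ZMod 2) p.lz.V := LinearMap.ker (P r)
  let W' : Submodule (ZMod 2) p.lz.V := LinearMap.ker (r.toLinearMap - LinearMap.id)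
  have mW : ∀ v, v ∈ W ↔ P r v = 0 := fun v => LinearMap.mem_ker
  have mW' : ∀ v, v ∈ W' ↔ r v = v := by
    intro v
    show v ∈ LinearMap.ker (r.toLinearMap - LinearMap.id) ↔ _
    rw [LinearMap.mem_ker, LinearMap.sub_apply, LinearMap.id_apply, sub_eq_zero]
    exact Iff.rfl
  have hXW : ∀ f ∈ p.X, ∀ v ∈ W, f v ∈ W := by
    intro f hf v hv
    rw [mW] at hv ⊢
    rw [← hfP f hf, hv, map_zero]
  have hXW' : ∀ f ∈ p.X, ∀ v ∈ W', f v ∈ W' := by
    intro f hf v hv
    rw [mW'] at hv ⊢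
    have h1 := hfP f hf v
    rw [hPfix v hv] at h1
    rw [h1]
    exact hPr _
  by_cases h1 : p.va ∈ W
  · left
    refine ⟨(mW _).1 h1, fun f hf w hw => ?_⟩
    -- `f w + w ∈ D ∩ W'`
    have h2 : p.lz.b p.va w = 0 := hperp _ _ ((mW _).1 h1) hw
    have h3 := p.X_perp hf h2
    have h4 : f w + w ∈ W' := W'.add_mem (hXW' f hf w ((mW' w).2 hw)) ((mW' w).2 hw)
    by_contra hne
    have h5 : f w + w ≠ 0 := fun e => hne (eq_of_add e)
    have h6 := va_mem_of p hXW' h3 h4 h5
    -- `va ∈ W ∩ W'`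
    have h7 := hPfix _ ((mW' _).1 h6)
    rw [(mW _).1 h1] at h7
    exact p.va_ne h7.symm
  by_cases h2 : p.va ∈ W'
  · right
    refine ⟨(mW' _).1 h2, fun f hf w hw => ?_⟩
    have h3 : p.lz.b p.va w = 0 := by
      rw [p.lz.b_comm]; exact hperp _ _ hw ((mW' _).1 h2)
    have h4 := p.X_perp hf h3
    have h5 : f w + w ∈ W := W.add_mem (hXW f hf w ((mW w).2 hw)) ((mW w).2 hw)
    by_contra hne
    have h6 : f w + w ≠ 0 := fun e => hne (eq_of_add e)
    exact h1 (va_mem_of p hXW h4 h5 h6)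
  exfalso
  -- `π v = v + P v`
  have hπ : ∀ v, P r (v + P r v) = 0 := by
    intro v
    rw [map_add, hPP, add_self']
  have hbπ : ∀ v w, p.lz.b (v + P r v) w = p.lz.b (v + P r v) (w + P r w) := by
    intro v w
    rw [(p.lz.b (v + P r v)).map_add w (P r w), hperp _ _ (hπ v) (hPr w), add_zero]
  have hbπ2 : ∀ v w, p.lz.b (v + P r v) (P r w) = 0 := fun v w => hperp _ _ (hπ v) (hPr w)
  have h3 : p.va + P r p.va ∉ p.D := by
    intro hd
    have h4 : p.va + P r p.va ∈ W := (mW _).2 (hπ _)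
    have h5 : p.va + P r p.va ≠ 0 := by
      intro e
      apply h2
      rw [mW']
      have := eq_of_add e
      rw [this]
      exact hPr _
    exact h1 (va_mem_of p hXW hd h4 h5)
  obtain ⟨d2, hd2, hd2'⟩ : ∃ d ∈ p.D, p.lz.b d (p.va + P r p.va) = 1 := by
    by_contra hno
    push Not at hno
    apply h3
    apply D_perp p hV hD
    intro d hd
    rcases zmod2 (p.lz.b d (p.va + P r p.va)) with e | e
    · exact e
    · exact absurd e (hno d hd)
  rw [p.lz.b_comm] at hd2'
  -- `d1`
  obtain ⟨d1, hd1, hd10, hd1a, hd1'⟩ : ∃ d ∈ p.D, d ≠ 0 ∧ d ≠ p.va ∧ p.lz.b (p.va + P r p.va) d = 0 := by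
    by_contra hno
    push Not at hno
    have h4 : ∀ d ∈ p.D, d = 0 ∨ d = p.va ∨ d = d2 ∨ d = p.va + d2 := by
      intro d hd
      rcases zmod2 (p.lz.b (p.va + P r p.va) d) with e | e
      · by_cases e0 : d = 0
        · exact Or.inl e0
        · by_cases e1 : d = p.va
          · exact Or.inr (Or.inl e1)
          · exact absurd e (hno d hd e0 e1)
      · have h5 : p.lz.b (p.va + P r p.va) (d + d2) = 0 := by
          rw [map_add, e, hd2']; decide
        by_cases e0 : d + d2 = 0
        · exact Or.inr (Or.inr (Or.inl (eq_of_add e0)))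
        · by_cases e1 : d + d2 = p.va
          · right; right; right
            rw [← e1, add_assoc, add_self', add_zero]
          · exact absurd h5 (hno _ (p.D.add_mem hd hd2) e0 e1)
    classical
    have h5 : Nat.card p.D ≤ 4 := by
      let g : Fin 4 → p.D := ![0, ⟨p.va, p.va_mem_D⟩, ⟨d2, hd2⟩, ⟨p.va + d2, p.D.add_mem p.va_mem_D hd2⟩]
      have hg : Function.Surjective g := by
        rintro ⟨d, hd⟩
        rcases h4 d hd with e | e | e | e
        · exact ⟨0, Subtype.ext e.symm⟩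
        · exact ⟨1, Subtype.ext e.symm⟩
        · exact ⟨2, Subtype.ext e.symm⟩
        · exact ⟨3, Subtype.ext e.symm⟩
      simpa using Nat.card_le_card_of_surjective g hg
    omega
  -- the functional
  obtain ⟨φ0, e1, e2⟩ := exists_phi p.lz hd10 hd1a
  obtain ⟨φ, f1, f2, f3⟩ : ∃ φ : p.lz.V →ₗ[ZMod 2] ZMod 2, φ p.va = 0 ∧ φ d1 = 1 ∧ φ d2 = 0 := by
    rcases zmod2 (φ0 d2) with e | e
    · exact ⟨φ0, e1, e2, e⟩
    · refine ⟨φ0 + p.lz.b (p.va + P r p.va), ?_, ?_, ?_⟩
      · rw [LinearMap.add_apply, e1, hbπ, p.lz.b_self, add_zero]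
      · rw [LinearMap.add_apply, e2, hd1', add_zero]
      · rw [LinearMap.add_apply, e, hd2']; decide
  obtain ⟨f, hf, hfD⟩ := p.exists_X φ f1
  have g1 := hfD d1 hd1
  have g2 := hfD d2 hd2
  rw [f2, one_smul] at g1
  rw [f3, zero_smul, add_zero] at g2
  have g3 : p.lz.b (f (d1 + P r d1)) (f (d2 + P r d2)) = p.lz.b (d1 + P r d1) (d2 + P r d2) :=
    b_H p (p.X_le_H hf) _ _
  rw [map_add f, map_add f, hfP f hf, hfP f hf, g1, g2] at g3
  have g4 : d1 + p.va + P r (d1 + p.va) = (d1 + P r d1) + (p.va + P r p.va) := by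
    rw [map_add]; abel
  rw [g4, Tri.Basic.b_add_left, ← hbπ p.va d2, hd2'] at g3
  have g5 : (1 : ZMod 2) = 0 := by
    have := congrArg (fun t => t - p.lz.b (d1 + P r d1) (d2 + P r d2)) g3
    simp at this
  exact absurd g5 (by decide)

end

/-- `Irr p` for `C / Q ≅ S₃ × S₃ × S₃` -/
theorem irr_of [Finite G] (p : Pair Q z A a) (hV : Nat.card p.lz.V = 256) (hD : Nat.card p.D = 16)
    {r s : Fin 3 → (p.lz.V ≃ₗ[ZMod 2] p.lz.V)} (T : Tri3 r s) (hr : ∀ i, r i ∈ p.H) (hs : ∀ i, s i ∈ p.H)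
    (hne : ∀ i, r i ≠ 1) (hn : ∀ f ∈ p.H, ∀ i, f * r i * f⁻¹ = r i ∨ f * r i * f⁻¹ = r i * r i)
    (hconj : ∀ i, ∃ g ∈ p.H, g * s i * g⁻¹ ∈ p.X) : Irr p := by
  have hfinV : Finite p.lz.V := Nat.finite_of_card_ne_zero (by omega)
  have hfP : ∀ i, ∀ f ∈ p.H, ∀ v, f (P (r i) v) = P (r i) (f v) := by
    intro i f hf v
    have h2 : (∀ w, f (r i w) = r i (f w)) ∨ (∀ w, f (r i w) = r i (r i (f w))) := by
      rcases hn f hf i with e | e
      · left
        intro w
        have := congrArg (fun g : p.lz.V ≃ₗ[ZMod 2] p.lz.V => g (f w)) e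
        have h2 : f (r i (f⁻¹ (f w))) = r i (f w) := this
        rwa [show f⁻¹ (f w) = w from f.symm_apply_apply w] at h2
      · right
        intro w
        have := congrArg (fun g : p.lz.V ≃ₗ[ZMod 2] p.lz.V => g (f w)) e
        have h2 : f (r i (f⁻¹ (f w))) = r i (r i (f w)) := this
        rwa [show f⁻¹ (f w) = w from f.symm_apply_apply w] at h2
    rw [P_apply, P_apply, map_add, map_add]
    rcases h2 with h2 | h2
    · rw [h2, h2, h2]
    · rw [h2, h2, h2, T.r3']
      abel
  have hPr : ∀ i v, r i (P (r i) v) = P (r i) v := by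
    intro i v
    rw [P_apply, map_add, map_add, T.r3']
    abel
  have hPfix : ∀ i v, r i v = v → P (r i) v = v := by
    intro i v hv
    rw [P_apply, hv, hv, add_self', zero_add]
  -- `s j` acts trivially on an invariant subspace on which `X` acts trivially
  have hsU : ∀ U : Submodule (ZMod 2) p.lz.V, (∀ f ∈ p.H, ∀ v ∈ U, f v ∈ U) →
      (∀ f ∈ p.X, ∀ v ∈ U, f v = v) → ∀ j, ∀ v ∈ U, r j v = v := by
    intro U hU hX j v hv
    have h1 : ∀ w ∈ U, s j w = w := by
      intro w hw
      obtain ⟨g, hg, hgs⟩ := hconj j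
      have h2 := hX _ hgs (g w) (hU g hg w hw)
      have h3 : g (s j (g⁻¹ (g w))) = g w := h2
      rw [show g⁻¹ (g w) = w from g.symm_apply_apply w] at h3
      exact g.injective h3
    have h2 := T.srs' j v
    rw [h1 v hv, h1 _ (hU _ (hr j) _ (hU _ (hr j) v hv))] at h2
    have h3 := congrArg (r j) h2
    rw [T.r3'] at h3
    have h4 := congrArg (r j) h3
    rw [T.r3'] at h4
    exact h4.symm
  have hd := fun i => dich p hV hD (hr i) (T.r3 i) (fun f hf => hn f (p.X_le_H hf) i)
  -- second alternative impossible, first gives trivial action on the fixed points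
  have h1 : ∀ i, P (r i) p.va = 0 ∧ ∀ j, ∀ w, r i w = w → r j w = w := by
    intro i
    rcases hd i with ⟨e1, e2⟩ | ⟨e1, e2⟩
    · refine ⟨e1, fun j w hw => ?_⟩
      let U : Submodule (ZMod 2) p.lz.V := LinearMap.ker ((r i).toLinearMap - LinearMap.id)
      have mU : ∀ v, v ∈ U ↔ r i v = v := by
        intro v
        show v ∈ LinearMap.ker ((r i).toLinearMap - LinearMap.id) ↔ _
        rw [LinearMap.mem_ker, LinearMap.sub_apply, LinearMap.id_apply, sub_eq_zero]
        exact Iff.rfl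
      refine hsU U ?_ ?_ j w ((mU w).2 hw)
      · intro f hf v hv
        rw [mU] at hv ⊢
        have h1 := hfP i f hf v
        rw [hPfix i v hv] at h1
        rw [h1]
        exact hPr i _
      · intro f hf v hv
        exact e2 f hf v ((mU v).1 hv)
    · exfalso
      apply hne i
      have h2 : ∀ v, P (r i) v = 0 → r i v = v := by
        let U : Submodule (ZMod 2) p.lz.V := LinearMap.ker (P (r i))
        intro v hv
        refine hsU U ?_ ?_ i v (LinearMap.mem_ker.2 hv)
        · intro f hf w hw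
          rw [LinearMap.mem_ker] at hw ⊢
          rw [← hfP i f hf, hw, map_zero]
        · intro f hf w hw
          exact e2 f hf w (LinearMap.mem_ker.1 hw)
      ext v
      show r i v = v
      have h3 : P (r i) (v + P (r i) v) = 0 := by
        rw [map_add, hPfix i _ (hPr i v), add_self']
      have h4 := h2 _ h3
      rw [map_add, hPr] at h4
      exact add_right_cancel h4
  -- no fixed points
  have h2 : ∀ i, ∀ v, r i v = v → v = 0 := by
    -- `W = ker P (r 0)` is everything
    have hker : ∀ i v, P (r i) v = 0 ↔ P (r 0) v = 0 := by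
      have key : ∀ i j v, P (r i) v = 0 → P (r j) v = 0 := by
        intro i j v hv
        -- `P (r j) v` is fixed by `r j`, hence by `r i`
        have k1 := (h1 j).2 i _ (hPr j v)
        have k2 := hPfix i _ k1
        have k3 : P (r i) (P (r j) v) = P (r j) (P (r i) v) := by
          rw [P_apply (r i), P_apply (r i), hfP j _ (hr i), hfP j _ (hr i), map_add, map_add]
        rw [k3, hv, map_zero] at k2
        exact k2.symm
      exact fun i v => ⟨key i 0 v, key 0 i v⟩
    let R : Submodule (ZMod 2) p.lz.V := LinearMap.ker (P (r 0))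
    have mR : ∀ v, v ∈ R ↔ P (r 0) v = 0 := fun v => LinearMap.mem_ker
    have hRH : ∀ f ∈ p.H, ∀ v ∈ R, f v ∈ R := by
      intro f hf v hv
      rw [mR] at hv ⊢
      rw [← hfP 0 f hf, hv, map_zero]
    have hRne : R ≠ ⊥ := by
      intro e
      apply hne 0
      ext v
      show r 0 v = v
      have h3 : P (r 0) (v + P (r 0) v) = 0 := by
        rw [map_add, hPfix 0 _ (hPr 0 v), add_self']
      have h4 : v + P (r 0) v ∈ R := (mR _).2 h3
      rw [e, Submodule.mem_bot] at h4
      have h5 := eq_of_add h4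
      rw [h5]
      exact hPr 0 v
    have h3 := T.card_ge (R := R) (fun i => hRH _ (hr i)) (fun i => hRH _ (hs i)) (by
      intro i v hv e
      rw [mR, ← hker i, hPfix i v e] at hv
      exact hv) hRne
    have h4 : R = ⊤ := by
      rw [eq_top_iff]
      have h5 : (R : Set p.lz.V) = Set.univ := by
        apply (Set.eq_univ_iff_ncard _).2
        rw [← Nat.card_coe_set_eq]
        have h6 : Nat.card R ≤ Nat.card p.lz.V := Nat.card_le_card_of_injective _ Subtype.val_injective
        rw [hV] at h6 ⊢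
        exact le_antisymm h6 h3
      intro v _
      have : v ∈ (R : Set p.lz.V) := by rw [h5]; trivial
      exact this
    intro i v e
    have h5 : v ∈ R := by rw [h4]; trivial
    rw [mR, ← hker i, hPfix i v e] at h5
    exact h5
  intro R hq hR
  by_contra hne
  have h3 := T.card_ge (R := R) (fun i => hR _ (hr i)) (fun i => hR _ (hs i)) (fun i v _ e => h2 i v e) hne
  have h4 : ∀ v, v ∈ R := by
    have h5 : (R : Set p.lz.V) = Set.univ := by
      apply (Set.eq_univ_iff_ncard _).2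
      rw [← Nat.card_coe_set_eq]
      have h6 : Nat.card R ≤ Nat.card p.lz.V := Nat.card_le_card_of_injective _ Subtype.val_injective
      rw [hV] at h6 ⊢
      exact le_antisymm h6 h3
    intro v
    have : v ∈ (R : Set p.lz.V) := by rw [h5]; trivial
    exact this
  apply p.va_ne
  apply p.lz.b_nondeg
  intro w
  have h5 := p.lz.q_add' p.va w
  rw [hq _ (h4 _), hq _ (h4 _), hq _ (h4 _), zero_add, zero_add] at h5
  exact h5.symm

end Cfsg.Agent.H345.OPB
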