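import Cfsg.Agent.LargeExtra.KillNine.Final
import Cfsg.Agent.LargeExtra.Nine.UCoord

/-!
# S3345, part C: excluding the configurations other than `Ω₈⁺(2)` by the order of `C / Q`
-/

set_option autoImplicit false

namespace Cfsg.Agent.H345.OPC

open Cfsg.Agent.Co2Type.Quad Cfsg.Agent.LargeExtra Cfsg.Agent.LargeExtra.Base Cfsg.Agent.LargeExtra.Nine
open Cfsg.Agent.LargeExtra.KillNine.Codes

variable {G : Type*} [Group G] {Q A : Subgroup G} {z a : G}

/-- powers of a code matrix -/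
def powL (L : List ℕ) : ℕ → List ℕ
  | 0 => idL
  | n + 1 => mulL (powL L n) L

theorem acts_pow {h : Large Q z} {φ : Coord h} {L : List ℕ} {f : h.V ≃ₗ[ZMod 2] h.V} (hf : Acts φ L f) (n : ℕ) :
    Acts φ (powL L n) (f ^ n) := by
  induction n with
  | zero => exact Acts.one
  | succ n ih => rw [pow_succ']; exact Acts.mul ih hf

theorem dvd_card {h : Large Q z} {φ : Coord h} (S : Subgroup (h.V ≃ₗ[ZMod 2] h.V)) {L : List ℕ}
    (hL : In φ S L) {n : ℕ} (hn : n.Prime) (h1 : powL L n = idL) (h2 : ap L 1 < 256) (h3 : ap L 1 ≠ 1) :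
    n ∣ Nat.card S := by
  obtain ⟨f, hf, hfL⟩ := hL
  have h4 : f ^ n = 1 := by
    have h5 := acts_pow hfL n
    rw [h1] at h5
    exact Acts.ext h5 Acts.one
  have h5 : f ≠ 1 := by
    rintro rfl
    apply h3
    have h6 := hfL (φ.e.symm (vec 1))
    have h7 : φ.e ((1 : h.V ≃ₗ[ZMod 2] h.V) (φ.e.symm (vec 1))) = vec 1 := φ.e.apply_symm_apply _
    rw [h7, φ.e.apply_symm_apply, lin_vec] at h6
    exact (vec_inj 1 (by norm_num) _ h2 h6).symm
  have : Fact n.Prime := ⟨hn⟩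
  have h6 := orderOf_eq_prime h4 h5
  rw [← h6]
  exact Subgroup.orderOf_dvd_natCard S hf

theorem orbit_bound [Finite G] (p : Pair Q z A a) {n : ℕ} (f : Fin n → (p.lz.V ≃ₗ[ZMod 2] p.lz.V))
    (hf : ∀ i, f i ∈ p.H) (hinj : ∀ i j, f i p.va = f j p.va → i = j) :
    n * Nat.card p.X ≤ Nat.card p.H := by
  have hfin : Finite (p.lz.V ≃ₗ[ZMod 2] p.lz.V) := KillNine.Pts.finite_aut p.lz
  let g : Fin n × p.X → p.H := fun x => ⟨f x.1 * x.2, p.H.mul_mem (hf _) (p.X_le_H x.2.2)⟩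
  have hg : Function.Injective g := by
    rintro ⟨i, x⟩ ⟨j, y⟩ hxy
    have h1 : f i * (x : p.lz.V ≃ₗ[ZMod 2] p.lz.V) = f j * y := congrArg Subtype.val hxy
    have h2 : f i ((x : p.lz.V ≃ₗ[ZMod 2] p.lz.V) p.va) = f j ((y : p.lz.V ≃ₗ[ZMod 2] p.lz.V) p.va) :=
      congrArg (fun k : p.lz.V ≃ₗ[ZMod 2] p.lz.V => k p.va) h1
    rw [p.X_va x.2, p.X_va y.2] at h2
    have h3 := hinj i j h2
    subst h3
    have h4 : x = y := Subtype.ext (mul_left_cancel h1)
    rw [h4]
  have h1 := Nat.card_le_card_of_injective g hg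
  rw [Nat.card_prod] at h1
  simpa using h1

section
variable [Finite G] (p : Pair Q z A a) {φ : Coord p.lz}

omit [Finite G] in
theorem in_of_conf {c : Conf} (hc : IsConf p φ c) {L : List ℕ} (hL : L ∈ c.X ++ c.N) : In φ p.H L := by
  rcases List.mem_append.1 hL with h | h
  · obtain ⟨f, hf, hfL⟩ := hc.X L h
    exact ⟨f, p.X_le_H hf, hfL⟩
  · exact hc.N L h

/-- the word `X₀ N₂` has order `n` -/
theorem not_conf {c : Conf} (hc : IsConf p φ c) {L M : List ℕ} (hL : L ∈ c.X ++ c.N) (hM : M ∈ c.X ++ c.N)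
    {n : ℕ} (hn : n.Prime) (h1 : powL (mulL L M) n = idL) (h2 : ap (mulL L M) 1 < 256)
    (h3 : ap (mulL L M) 1 ≠ 1) : n ∣ Nat.card p.H :=
  dvd_card p.H ((in_of_conf p hc hL).mul (in_of_conf p hc hM)) hn h1 h2 h3

theorem not_ominus (hc : IsConf p φ confOminus) : 5 ∣ Nat.card p.H :=
  not_conf p hc (L := [1,2,4,9,144,36,66,128]) (M := [225,210,56,52,16,32,128,64]) (by decide) (by decide)
    (by norm_num) (by decide +kernel) (by decide +kernel) (by decide +kernel)

theorem not_d4 (hc : IsConf p φ confD4) : 7 ∣ Nat.card p.H :=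
  not_conf p hc (L := [1,2,4,9,153,36,66,129]) (M := [245,208,190,112,16,72,80,66]) (by decide) (by decide)
    (by norm_num) (by decide +kernel) (by decide +kernel) (by decide +kernel)

theorem not_hn (hc : IsConf p φ confHN) : 5 ∣ Nat.card p.H :=
  not_conf p hc (L := [1,2,4,9,144,36,66,128]) (M := [73,10,20,8,16,32,64,176]) (by decide) (by decide)
    (by norm_num) (by decide +kernel) (by decide +kernel) (by decide +kernel)

theorem not_th (hc : IsConf p φ confTh) : 7 ∣ Nat.card p.H :=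
  not_conf p hc (L := [1,2,4,9,153,36,66,129]) (M := [245,208,190,112,16,72,80,66]) (by decide) (by decide)
    (by norm_num) (by decide +kernel) (by decide +kernel) (by decide +kernel)

/-- generators of `confPO83` -/
def gP : List (List ℕ) := [[1,2,4,9,144,36,66,128], [1,2,5,8,80,40,64,130], [1,3,4,8,48,32,72,132],
  [65,8,30,2,16,192,64,96], [33,30,8,4,16,32,160,96], [165,24,14,18,16,204,90,102]]

/-- words -/
def wP : Fin 28 → List ℕ := ![[], [3], [4], [5], [3, 0], [3, 2], [3, 4], [3, 5], [4, 0], [4, 1], [4, 5], [5, 0],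
  [5, 1], [3, 0, 2], [3, 0, 3], [3, 0, 4], [3, 0, 5], [3, 2, 3], [3, 2, 4], [3, 2, 5], [3, 4, 1], [3, 4, 5],
  [3, 5, 0], [3, 5, 1], [3, 5, 2], [4, 0, 1], [4, 0, 5], [4, 1, 4]]

def cP (i : Fin 28) : List ℕ := prodL ((wP i).map fun k => gP.getD k [])

theorem cP_lt : ∀ i, ap (cP i) 1 < 256 := by decide +kernel

theorem cP_inj : ∀ i j, ap (cP i) 1 = ap (cP j) 1 → i = j := by decide +kernel

theorem wP_lt : ∀ i, ∀ k ∈ wP i, k < 6 := by decide +kernel

theorem gP_mem : ∀ k < 6, gP.getD k [] ∈ confPO83.X ++ confPO83.N := by decide +kernel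

theorem not_po83 (hc : IsConf p φ confPO83) : 28 * Nat.card p.X ≤ Nat.card p.H := by
  have h1 : ∀ i, In φ p.H (cP i) := by
    intro i
    apply In.prod
    intro L hL
    obtain ⟨k, hk, rfl⟩ := List.mem_map.1 hL
    exact in_of_conf p hc (gP_mem k (wP_lt i k hk))
  choose f hf hfL using h1
  refine orbit_bound p f hf (fun i j hij => ?_)
  apply cP_inj
  have e1 := hfL i p.va
  have e2 := hfL j p.va
  rw [hc.va, lin_vec] at e1 e2
  rw [hij, e2] at e1
  exact vec_inj _ (cP_lt i) _ (cP_lt j) e1.symm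

end

/-- case I: `5 ∣ |H|` -/
theorem case_one {h : Large Q z} {φ : Coord h} {Qf : G → Subgroup G} {t : G}
    (B : UCoord.BaseData φ Qf t) : 5 ∣ Nat.card h.act.range := by
  have h1 : ∀ L ∈ UTree.genN, In φ h.act.range L := fun L hL => B.gen L hL
  have m0 : [33, 18, 4, 8, 16, 32, 64, 128] ∈ UTree.genN := by decide +kernel
  have m1 : [1, 2, 4, 8, 20, 40, 65, 130] ∈ UTree.genN := by decide +kernel
  have m2 : [1, 2, 7, 10, 80, 224, 64, 128] ∈ UTree.genN := by decide +kernel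
  exact dvd_card h.act.range ((((h1 _ m0).mul (h1 _ m1)).mul (h1 _ m0)).mul (h1 _ m2)) (by norm_num)
    (by decide +kernel) (by decide +kernel) (by decide +kernel)

end Cfsg.Agent.H345.OPC
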