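import Cfsg.Agent.H345.OPB
import Cfsg.Agent.H345.OPC
import Cfsg.Agent.LargeExtra.Enum9.TenConf
import Cfsg.Agent.LargeExtra.WG6
import Cfsg.Agent.LargeExtra.Cards
import Cfsg.Agent.LargeExtra.Nine.ToCent
import Cfsg.Agent.TypeO8Plus.Main
import Cfsg.Agent.StdL2.G23Coset
import Cfsg.Agent.GH.C2GrowL3Base
import Cfsg.Agent.S0215

/-!
# S3345, part D: assembly
-/

set_option autoImplicit false

namespace Cfsg.Agent.H345.OPD

open Cfsg.Agent.Co2Type.Quad Cfsg.Agent.LargeExtra Cfsg.Agent.LargeExtra.Base Cfsg.Agent.LargeExtra.Nine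
open Cfsg.Agent.LargeExtra.SiegelOrbit Cfsg.Agent.H345.OPA
open Equiv

/-- `S₃ × S₃ × S₃` -/
abbrev P3 : Type := Perm (Fin 3) × Perm (Fin 3) × Perm (Fin 3)

def cyc : Perm (Fin 3) := swap 0 1 * swap 1 2
def inv2 : Perm (Fin 3) := swap 0 1

def rho : Fin 3 → P3 := ![(cyc, 1, 1), (1, cyc, 1), (1, 1, cyc)]
def sig : Fin 3 → P3 := ![(inv2, 1, 1), (1, inv2, 1), (1, 1, inv2)]

theorem rho3 : ∀ i, rho i * rho i * rho i = 1 := by decide +kernel
theorem rho_comm : ∀ i j, rho i * rho j = rho j * rho i := by decide +kernel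
theorem sig2 : ∀ i, sig i * sig i = 1 := by decide +kernel
theorem sig_rho : ∀ i j, i ≠ j → sig i * rho j = rho j * sig i := by decide +kernel
theorem rho_sig : ∀ i, rho i * sig i = sig i * (rho i * rho i) := by decide +kernel
theorem rho_ne : ∀ i, rho i ≠ 1 := by decide +kernel
theorem cyc_conj : ∀ g : Perm (Fin 3), g * cyc * g⁻¹ = cyc ∨ g * cyc * g⁻¹ = cyc * cyc := by decide +kernel

theorem rho_conj (f : P3) (i : Fin 3) : f * rho i * f⁻¹ = rho i ∨ f * rho i * f⁻¹ = rho i * rho i := by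
  obtain ⟨a, b, c⟩ := f
  fin_cases i
  · rcases cyc_conj a with e | e
    · left
      show (a * cyc * a⁻¹, b * 1 * b⁻¹, c * 1 * c⁻¹) = (cyc, 1, 1)
      rw [e]; simp
    · right
      show (a * cyc * a⁻¹, b * 1 * b⁻¹, c * 1 * c⁻¹) = (cyc * cyc, 1 * 1, 1 * 1)
      rw [e]; simp
  · rcases cyc_conj b with e | e
    · left
      show (a * 1 * a⁻¹, b * cyc * b⁻¹, c * 1 * c⁻¹) = (1, cyc, 1)
      rw [e]; simp
    · right
      show (a * 1 * a⁻¹, b * cyc * b⁻¹, c * 1 * c⁻¹) = (1 * 1, cyc * cyc, 1 * 1)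
      rw [e]; simp
  · rcases cyc_conj c with e | e
    · left
      show (a * 1 * a⁻¹, b * 1 * b⁻¹, c * cyc * c⁻¹) = (1, 1, cyc)
      rw [e]; simp
    · right
      show (a * 1 * a⁻¹, b * 1 * b⁻¹, c * cyc * c⁻¹) = (1 * 1, 1 * 1, cyc * cyc)
      rw [e]; simp

variable {G : Type*} [Group G] {Q A : Subgroup G} {z a : G}

theorem card_P3 : Nat.card P3 = 216 := by
  rw [Nat.card_prod, Nat.card_prod, Nat.card_perm]
  simp [Nat.factorial]

/-- case II -/
theorem case_two [Finite G] (hG : ∀ H : Subgroup G, H.index ≠ 2) (p : Pair Q z A a)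
    (h9 : Nat.card Q = 2 ^ 9) (e : p.H ≃* P3) :
    ∃ φ : Coord p.lz, IsConf p φ confOplus := by
  have hfin : Finite (p.lz.V ≃ₗ[ZMod 2] p.lz.V) := KillNine.Pts.finite_aut p.lz
  have hH : Nat.card p.H = 216 := by rw [Nat.card_congr e.toEquiv, card_P3]
  have hV : Nat.card p.lz.V = 256 := Tri.CaseTwo.card_V p.lz h9
  have hX1 := p.card_X
  rw [hV] at hX1
  have hXD : Nat.card p.X * Nat.card p.D = 128 := by omega
  have hX2 : Nat.card p.X ∣ 216 := by rw [← hH]; exact Subgroup.card_dvd_of_le p.X_le_H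
  have hD1 : Nat.card p.D * Nat.card p.D ≤ 256 := by
    rw [← hV]
    exact Perp.card_sq_le p.lz p.D fun v hv w hw => p.b_D hv hw
  have hX3 : Nat.card p.X ∣ 2 ^ 7 := Dvd.intro _ hXD
  have hXD' : Nat.card p.X = 8 ∧ Nat.card p.D = 16 := by
    obtain ⟨k, hk, hk'⟩ := (Nat.dvd_prime_pow Nat.prime_two).1 hX3
    rw [hk'] at hX2 hXD
    have hk3 : k ≤ 3 := by
      by_contra hcon
      have h1 : 2 ^ 4 ∣ 2 ^ k := pow_dvd_pow 2 (by omega)
      have := h1.trans hX2
      norm_num at this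
    have h2 : Nat.card p.D ≤ 16 := by
      by_contra hcon
      have : 17 * 17 ≤ Nat.card p.D * Nat.card p.D := Nat.mul_le_mul (by omega) (by omega)
      omega
    rw [hk']
    interval_cases k
    · norm_num at hXD; omega
    · norm_num at hXD; omega
    · norm_num at hXD; omega
    · norm_num at hXD ⊢; omega
  obtain ⟨hX, hD⟩ := hXD'
  -- the action
  let r : Fin 3 → (p.lz.V ≃ₗ[ZMod 2] p.lz.V) := fun i => (e.symm (rho i) : p.H)
  let s : Fin 3 → (p.lz.V ≃ₗ[ZMod 2] p.lz.V) := fun i => (e.symm (sig i) : p.H)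
  have hr : ∀ i, r i ∈ p.H := fun i => (e.symm (rho i)).2
  have hs : ∀ i, s i ∈ p.H := fun i => (e.symm (sig i)).2
  have T : Tri3 r s := by
    refine ⟨?_, ?_, ?_, ?_, ?_⟩
    · intro i
      have := congrArg (fun f => ((e.symm f : p.H) : p.lz.V ≃ₗ[ZMod 2] p.lz.V)) (rho3 i)
      simpa using this
    · intro i j
      have := congrArg (fun f => ((e.symm f : p.H) : p.lz.V ≃ₗ[ZMod 2] p.lz.V)) (rho_comm i j)
      simpa using this
    · intro i
      have := congrArg (fun f => ((e.symm f : p.H) : p.lz.V ≃ₗ[ZMod 2] p.lz.V)) (sig2 i)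
      simpa using this
    · intro i j hij
      have := congrArg (fun f => ((e.symm f : p.H) : p.lz.V ≃ₗ[ZMod 2] p.lz.V)) (sig_rho i j hij)
      simpa using this
    · intro i
      have := congrArg (fun f => ((e.symm f : p.H) : p.lz.V ≃ₗ[ZMod 2] p.lz.V)) (rho_sig i)
      simpa using this
  have hne : ∀ i, r i ≠ 1 := by
    intro i h1
    apply rho_ne i
    have h2 : e.symm (rho i) = 1 := Subtype.ext h1
    rwa [EmbeddingLike.map_eq_one_iff] at h2
  have hn : ∀ f ∈ p.H, ∀ i, f * r i * f⁻¹ = r i ∨ f * r i * f⁻¹ = r i * r i := by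
    intro f hf i
    have h1 : f = (e.symm (e ⟨f, hf⟩) : p.H) := by rw [e.symm_apply_apply]
    rcases rho_conj (e ⟨f, hf⟩) i with h2 | h2
    · left
      have := congrArg (fun f => ((e.symm f : p.H) : p.lz.V ≃ₗ[ZMod 2] p.lz.V)) h2
      simpa using this
    · right
      have := congrArg (fun f => ((e.symm f : p.H) : p.lz.V ≃ₗ[ZMod 2] p.lz.V)) h2
      simpa using this
  have hconj : ∀ i, ∃ g ∈ p.H, g * s i * g⁻¹ ∈ p.X := by
    intro i
    have h1 := Cfsg.Agent.GH.C2GrowL3Base.card_mul_relIndex p.X_le_H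
    rw [hX, hH] at h1
    obtain ⟨g, hg, hg'⟩ := StdL2.G23Coset.exists_conj_mem (B := p.H) (S := p.X)
      (IsPGroup.of_card (n := 3) (by rw [hX]; norm_num)) p.X_le_H (by
        intro h2
        have : p.X.relIndex p.H = 27 := by omega
        rw [this] at h2
        norm_num at h2) (R := Subgroup.zpowers (s i)) (by
        have h3 : s i * s i = 1 := T.s2 i
        by_cases h4 : s i = 1
        · rw [h4, Subgroup.zpowers_one_eq_bot]
          exact IsPGroup.of_bot
        · have h5 : orderOf (s i) = 2 := orderOf_eq_prime (by rw [pow_two, h3]) h4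
          exact IsPGroup.of_card (n := 1) (by rw [Nat.card_zpowers, h5]; norm_num))
        (by rw [Subgroup.zpowers_le]; exact hs i)
    exact ⟨g, hg, hg' _ (Subgroup.mem_zpowers _)⟩
  have hirr := OPB.irr_of p hV hD T hr hs hne hn hconj
  rcases Tri.CaseTwo.case_two hG p h9 hirr with h1 | ⟨-, x, hx⟩
  · rw [hD] at h1; norm_num at h1
  · obtain ⟨φ, h⟩ := Enum9.TenConf.exists_conf p h9 hirr hx
    refine ⟨φ, ?_⟩
    rcases h with h | h | h | h | h | h | h | h | h | h
    · have := OPC.not_po83 p h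
      rw [hX, hH] at this
      norm_num at this
    · exact h
    · have := OPC.not_ominus p h
      rw [hH] at this
      norm_num at this
    · have := OPC.not_d4 p h
      rw [hH] at this
      norm_num at this
    · have := OPC.not_hn p h
      rw [hH] at this
      norm_num at this
    · have := OPC.not_th p h
      rw [hH] at this
      norm_num at this
    · exact (KillNine.Final.killK2 p φ h).elim
    · exact (KillNine.Final.killK3 p φ h).elim
    · exact (KillNine.Final.killK4 p φ h).elim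
    · exact (KillNine.Final.killK5 p φ h).elim

open TypeO8Plus in
/-- the identification -/
theorem recognize [Finite G] (p : Pair Q z A a) (h9 : Nat.card Q = 2 ^ 9)
    (hcc : Nat.card (Subgroup.centralizer ({z} : Set G)) = 2 ^ 9 * 216)
    (φ : Coord p.lz) (hc : IsConf p φ confOplus) :
    Nonempty (G ≃* Cfsg.Omega (ZMod 2) (Cfsg.quadFormPlus 4 (ZMod 2))) := by
  obtain ⟨E, F⟩ := LocalE.exists_frame p φ hc
  have H := EFam.hyp (Main.facts F hc h9) hc.va
  have hsub := H.subset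
  have hM : MM Q E = ⊤ := by
    rw [Subgroup.eq_top_iff']
    intro g
    have h1 : z ∈ {t | IsConj z t} := IsConj.refl z
    refine H.ctrl z h1 (hsub h1) g (hsub ?_)
    exact isConj_iff.2 ⟨g, rfl⟩
  have hC0 : C0 Q E ≤ Subgroup.centralizer ({z} : Set G) := by
    rw [C0]
    refine sup_le (fun q hq => Subgroup.mem_centralizer_singleton_iff.2 (p.lz.comm_z q hq)) ?_
    rw [Subgroup.closure_le]
    rintro _ (⟨i, rfl⟩ | ⟨i, rfl⟩)
    · have h1 := F.X_rel.z i
      rw [mul_inv_eq_iff_eq_mul, F.z] at h1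
      exact Subgroup.mem_centralizer_singleton_iff.2 h1
    · have h1 := F.W_rel.z i
      rw [mul_inv_eq_iff_eq_mul, F.z] at h1
      exact Subgroup.mem_centralizer_singleton_iff.2 h1
  have hC : C0 Q E = Subgroup.centralizer ({z} : Set G) := by
    apply Subgroup.eq_of_le_of_card_ge hC0
    rw [hcc, CNorm.card_C0 F hc.va, h9]
  have hG0 : G0 Q E = ⊤ := by
    rw [← hM, MM, F.z, ← hC]
    exact (sup_eq_left.2 (CNorm.C0_le_G0 Q E)).symm
  obtain ⟨f⟩ := Ident.exists_equiv F hc.va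
  have hcard := Ident.card_G0 F hc.va
  rw [Nat.card_congr f.toEquiv] at hcard
  -- the centre is trivial
  have hO := Cards.card_omega_plus_eight
  have h1 := Subgroup.card_eq_card_quotient_mul_card_subgroup
    (Subgroup.center (Cfsg.Omega (ZMod 2) (Cfsg.quadFormPlus 4 (ZMod 2))))
  rw [hO] at h1
  have h2 : Nat.card (Subgroup.center (Cfsg.Omega (ZMod 2) (Cfsg.quadFormPlus 4 (ZMod 2)))) = 1 := by
    have h3 : Nat.card (↥(Cfsg.Omega (ZMod 2) (Cfsg.quadFormPlus 4 (ZMod 2))) ⧸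
      Subgroup.center ↥(Cfsg.Omega (ZMod 2) (Cfsg.quadFormPlus 4 (ZMod 2)))) = 174182400 := hcard
    rw [h3] at h1
    omega
  have h3 : Subgroup.center (Cfsg.Omega (ZMod 2) (Cfsg.quadFormPlus 4 (ZMod 2))) = ⊥ :=
    Subgroup.card_eq_one.1 h2
  exact ⟨(((Subgroup.topEquiv.symm.trans (MulEquiv.subgroupCongr hG0.symm)).trans f).trans
    (QuotientGroup.quotientMulEquivOfEq h3)).trans QuotientGroup.quotientBot⟩

end Cfsg.Agent.H345.OPD
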