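import Cfsg.Agent.H345.OPD
import Cfsg.Agent.Lib.Cores

/-!
# S3345, part E: the case distinction
-/

set_option autoImplicit false

namespace Cfsg.Agent.H345.OPE

open Cfsg.Agent.Co2Type.Quad Cfsg.Agent.LargeExtra Cfsg.Agent.LargeExtra.Base Cfsg.Agent.LargeExtra.Nine
open Cfsg.Agent.LargeExtra.SiegelOrbit Cfsg.Agent.H345.OPD
open Equiv

variable {G : Type*} [Group G] {Q : Subgroup G} {z : G}

/-- no subgroup of index 2 when `O²(G) = G` -/
theorem index_ne_two [Finite G] (hG : Cfsg.pResidual 2 G = ⊤) (H : Subgroup G) : H.index ≠ 2 := by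
  intro hH
  have hn : H.Normal := Subgroup.normal_of_index_eq_two hH
  have h1 : Cfsg.pResidual 2 G ≤ H := by
    rw [Cfsg.pResidual, Subgroup.closure_le]
    intro g hg
    have hg' : Nat.Coprime (orderOf g) 2 := hg
    have h2 : (QuotientGroup.mk g : G ⧸ H) = 1 := by
      rw [← orderOf_eq_one_iff]
      have h3 : orderOf (QuotientGroup.mk g : G ⧸ H) ∣ orderOf g :=
        orderOf_map_dvd (QuotientGroup.mk' H) g
      have h4 : orderOf (QuotientGroup.mk g : G ⧸ H) ∣ 2 := by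
        have h5 := orderOf_dvd_natCard (QuotientGroup.mk g : G ⧸ H)
        rwa [show Nat.card (G ⧸ H) = 2 from hH] at h5
      exact Nat.eq_one_of_dvd_coprimes hg' h3 h4
    exact (QuotientGroup.eq_one_iff g).1 h2
  rw [hG, top_le_iff] at h1
  rw [h1, Subgroup.index_top] at hH
  norm_num at hH

/-- the isolated case -/
theorem isolated [Finite G] (h : Large Q z) (hz : orderOf z = 2)
    (hiso : ∀ g : G, g * z * g⁻¹ * z = z * (g * z * g⁻¹) → g * z * g⁻¹ = z) (g : G) :
    g * z * g⁻¹ * z⁻¹ ∈ Cfsg.oddCore G := by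
  have : Fact (Nat.Prime 2) := ⟨Nat.prime_two⟩
  obtain ⟨T, hT⟩ := (Base.isPGroup h).exists_le_sylow
  have h1 := TwoCentral.le_centralizer_of_two h T.2 hT
  obtain ⟨N, hN, hodd, hc⟩ := S0215.result T z hz (hT h.z_mem) (fun g hg => by
    apply hiso
    exact (Subgroup.mem_centralizer_singleton_iff.1 (h1 hg)))
  have h2 : N ≤ Cfsg.oddCore G := Lib.Cores.le_pPrimeCore hN hodd.coprime_two_right
  have h3 := (Cfsg.oddCore G).inv_mem (h2 (hc g))
  have h4 : (z * g * z⁻¹ * g⁻¹)⁻¹ = g * z * g⁻¹ * z⁻¹ := by group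
  rwa [h4] at h3

/-- **S3345.** -/
theorem main [Finite G] (hG : ∀ H : Subgroup G, H.index ≠ 2) (h : Large Q z) (hz : orderOf z = 2)
    (hO : O2 h) (h9 : Nat.card Q = 2 ^ 9) (e : h.act.range ≃* P3)
    (hcc : Nat.card (Subgroup.centralizer ({z} : Set G)) = 2 ^ 9 * 216) :
    (∀ g : G, g * z * g⁻¹ * z⁻¹ ∈ Cfsg.oddCore G) ∨
      Nonempty (G ≃* Cfsg.Omega (ZMod 2) (Cfsg.quadFormPlus 4 (ZMod 2))) := by
  by_cases hiso : ∀ g : G, g * z * g⁻¹ * z = z * (g * z * g⁻¹) → g * z * g⁻¹ = z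
  · exact Or.inl (isolated h hz hiso)
  push Not at hiso
  obtain ⟨g₀, hg₀, hg₀'⟩ := hiso
  right
  by_cases hwc : ∀ g : G, g * z * g⁻¹ ∈ Q → g * z * g⁻¹ = z
  · exfalso
    have hR := WCIrr.noRefl_of_index h (by rw [h9]; norm_num) hG
    have I := WCIrr.uinput h (by rw [h9]; norm_num) hR hwc hO ⟨g₀, hg₀', hg₀⟩
    have hcV : Nat.card h.V = 256 := by
      have h1 := h.card_eq
      rw [h9] at h1
      omega
    obtain ⟨φ, t, B, -⟩ := UCoord.exists_coord hcV I
    have h5 := OPC.case_one B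
    rw [Nat.card_congr e.toEquiv, card_P3] at h5
    norm_num at h5
  · push Not at hwc
    obtain ⟨g, hin, hne⟩ := hwc
    have p := pair_of_conj h hin hne
    obtain ⟨φ, hφ⟩ := case_two hG p h9 e
    exact recognize p h9 hcc φ hφ

end Cfsg.Agent.H345.OPE

namespace Cfsg.Agent.H345.OPE

open Cfsg.Agent.Co2Type.Quad Cfsg.Agent.LargeExtra Cfsg.Agent.LargeExtra.Base Cfsg.Agent.LargeExtra.Nine
open Cfsg.Agent.LargeExtra.SiegelOrbit Cfsg.Agent.H345.OPD
open Equiv

/-- **S3345**, from the hypotheses of the statement. -/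
theorem final {G : Type*} [Group G] [Finite G]
    (hG : Cfsg.pResidual 2 G = ⊤) (t : G) (ht : orderOf t = 2)
    (hF : Cfsg.IsExtraspecial 2 (Cfsg.generalizedFittingSubgroup (Subgroup.centralizer ({t} : Set G))))
    (hFcard : Nat.card (Cfsg.generalizedFittingSubgroup (Subgroup.centralizer ({t} : Set G))) = 2 ^ 9)
    (hn : (Cfsg.pCore 2 (Subgroup.centralizer ({t} : Set G))).Normal)
    (e : Subgroup.centralizer ({t} : Set G) ⧸ Cfsg.pCore 2 (Subgroup.centralizer ({t} : Set G)) ≃* P3) :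
    (∀ g : G, g * t * g⁻¹ * t⁻¹ ∈ Cfsg.oddCore G) ∨
      Nonempty (G ≃* Cfsg.Omega (ZMod 2) (Cfsg.quadFormPlus 4 (ZMod 2))) := by
  have : Fact (Nat.Prime 2) := ⟨Nat.prime_two⟩
  have hFp : IsPGroup 2 (Cfsg.generalizedFittingSubgroup (Subgroup.centralizer ({t} : Set G))) :=
    IsPGroup.of_card hFcard
  have hFn := Cfsg.Agent.S1755.gfs_normal (Subgroup.centralizer ({t} : Set G))
  have hFO : Cfsg.pCore 2 (Subgroup.centralizer ({t} : Set G)) =
      Cfsg.generalizedFittingSubgroup (Subgroup.centralizer ({t} : Set G)) :=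
    le_antisymm (TwoCentral.le_of_normal_two (Lib.Cores.pCore_normal 2) (Lib.Cores.pCore_isPGroup 2))
      (Lib.Cores.le_pCore hFn hFp)
  have hcc : Nat.card (Subgroup.centralizer ({t} : Set G)) = 2 ^ 9 * 216 := by
    have h1 := Subgroup.card_eq_card_quotient_mul_card_subgroup
      (Cfsg.pCore 2 (Subgroup.centralizer ({t} : Set G)))
    rw [Nat.card_congr e.toEquiv, card_P3, hFO, hFcard] at h1
    omega
  have key : ∀ (Q : Subgroup G), (Cfsg.generalizedFittingSubgroup
      (Subgroup.centralizer ({t} : Set G))).map (Subgroup.centralizer ({t} : Set G)).subtype = Q →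
      ∀ h : Large Q t, O2 h → (∀ g : G, g * t * g⁻¹ * t⁻¹ ∈ Cfsg.oddCore G) ∨
      Nonempty (G ≃* Cfsg.Omega (ZMod 2) (Cfsg.quadFormPlus 4 (ZMod 2))) := by
    intro Q hQ h hO
    have h9 : Nat.card Q = 2 ^ 9 := by
      rw [← hQ, ← hFcard]
      exact Subgroup.card_map_of_injective (Subgroup.subtype_injective _)
    have hQF : Q.subgroupOf (Subgroup.centralizer ({t} : Set G)) =
        Cfsg.pCore 2 (Subgroup.centralizer ({t} : Set G)) := by
      rw [← hQ, hFO]
      exact Subgroup.comap_map_eq_self_of_injective (Subgroup.subtype_injective _) _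
    have hQn := ToCent.normal h
    obtain ⟨f⟩ := ToCent.nonempty_quot h
    have e' : h.act.range ≃* P3 := (f.symm.trans (QuotientGroup.quotientMulEquivOfEq hQF)).trans e
    exact main (index_ne_two hG) h ht hO h9 e' hcc
  have h := large_of_genFitting t ht hF
  exact key _ rfl h (o2_of_genFitting h rfl)

end Cfsg.Agent.H345.OPE
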