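import Cfsg.Agent.H58.Rec.Kill

/-!
# Frobenius groups `3 ^ k : 22` from a relation check (helper345, S3484)

`hasFrob_of_rel` : `c` of order 22, `t` of order 3 inverted by `c ^ 11` and commuting with its conjugates under `⟨c⟩`.
-/

set_option autoImplicit false

namespace Cfsg.Agent.H345.RecFrob

open Subgroup Cfsg.Agent.H58.Rec

variable {G : Type*} [Group G]

/-- the conjugates of `t` under the powers of `c` -/
def U (c t : G) (i : ℤ) : G := c ^ i * t * (c ^ i)⁻¹

theorem U_zero (c t : G) : U c t 0 = t := by simp [U]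

theorem conj_U (c t : G) (i j : ℤ) : c ^ j * U c t i * (c ^ j)⁻¹ = U c t (j + i) := by
  unfold U
  rw [zpow_add]
  group

theorem U_eleven {c t : G} (hinv : c ^ 11 * t * (c ^ 11)⁻¹ = t⁻¹) (i : ℤ) : U c t (i + 11) = (U c t i)⁻¹ := by
  have h : c ^ (11 : ℤ) * t * (c ^ (11 : ℤ))⁻¹ = t⁻¹ := by
    have : c ^ (11 : ℤ) = c ^ 11 := zpow_natCast c 11
    rw [this, hinv]
  calc U c t (i + 11) = c ^ i * (c ^ (11 : ℤ) * t * (c ^ (11 : ℤ))⁻¹) * (c ^ i)⁻¹ := by
        unfold U
        rw [zpow_add]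
        group
    _ = (U c t i)⁻¹ := by
        rw [h]
        unfold U
        group

/-- all the conjugates commute with `t` -/
theorem comm_t {c t : G} (hinv : c ^ 11 * t * (c ^ 11)⁻¹ = t⁻¹)
    (hcomm : ∀ k : ℕ, 0 < k → k < 6 → Commute t (c ^ k * t * (c ^ k)⁻¹)) (i : ℤ) : Commute t (U c t i) := by
  -- representatives modulo 11
  have hper : ∀ (i : ℤ) (n : ℕ), Commute t (U c t i) → Commute t (U c t (i + 11 * n)) ∧ Commute t (U c t (i - 11 * n)) := by
    intro i n h
    induction n with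
    | zero => simpa using h
    | succ n ih =>
      constructor
      · have h1 : i + 11 * ((n + 1 : ℕ) : ℤ) = (i + 11 * n) + 11 := by push_cast; ring
        rw [h1, U_eleven hinv]
        exact ih.1.inv_right
      · have h1 : i - 11 * (n : ℤ) = (i - 11 * ((n + 1 : ℕ) : ℤ)) + 11 := by push_cast; ring
        have h2 := ih.2
        rw [h1, U_eleven hinv] at h2
        exact (Commute.inv_right_iff).1 h2
  have hsmall : ∀ k : ℕ, k < 6 → Commute t (U c t k) := by
    intro k hk
    rcases Nat.eq_zero_or_pos k with rfl | h0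
    · rw [Nat.cast_zero, U_zero]
    · have h1 := hcomm k h0 hk
      unfold U
      rwa [zpow_natCast]
  have hneg : ∀ k : ℕ, k < 6 → Commute t (U c t (-(k : ℤ))) := by
    intro k hk
    have h1 := hsmall k hk
    have h2 : c ^ (-(k : ℤ)) * t * (c ^ (-(k : ℤ)))⁻¹ = U c t (-(k : ℤ)) := rfl
    have h3 : c ^ (-(k : ℤ)) * U c t k * (c ^ (-(k : ℤ)))⁻¹ = t := by
      rw [conj_U, neg_add_cancel, U_zero]
    have h4 : Commute (c ^ (-(k : ℤ)) * t * (c ^ (-(k : ℤ)))⁻¹) (c ^ (-(k : ℤ)) * U c t k * (c ^ (-(k : ℤ)))⁻¹) :=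
      (Commute.conj_iff _).2 h1
    rw [h2, h3] at h4
    exact h4.symm
  -- `i = 11 q + r`
  have h1 : i = i % 11 + 11 * (i / 11) := by omega
  have hr0 : 0 ≤ i % 11 := Int.emod_nonneg _ (by norm_num)
  have hr11 : i % 11 < 11 := Int.emod_lt_of_pos _ (by norm_num)
  have key : ∀ r q : ℤ, 0 ≤ r → r < 11 → Commute t (U c t (r + 11 * q)) := by
    intro r q h0 h11
    have hbase : Commute t (U c t r) := by
      by_cases h6 : r < 6
      · obtain ⟨k, rfl⟩ := Int.eq_ofNat_of_zero_le h0
        exact hsmall k (by omega)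
      · have h7 : r = (-((11 - r).toNat : ℤ)) + 11 := by omega
        rw [h7, U_eleven hinv]
        exact (hneg _ (by omega)).inv_right
    rcases Int.le_total 0 q with hq | hq
    · obtain ⟨n, rfl⟩ := Int.eq_ofNat_of_zero_le hq
      exact (hper r n hbase).1
    · have h2 : r + 11 * q = r - 11 * ((-q).toNat : ℤ) := by omega
      rw [h2]
      exact (hper r _ hbase).2
  rw [h1]
  exact key _ _ hr0 hr11

theorem comm_U {c t : G} (h : ∀ i, Commute t (U c t i)) (i j : ℤ) : Commute (U c t i) (U c t j) := by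
  have h1 : Commute (c ^ i * t * (c ^ i)⁻¹) (c ^ i * U c t (j - i) * (c ^ i)⁻¹) :=
    (Commute.conj_iff _).2 (h (j - i))
  rw [conj_U] at h1
  have h2 : i + (j - i) = j := by ring
  rw [h2] at h1
  exact h1

/-- **The Frobenius group.** -/
theorem hasFrob_of_rel {c t : G} (hc : orderOf c = 22) (ht : t ^ 3 = 1) (ht1 : t ≠ 1)
    (hinv : c ^ 11 * t * (c ^ 11)⁻¹ = t⁻¹)
    (hcomm : ∀ k : ℕ, 0 < k → k < 6 → Commute t (c ^ k * t * (c ^ k)⁻¹))
    (h33 : ¬ HasOrd G (11 * 3)) : HasFrob G 3 22 := by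
  set R : Set G := Set.range (U c t) with hR
  set T := closure R with hT
  have hcU := comm_U (comm_t hinv hcomm)
  have habT : ∀ a ∈ T, ∀ b ∈ T, a * b = b * a := by
    intro a ha b hb
    have := Subgroup.isMulCommutative_closure (k := R) (by
      rintro x ⟨i, rfl⟩ y ⟨j, rfl⟩
      exact hcU i j)
    exact congrArg Subtype.val (this.is_comm.comm (⟨a, ha⟩ : closure R) ⟨b, hb⟩)
  have hcubeT : ∀ a ∈ T, a ^ 3 = 1 := by
    intro a ha
    induction ha using Subgroup.closure_induction with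
    | mem x hx =>
      obtain ⟨i, rfl⟩ := hx
      unfold U
      rw [conj_pow, ht]
      group
    | one => exact one_pow 3
    | mul x y hx hy hx3 hy3 =>
      rw [(show Commute x y from habT x hx y hy).mul_pow, hx3, hy3, one_mul]
    | inv x _ hx3 => rw [inv_pow, hx3, inv_one]
  have hinvT : ∀ a ∈ T, c ^ 11 * a * (c ^ 11)⁻¹ = a⁻¹ := by
    intro a ha
    induction ha using Subgroup.closure_induction with
    | mem x hx =>
      obtain ⟨i, rfl⟩ := hx
      have h1 := conj_U c t i 11
      have h2 : c ^ (11 : ℤ) = c ^ 11 := zpow_natCast c 11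
      rw [h2, add_comm, U_eleven hinv] at h1
      exact h1
    | one => group
    | mul x y hx hy hx3 hy3 =>
      calc c ^ 11 * (x * y) * (c ^ 11)⁻¹ = (c ^ 11 * x * (c ^ 11)⁻¹) * (c ^ 11 * y * (c ^ 11)⁻¹) := by group
        _ = (x * y)⁻¹ := by
          rw [hx3, hy3, ← mul_inv_rev, habT y hy x hx]
    | inv x _ hx3 =>
      calc c ^ 11 * x⁻¹ * (c ^ 11)⁻¹ = (c ^ 11 * x * (c ^ 11)⁻¹)⁻¹ := by group
        _ = x⁻¹⁻¹ := by rw [hx3]
  have hconj : ∀ j : ℤ, ∀ a ∈ T, c ^ j * a * (c ^ j)⁻¹ ∈ T := by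
    intro j a ha
    induction ha using Subgroup.closure_induction with
    | mem x hx =>
      obtain ⟨i, rfl⟩ := hx
      rw [conj_U]
      exact subset_closure ⟨_, rfl⟩
    | one =>
      have : c ^ j * 1 * (c ^ j)⁻¹ = 1 := by group
      rw [this]
      exact one_mem _
    | mul x y _ _ hx hy =>
      have : c ^ j * (x * y) * (c ^ j)⁻¹ = (c ^ j * x * (c ^ j)⁻¹) * (c ^ j * y * (c ^ j)⁻¹) := by group
      rw [this]
      exact mul_mem hx hy
    | inv x _ hx =>
      have : c ^ j * x⁻¹ * (c ^ j)⁻¹ = (c ^ j * x * (c ^ j)⁻¹)⁻¹ := by group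
      rw [this]
      exact inv_mem hx
  have htT : t ∈ T := subset_closure ⟨0, U_zero c t⟩
  refine ⟨T, c, fun a => ⟨1, Subtype.ext (by
      rw [pow_one]
      exact hcubeT a a.2)⟩, fun h => ht1 (by
      have := htT
      rw [h, mem_bot] at this
      exact this), ?_, hc, ?_⟩
  · rw [mem_normalizer_iff]
    intro a
    constructor
    · intro ha
      have := hconj 1 a ha
      rwa [zpow_one] at this
    · intro ha
      have := hconj (-1) _ ha
      have h2 : c ^ (-1 : ℤ) * (c * a * c⁻¹) * (c ^ (-1 : ℤ))⁻¹ = a := by group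
      rwa [h2] at this
  · intro j h0 hj a ha haj
    by_contra ha1
    have ha3 : orderOf a = 3 := by
      have : Fact (Nat.Prime 3) := ⟨Nat.prime_three⟩
      exact orderOf_eq_prime (hcubeT a ha) ha1
    by_cases h11 : j = 11
    · subst h11
      have h1 := hinvT a ha
      rw [← haj, mul_inv_cancel_right] at h1
      have h2 : a ^ 2 = 1 := by
        rw [pow_two]
        nth_rewrite 1 [h1]
        exact inv_mul_cancel a
      have h3 := orderOf_dvd_of_pow_eq_one h2
      rw [ha3] at h3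
      norm_num at h3
    · have h1 : orderOf (c ^ (2 * j)) = 11 := by
        have h2 : Nat.gcd 22 (2 * j) = 2 := by
          interval_cases j <;> first | rfl | exact absurd rfl h11
        rw [orderOf_pow' c (by omega), hc, h2]
      have h2 : Commute (c ^ (2 * j)) a := by
        rw [two_mul, pow_add]
        have h3 : Commute (c ^ j) a := (show a * c ^ j = c ^ j * a from haj).symm
        exact h3.mul_left h3
      exact h33 (hasOrd_mul h2 h1 ha3 (by norm_num))

end Cfsg.Agent.H345.RecFrob
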